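import Cfsg.Agent.Lib.CoreSolvable

/-!
# Solvable linear groups: basic notions
-/

set_option autoImplicit false

namespace CfsgLib.SLin

open Subgroup
open scoped commutatorElement

universe u

section ds
variable {X : Type*} [Group X]

/-- the derived series of a subgroup, inside the ambient group -/
def ds (H : Subgroup X) : ℕ → Subgroup X
  | 0 => H
  | n + 1 => ⁅ds H n, ds H n⁆

theorem ds_zero (H : Subgroup X) : ds H 0 = H := rfl
theorem ds_succ (H : Subgroup X) (n : ℕ) : ds H (n + 1) = ⁅ds H n, ds H n⁆ := rfl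

theorem map_ds {Y : Type*} [Group Y] (f : X →* Y) (H : Subgroup X) (n : ℕ) :
    (ds H n).map f = ds (H.map f) n := by
  induction n with
  | zero => rfl
  | succ n ih => rw [ds_succ, map_commutator, ih, ds_succ]

theorem ds_mono {H K : Subgroup X} (h : H ≤ K) (n : ℕ) : ds H n ≤ ds K n := by
  induction n with
  | zero => exact h
  | succ n ih => exact commutator_mono ih ih

theorem ds_add (H : Subgroup X) (m n : ℕ) : ds H (m + n) = ds (ds H m) n := by
  induction n with
  | zero => rfl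
  | succ n ih => rw [← add_assoc, ds_succ, ih, ds_succ]

theorem ds_le (H : Subgroup X) (n : ℕ) : ds H n ≤ H := by
  induction n with
  | zero => exact le_rfl
  | succ n ih =>
    rw [ds_succ, commutator_le]
    intro a ha b hb
    rw [commutatorElement_def]
    exact mul_mem (mul_mem (mul_mem (ih ha) (ih hb)) (inv_mem (ih ha))) (inv_mem (ih hb))

theorem ds_anti (H : Subgroup X) {m n : ℕ} (h : m ≤ n) : ds H n ≤ ds H m := by
  obtain ⟨k, rfl⟩ := Nat.exists_eq_add_of_le h
  rw [ds_add]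
  exact ds_le _ _

theorem ds_top (n : ℕ) : ds (⊤ : Subgroup X) n = derivedSeries X n := by
  induction n with
  | zero => rfl
  | succ n ih => rw [ds_succ, ih, derivedSeries_succ]

theorem ds_normal (H : Subgroup X) [hH : H.Normal] (n : ℕ) : (ds H n).Normal := by
  induction n with
  | zero => exact hH
  | succ n ih => rw [ds_succ]; infer_instance

theorem mem_ds_map {Y : Type*} [Group Y] (f : X →* Y) {H : Subgroup X} {n : ℕ} {g : X}
    (hg : g ∈ ds H n) : f g ∈ ds (H.map f) n := by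
  rw [← map_ds]; exact mem_map_of_mem f hg

theorem ds_one_le {H K : Subgroup X} (h : ∀ a ∈ H, ∀ b ∈ H, ⁅a, b⁆ ∈ K) : ds H 1 ≤ K :=
  commutator_le.2 h

theorem mem_ds_subgroupOf {T H : Subgroup X} (h : T ≤ H) {n : ℕ} {g : X} (hg : g ∈ ds T n) :
    ∃ hH : g ∈ H, (⟨g, hH⟩ : H) ∈ ds (T.subgroupOf H) n := by
  have h1 : ds T n = (ds (T.subgroupOf H) n).map H.subtype := by
    rw [map_ds, map_subgroupOf_eq_of_le h]
  rw [h1] at hg
  obtain ⟨y, hy, rfl⟩ := hg
  exact ⟨y.2, hy⟩

theorem derivedSeries_eq_bot_of_ds {H : Subgroup X} {n : ℕ} (h : ds H n = ⊥) :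
    derivedSeries H n = ⊥ := by
  rw [← ds_top, ← Subgroup.map_eq_bot_iff_of_injective _ H.subtype_injective, map_ds,
    ← MonoidHom.range_eq_map, H.range_subtype, h]

end ds

section act
variable {A V : Type*} [Group A] [CommGroup V]

theorem act_mul (φ : A →* MulAut V) (g h : A) (v : V) : φ (g * h) v = φ g (φ h v) := by
  rw [map_mul]; rfl

theorem act_one (φ : A →* MulAut V) (v : V) : φ 1 v = v := by
  rw [map_one]; rfl

theorem act_inv_act (φ : A →* MulAut V) (g : A) (v : V) : φ g⁻¹ (φ g v) = v := by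
  rw [← act_mul, inv_mul_cancel, act_one]

theorem act_act_inv (φ : A →* MulAut V) (g : A) (v : V) : φ g (φ g⁻¹ v) = v := by
  rw [← act_mul, mul_inv_cancel, act_one]

theorem mem_ker_iff {φ : A →* MulAut V} {g : A} : g ∈ φ.ker ↔ ∀ v, φ g v = v := by
  rw [MonoidHom.mem_ker]
  exact ⟨fun h v => by rw [h]; rfl, fun h => MulEquiv.ext h⟩

/-- `W` is invariant under the subgroup `H` -/
def InvBy (φ : A →* MulAut V) (H : Subgroup A) (W : Subgroup V) : Prop :=
  ∀ a ∈ H, ∀ w ∈ W, φ a w ∈ W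

/-- `W` is invariant -/
def Inv (φ : A →* MulAut V) (W : Subgroup V) : Prop := ∀ a, ∀ w ∈ W, φ a w ∈ W

/-- complete reducibility -/
def CR (φ : A →* MulAut V) : Prop := ∀ W, Inv φ W → ∃ W', Inv φ W' ∧ IsCompl W W'

/-- irreducibility (the trivial module is allowed) -/
def Irr (φ : A →* MulAut V) : Prop := ∀ W, Inv φ W → W = ⊥ ∨ W = ⊤

theorem Irr.cr {φ : A →* MulAut V} (h : Irr φ) : CR φ := by
  intro W hW
  rcases h W hW with rfl | rfl
  · exact ⟨⊤, fun _ _ _ => mem_top _, isCompl_bot_top⟩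
  · refine ⟨⊥, fun a w hw => ?_, isCompl_top_bot⟩
    rw [mem_bot] at hw ⊢
    rw [hw, map_one]

theorem Inv.invBy {φ : A →* MulAut V} {W : Subgroup V} (h : Inv φ W) (H : Subgroup A) :
    InvBy φ H W := fun a _ => h a

/-- the restricted action -/
def res (φ : A →* MulAut V) (H : Subgroup A) (W : Subgroup V) (h : InvBy φ H W) :
    H →* MulAut W where
  toFun a :=
    { toFun := fun w => ⟨φ a w, h a a.2 w w.2⟩
      invFun := fun w => ⟨φ (a : A)⁻¹ w, h _ (inv_mem a.2) w w.2⟩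
      left_inv := fun w => Subtype.ext (act_inv_act φ _ _)
      right_inv := fun w => Subtype.ext (act_act_inv φ _ _)
      map_mul' := fun v w => Subtype.ext (map_mul _ _ _) }
  map_one' := MulEquiv.ext fun w => Subtype.ext (act_one φ _)
  map_mul' a b := MulEquiv.ext fun w => Subtype.ext (act_mul φ _ _ _)

theorem res_apply {φ : A →* MulAut V} {H : Subgroup A} {W : Subgroup V} (h : InvBy φ H W)
    (a : H) (w : W) : ((res φ H W h a w : W) : V) = φ a w := rfl

theorem mem_ker_res {φ : A →* MulAut V} {H : Subgroup A} {W : Subgroup V} (h : InvBy φ H W)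
    {a : H} : a ∈ (res φ H W h).ker ↔ ∀ w ∈ W, φ a w = w := by
  rw [mem_ker_iff]
  exact ⟨fun h1 w hw => congrArg Subtype.val (h1 ⟨w, hw⟩), fun h1 w => Subtype.ext (h1 w w.2)⟩

/-- the restricted action of the whole group on an invariant subgroup -/
def resT (φ : A →* MulAut V) (W : Subgroup V) (h : Inv φ W) : A →* MulAut W :=
  (res φ ⊤ W (h.invBy ⊤)).comp (Subgroup.topEquiv (G := A)).symm.toMonoidHom

theorem resT_apply {φ : A →* MulAut V} {W : Subgroup V} (h : Inv φ W)
    (a : A) (w : W) : ((resT φ W h a w : W) : V) = φ a w := rfl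

theorem mem_ker_resT {φ : A →* MulAut V} {W : Subgroup V} (h : Inv φ W)
    {a : A} : a ∈ (resT φ W h).ker ↔ ∀ w ∈ W, φ a w = w := by
  rw [mem_ker_iff]
  exact ⟨fun h1 w hw => congrArg Subtype.val (h1 ⟨w, hw⟩), fun h1 w => Subtype.ext (h1 w w.2)⟩

theorem CR.resT {φ : A →* MulAut V} (hcr : CR φ) {W : Subgroup V} (h : Inv φ W) :
    CR (resT φ W h) := by
  intro N hN
  obtain ⟨N', h1, h2⟩ := hcr (N.map W.subtype) (by
    rintro a _ ⟨w, hw, rfl⟩
    exact ⟨_, hN a w hw, rfl⟩)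
  refine ⟨N'.subgroupOf W, fun a w hw => h1 a w hw, ?_, ?_⟩
  · rw [disjoint_def]
    intro x hx hx'
    exact Subtype.ext (disjoint_def.1 h2.disjoint (mem_map_of_mem _ hx) hx')
  · rw [codisjoint_iff, eq_top_iff]
    intro w _
    have h3 : (w : V) ∈ N.map W.subtype ⊔ N' := by rw [h2.sup_eq_top]; exact mem_top _
    obtain ⟨_, ⟨y, hy, rfl⟩, z, hz, e⟩ := mem_sup.1 h3
    have hzW : z ∈ W := by
      have : z = ((y⁻¹ * w : W) : V) := by
        rw [← inv_mul_eq_iff_eq_mul.2 e.symm]; simp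
      rw [this]; exact Subtype.prop _
    have : w = y * ⟨z, hzW⟩ := Subtype.ext e.symm
    rw [this]
    exact mul_mem (mem_sup_left hy) (mem_sup_right hz)

theorem card_of_isCompl [Finite V] {W W' : Subgroup V} (h : IsCompl W W') :
    Nat.card W * Nat.card W' = Nat.card V := by
  rw [← card_sup_of_disjoint (by rw [normalizer_eq_top]; exact le_top) h.inf_eq_bot, h.sup_eq_top,
    card_top]

theorem ker_of_isCompl {φ : A →* MulAut V} {W W' : Subgroup V} (h : IsCompl W W') {a : A}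
    (h1 : ∀ w ∈ W, φ a w = w) (h2 : ∀ w ∈ W', φ a w = w) : a ∈ φ.ker := by
  rw [mem_ker_iff]
  intro v
  have h3 : v ∈ W ⊔ W' := by rw [h.sup_eq_top]; exact mem_top _
  obtain ⟨y, hy, z, hz, rfl⟩ := mem_sup.1 h3
  rw [map_mul, h1 y hy, h2 z hz]

theorem fix_of_isCompl {φ : A →* MulAut V} {W W' : Subgroup V} (h : IsCompl W W')
    (hW : Inv φ W) (hW' : Inv φ W') {a : A} {w w' : V} (hw : w ∈ W) (hw' : w' ∈ W')
    (e : φ a (w * w') = w * w') : φ a w = w ∧ φ a w' = w' := by
  rw [map_mul] at e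
  have h1 : w⁻¹ * φ a w = w' * (φ a w')⁻¹ := by
    rw [inv_mul_eq_iff_eq_mul, ← mul_assoc, eq_mul_inv_iff_mul_eq, e]
  have h2 : w⁻¹ * φ a w = 1 :=
    disjoint_def.1 h.disjoint (mul_mem (inv_mem hw) (hW a w hw))
      (h1 ▸ mul_mem hw' (inv_mem (hW' a w' hw')))
  rw [h2] at h1
  exact ⟨(inv_mul_eq_one.1 h2).symm, (mul_inv_eq_one.1 h1.symm).symm⟩

theorem CR.range {φ : A →* MulAut V} (h : CR φ) : CR φ.range.subtype := by
  intro W hW
  obtain ⟨W', h1, h2⟩ := h W (fun a => hW ⟨φ a, a, rfl⟩)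
  exact ⟨W', by rintro ⟨_, a, rfl⟩; exact h1 a, h2⟩

theorem Irr.range {φ : A →* MulAut V} (h : Irr φ) : Irr φ.range.subtype :=
  fun W hW => h W (fun a => hW ⟨φ a, a, rfl⟩)

/-- `k` inequivalent vectors whose stabilisers have derived length at most `a` on `V` -/
def Prof (φ : A →* MulAut V) (k a : ℕ) : Prop :=
  ∃ y : Fin k → V, (∀ i j g, φ g (y i) = y j → i = j) ∧
    ∀ i (T : Subgroup A), (∀ g ∈ T, φ g (y i) = y i) → ds T a ≤ φ.ker

theorem Prof.of_range {φ : A →* MulAut V} {k a : ℕ} (h : Prof φ.range.subtype k a) :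
    Prof φ k a := by
  obtain ⟨y, h1, h2⟩ := h
  refine ⟨y, fun i j g e => h1 i j ⟨φ g, g, rfl⟩ e, fun i T hT g hg => ?_⟩
  have := h2 i (T.map φ.rangeRestrict) (by
    rintro _ ⟨t, ht, rfl⟩
    exact hT t ht) (mem_ds_map _ hg)
  rw [MonoidHom.mem_ker] at this ⊢
  exact this

theorem Prof.mono {φ : A →* MulAut V} {k a k' a' : ℕ} (h : Prof φ k a) (hk : k' ≤ k)
    (ha : a ≤ a') : Prof φ k' a' := by
  obtain ⟨y, h1, h2⟩ := h
  refine ⟨fun i => y (Fin.castLE hk i), fun i j g e => Fin.castLE_injective hk (h1 _ _ g e),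
    fun i T hT => (ds_anti T ha).trans (h2 _ T hT)⟩

theorem ker_le_of_range {φ : A →* MulAut V} {k : ℕ}
    (h : ds (⊤ : Subgroup φ.range) k ≤ φ.range.subtype.ker) : ds ⊤ k ≤ φ.ker := by
  intro g hg
  have := h (ds_mono le_top k (mem_ds_map φ.rangeRestrict hg))
  rw [MonoidHom.mem_ker] at this ⊢
  exact this

theorem index_ker_range (φ : A →* MulAut V) : φ.range.subtype.ker.index = φ.ker.index := by
  rw [index_ker, index_ker, Subgroup.range_subtype]

end act

/-- `m` inequivalent colourings with `k` colours, whose stabilisers have derived length at most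
`b` on `Ω` -/
def CProf (A Ω : Type*) [Group A] [MulAction A Ω] (k m b : ℕ) : Prop :=
  ∃ c : Fin m → Ω → Fin k, (∀ i j (g : A), (∀ ω, c j (g • ω) = c i ω) → i = j) ∧
    ∀ i (T : Subgroup A), (∀ g ∈ T, ∀ ω, c i (g • ω) = c i ω) → ∀ g ∈ ds T b, ∀ ω : Ω, g • ω = ω

end CfsgLib.SLin
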