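import Cfsg.Agent.Lib.SLin.Basic

/-!
# Colourings of abelian `r`-groups with small affine stabilisers
-/

set_option autoImplicit false

namespace CfsgLib.SLin

open Subgroup

universe u

section aff
variable {V : Type*} [CommGroup V]

/-- affine permutations -/
def Aff (g : Equiv.Perm V) : Prop := ∀ x y, g (x * y) = g x * (g 1)⁻¹ * g y

theorem Aff.one : Aff (1 : Equiv.Perm V) := fun x y => by simp

/-- linear part -/
def Aff.lin {g : Equiv.Perm V} (h : Aff g) : V →* V where
  toFun x := (g 1)⁻¹ * g x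
  map_one' := inv_mul_cancel _
  map_mul' x y := by rw [h x y]; simp only [mul_assoc, mul_left_comm, mul_comm]

theorem Aff.lin_apply {g : Equiv.Perm V} (h : Aff g) (x : V) : h.lin x = (g 1)⁻¹ * g x := rfl

theorem Aff.apply {g : Equiv.Perm V} (h : Aff g) (x : V) : g x = g 1 * h.lin x := by
  rw [h.lin_apply, mul_inv_cancel_left]

theorem Aff.lin_injective {g : Equiv.Perm V} (h : Aff g) : Function.Injective h.lin :=
  fun _ _ e => g.injective (mul_left_cancel e)

theorem aff_of {g : Equiv.Perm V} (t : V) (α : V →* V) (h : ∀ x, g x = t * α x) : Aff g := by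
  intro x y
  simp only [h, map_mul, map_one, mul_one]
  rw [mul_comm t (α x), mul_inv_cancel_right, mul_left_comm]

theorem Aff.mul {g g' : Equiv.Perm V} (h : Aff g) (h' : Aff g') : Aff (g * g') :=
  aff_of (g (g' 1)) (h.lin.comp h'.lin) fun x => by
    rw [Equiv.Perm.mul_apply, h'.apply x, h (g' 1), h.apply (h'.lin x), MonoidHom.comp_apply,
      mul_assoc, inv_mul_cancel_left]

theorem Aff.pow {g : Equiv.Perm V} (h : Aff g) (n : ℕ) : Aff (g ^ n) := by
  induction n with
  | zero => exact Aff.one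
  | succ n ih => rw [pow_succ]; exact ih.mul h

/-- fixed points of an affine map fixing `1` -/
def Aff.fix {g : Equiv.Perm V} (h : Aff g) (h1 : g 1 = 1) : Subgroup V where
  carrier := {x | g x = x}
  one_mem' := h1
  mul_mem' {x y} hx hy := by
    simp only [Set.mem_setOf_eq] at hx hy ⊢
    rw [h x y, hx, hy, h1, inv_one, mul_one]
  inv_mem' {x} hx := by
    simp only [Set.mem_setOf_eq] at hx ⊢
    have := h x x⁻¹
    rw [mul_inv_cancel, h1, hx, inv_one, mul_one] at this
    exact (eq_inv_of_mul_eq_one_right this.symm)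

theorem eq_top_of_index_prime {H K : Subgroup V} (hp : H.index.Prime) (hHK : H ≤ K) {x : V}
    (hx : x ∉ H) (hxK : x ∈ K) : K = ⊤ := by
  have h1 := relIndex_mul_index hHK
  rcases (Nat.dvd_prime hp).1 (Dvd.intro_left _ h1) with h | h
  · exact index_eq_one.1 h
  · rw [h] at h1
    have : H.relIndex K = 1 := Nat.eq_of_mul_eq_mul_right hp.pos (by rw [h1, one_mul])
    exact absurd (relIndex_eq_one.1 this hxK) hx

theorem Aff.eq_one {g : Equiv.Perm V} (h : Aff g) {H : Subgroup V} (hp : H.index.Prime) {x : V}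
    (hx : x ∉ H) (h1 : ∀ y ∈ H, g y = y) (h2 : g x = x) : g = 1 := by
  have := eq_top_of_index_prime (K := h.fix (h1 1 H.one_mem)) hp h1 hx h2
  ext y
  have hy : y ∈ h.fix (h1 1 H.one_mem) := this ▸ mem_top y
  exact hy

theorem Aff.subtypePerm {g : Equiv.Perm V} (h : Aff g) {H : Subgroup V}
    (hH : ∀ x, g x ∈ H ↔ x ∈ H) : Aff (V := H) (g.subtypePerm hH) :=
  fun x y => Subtype.ext (h x y)

theorem Aff.exists_dvd [Finite V] {g : Equiv.Perm V} (h : Aff g) (H : Subgroup V)
    (hne : ¬ ∀ x, g x ∈ H ↔ x ∈ H) :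
    ∃ j, 2 ≤ j ∧ j ∣ Nat.card H ∧ j * {x | x ∈ H ∧ g x ∈ H}.ncard ≤ Nat.card H ∨
      {x | x ∈ H ∧ g x ∈ H} = ∅ := by
  by_cases he : {x | x ∈ H ∧ g x ∈ H} = ∅
  · exact ⟨0, Or.inr he⟩
  obtain ⟨x0, hx0, hx0'⟩ := Set.nonempty_iff_ne_empty.2 he
  set K := H ⊓ H.comap h.lin
  have hK : K ≠ H := by
    intro e
    have h1 : ∀ x ∈ H, g x ∈ H := by
      intro x hx
      have h2 : x0⁻¹ * x ∈ K := e ▸ mul_mem (inv_mem hx0) hx
      have h3 : g x = g x0 * h.lin (x0⁻¹ * x) := by
        rw [map_mul, map_inv, h.lin_apply, h.lin_apply]; simp [mul_assoc]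
      rw [h3]
      exact mul_mem hx0' h2.2
    apply hne
    intro x
    refine ⟨fun hx => ?_, h1 x⟩
    have h2 : Function.Injective (fun y : H => (⟨g y, h1 y y.2⟩ : H)) :=
      fun a b e => Subtype.ext (g.injective (congrArg Subtype.val e))
    obtain ⟨y, hy⟩ := Finite.surjective_of_injective h2 ⟨g x, hx⟩
    have : (y : V) = x := g.injective (congrArg Subtype.val hy)
    exact this ▸ y.2
  have hc := card_mul_relIndex (H := K) (K := H) inf_le_left
  have h1 : K.relIndex H ≠ 1 := fun e => hK (le_antisymm inf_le_left (relIndex_eq_one.1 e))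
  have h0 : K.relIndex H ≠ 0 := by
    intro e; rw [e, mul_zero] at hc; exact Nat.card_pos.ne hc
  refine ⟨K.relIndex H, Or.inl ⟨by omega, Dvd.intro_left _ hc, ?_⟩⟩
  rw [← hc, mul_comm]
  refine Nat.mul_le_mul_right _ ?_
  rw [← SetLike.coe_sort_coe, Nat.card_coe_set_eq]
  refine Set.ncard_le_ncard_of_injOn (fun x => x0⁻¹ * x) (fun x hx => ?_)
    (fun a _ b _ e => mul_left_cancel e)
  refine ⟨H.mul_mem (H.inv_mem hx0) hx.1, ?_⟩
  have h3 : h.lin (x0⁻¹ * x) = (g x0)⁻¹ * g x := by
    rw [map_mul, map_inv, h.lin_apply, h.lin_apply]; simp [mul_assoc]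
  change h.lin (x0⁻¹ * x) ∈ H
  rw [h3]
  exact mul_mem (inv_mem hx0') hx.2

end aff

section col
variable {V κ : Type*}

/-- size of a colour class -/
noncomputable def sz (c : V → κ) (k : κ) : ℕ := {v | c v = k}.ncard

/-- `g` carries the colouring `c` to `c'` -/
def Car (g : Equiv.Perm V) (c c' : V → κ) : Prop := ∀ v, c' (g v) = c v

theorem Car.sz_eq {g : Equiv.Perm V} {c c' : V → κ} (h : Car g c c') : sz c = sz c' := by
  funext k
  unfold sz
  refine Set.ncard_congr (fun v _ => g v) (fun v hv => ?_) (fun _ _ _ _ e => g.injective e)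
    (fun w hw => ⟨g.symm w, ?_, g.apply_symm_apply w⟩)
  · simp only [Set.mem_setOf_eq] at hv ⊢
    rw [h, hv]
  · simp only [Set.mem_setOf_eq] at hw ⊢
    rw [← h, g.apply_symm_apply, hw]

theorem Car.pow {g : Equiv.Perm V} {c : V → κ} (h : Car g c c) (n : ℕ) : Car (g ^ n) c c := by
  induction n with
  | zero => exact fun _ => rfl
  | succ n ih => intro v; rw [pow_succ, Equiv.Perm.mul_apply, ih, h]

theorem Car.of_comp {κ' : Type*} {g : Equiv.Perm V} {c c' : V → κ} {π : κ → κ'}
    (hπ : Function.Injective π) (h : Car g (π ∘ c) (π ∘ c')) : Car g c c' :=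
  fun v => hπ (h v)

theorem sz_comp {κ' : Type*} (c : V → κ) {π : κ → κ'} (hπ : Function.Injective π) (k : κ) :
    sz (π ∘ c) (π k) = sz c k := by
  unfold sz
  congr 1
  ext v
  exact hπ.eq_iff

theorem sum_sz [Finite V] [Fintype κ] (c : V → κ) : ∑ k, sz c k = Nat.card V := by
  classical
  have := Fintype.ofFinite V
  rw [Nat.card_eq_fintype_card, ← Finset.card_univ,
    Finset.card_eq_sum_card_fiberwise (f := c) (t := Finset.univ) (fun _ _ => Finset.mem_univ _)]
  refine Finset.sum_congr rfl fun k _ => ?_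
  unfold sz
  rw [← Set.ncard_coe_finset]
  congr 1
  ext v
  simp

theorem Car.sq_fix [Finite V] {g : Equiv.Perm V} {c : V → κ} (h : Car g c c) {y : V}
    (hy : sz c (c y) ≤ 2) : g (g y) = y := by
  by_contra hne
  have h1 : g y ≠ y := fun e => hne (by rw [e, e])
  have h2 : g (g y) ≠ g y := fun e => h1 (g.injective e)
  have : 2 < sz c (c y) := by
    unfold sz
    rw [Set.two_lt_ncard (Set.toFinite _)]
    exact ⟨y, rfl, g y, h y, g (g y), (h _).trans (h y), h1.symm, Ne.symm hne, h2.symm⟩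
  omega

theorem Car.fix [Finite V] {g : Equiv.Perm V} {c : V → κ} (h : Car g c c) {y : V}
    (hy : sz c (c y) ≤ 1) : g y = y := by
  unfold sz at hy
  exact (Set.ncard_le_one (Set.toFinite _)).1 hy _ (h y) _ rfl

theorem exists_rare [Finite V] [Fintype κ] [Nonempty κ] (c : V → κ) :
    ∃ α, (∀ k, sz c α ≤ sz c k) ∧ Fintype.card κ * sz c α ≤ Nat.card V := by
  obtain ⟨α, -, h⟩ := Finset.exists_min_image Finset.univ (sz c) Finset.univ_nonempty
  refine ⟨α, fun k => h k (Finset.mem_univ _), ?_⟩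
  rw [← sum_sz c, ← Finset.card_univ, ← smul_eq_mul]
  exact Finset.card_nsmul_le_sum _ _ _ h

end col

section hr
variable {V κ : Type*} [CommGroup V]

open Classical in
/-- extension of a colouring from a subgroup -/
noncomputable def ext (H : Subgroup V) (c : H → κ) (x : V) (α β : κ) (v : V) : κ :=
  if h : v ∈ H then c ⟨v, h⟩ else if v = x then β else α

variable {H : Subgroup V} {c : H → κ} {x : V} {α β : κ}

theorem ext_mem (v : H) : ext H c x α β v = c v := by
  unfold ext; rw [dif_pos v.2]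

theorem ext_self (hx : x ∉ H) : ext H c x α β x = β := by
  unfold ext; rw [dif_neg hx, if_pos rfl]

theorem ext_other {v : V} (hv : v ∉ H) (hvx : v ≠ x) : ext H c x α β v = α := by
  unfold ext; rw [dif_neg hv, if_neg hvx]

theorem ncard_map_val (S : Set H) : ((↑) '' S : Set V).ncard = S.ncard :=
  Set.ncard_image_of_injective _ Subtype.val_injective

theorem sz_ext_other {k : κ} (h1 : k ≠ α) (h2 : k ≠ β) : sz (ext H c x α β) k = sz c k := by
  unfold sz
  rw [← ncard_map_val]
  congr 1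
  ext v
  simp only [Set.mem_setOf_eq, Set.mem_image]
  constructor
  · intro h
    by_cases hv : v ∈ H
    · exact ⟨⟨v, hv⟩, (ext_mem ⟨v, hv⟩).symm.trans h, rfl⟩
    · unfold ext at h
      rw [dif_neg hv] at h
      split_ifs at h
      · exact absurd h.symm h2
      · exact absurd h.symm h1
  · rintro ⟨w, hw, rfl⟩
    rw [ext_mem, hw]

theorem sz_ext_beta [Finite V] (hx : x ∉ H) (hαβ : α ≠ β) :
    sz (ext H c x α β) β = sz c β + 1 := by
  unfold sz
  rw [← ncard_map_val, ← Set.ncard_insert_of_notMem (a := x) (by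
    rintro ⟨w, -, rfl⟩; exact hx w.2)]
  congr 1
  ext v
  simp only [Set.mem_setOf_eq, Set.mem_image, Set.mem_insert_iff]
  constructor
  · intro h
    by_cases hv : v ∈ H
    · exact Or.inr ⟨⟨v, hv⟩, (ext_mem ⟨v, hv⟩).symm.trans h, rfl⟩
    · by_cases hvx : v = x
      · exact Or.inl hvx
      · rw [ext_other hv hvx] at h
        exact absurd h hαβ
  · rintro (rfl | ⟨w, hw, rfl⟩)
    · exact ext_self hx
    · rw [ext_mem, hw]

theorem sz_ext_alpha [Finite V] [Fintype κ] (hx : x ∉ H) (hαβ : α ≠ β) :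
    sz (ext H c x α β) α + Nat.card H + 1 = sz c α + Nat.card V := by
  classical
  have h1 := sum_sz (ext H c x α β)
  have h2 := sum_sz c
  rw [← Finset.add_sum_erase _ _ (Finset.mem_univ α),
    ← Finset.add_sum_erase _ _ (Finset.mem_erase.2 ⟨hαβ.symm, Finset.mem_univ β⟩)] at h1 h2
  rw [sz_ext_beta hx hαβ, Finset.sum_congr rfl (fun k hk => sz_ext_other
    (Finset.mem_erase.1 (Finset.mem_erase.1 hk).2).1 (Finset.mem_erase.1 hk).1)] at h1
  omega

theorem hr [Finite V] [Fintype κ] (hx : x ∉ H) (hαβ : α ≠ β) (hH : 2 + sz c α ≤ Nat.card H)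
    (hbig : ∀ j, 2 ≤ j → j ∣ Nat.card H → Nat.card H + j + j * sz c α < j * Nat.card H)
    {g : Equiv.Perm V} (hg : Aff g) (h : Car g (ext H c x α β) (ext H c x α β)) :
    ∃ hH : ∀ v, g v ∈ H ↔ v ∈ H, g x = x ∧ Car (g.subtypePerm hH) c c := by
  classical
  have key : ∀ v, g v ∈ H ↔ v ∈ H := by
    by_contra hne
    have h1 : ((↑) '' {w : H | c w ≠ α} : Set V) ⊆ insert (g.symm x) {v | v ∈ H ∧ g v ∈ H} := by
      rintro _ ⟨w, hw, rfl⟩
      by_cases h2 : g w ∈ H
      · exact Or.inr ⟨w.2, h2⟩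
      · left
        rw [Equiv.eq_symm_apply]
        by_contra h3
        exact hw ((ext_mem w).symm.trans ((h w).symm.trans (ext_other h2 h3)))
    have h2 := Set.ncard_le_ncard h1
    rw [ncard_map_val] at h2
    have h3 : {w : H | c w ≠ α}.ncard + sz c α = Nat.card H := by
      rw [add_comm]
      exact Set.ncard_add_ncard_compl {w : H | c w = α}
    have h4 := Set.ncard_insert_le (g.symm x) {v | v ∈ H ∧ g v ∈ H}
    obtain ⟨j, ⟨h5, h6, h7⟩ | h5⟩ := hg.exists_dvd H hne
    · have h8 := hbig j h5 h6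
      have h9 : j * Nat.card H ≤ j * ({v | v ∈ H ∧ g v ∈ H}.ncard + 1 + sz c α) :=
        Nat.mul_le_mul_left _ (by omega)
      nlinarith
    · rw [h5, Set.ncard_empty] at h4
      rw [h5] at h2
      omega
  refine ⟨key, ?_, fun v => ?_⟩
  · by_contra hne
    have := h x
    rw [ext_other (fun e => hx ((key x).1 e)) hne, ext_self hx] at this
    exact hαβ this
  · have := h v
    rw [ext_mem] at this
    rw [← this]
    exact (ext_mem (H := H) ⟨g v, (key v).2 v.2⟩).symm

end hr

section span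
variable {V : Type u} [CommGroup V]

/-- affinely spanning sets -/
def Span (Δ : Set V) : Prop := ∀ g : Equiv.Perm V, Aff g → (∀ x ∈ Δ, g x = x) → g = 1

theorem Span.mono {Δ Δ' : Set V} (h : Span Δ) (h' : Δ ⊆ Δ') : Span Δ' :=
  fun g hg h1 => h g hg fun x hx => h1 x (h' hx)

theorem exists_index_prime [Finite V] {r d : ℕ} (hr : r.Prime) (hV : Nat.card V = r ^ (d + 1)) :
    ∃ H : Subgroup V, Nat.card H = r ^ d ∧ H.index.Prime ∧ ∃ x, x ∉ H := by
  have := Fact.mk hr
  obtain ⟨H, hH⟩ := Sylow.exists_subgroup_card_pow_prime (G := V) r (n := d)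
    (by rw [hV]; exact pow_dvd_pow _ (Nat.le_succ d))
  have h1 := H.card_mul_index
  rw [hH, hV, pow_succ] at h1
  have h2 : H.index = r := Nat.eq_of_mul_eq_mul_left (pow_pos hr.pos d) h1
  refine ⟨H, hH, h2 ▸ hr, ?_⟩
  by_contra hne
  push Not at hne
  rw [(eq_top_iff' H).2 hne, index_top] at h2
  exact hr.one_lt.ne h2

theorem exists_gen {r : ℕ} (hr : r.Prime) (d : ℕ) : ∀ (V : Type u) [CommGroup V] [Finite V],
    Nat.card V = r ^ d → ∃ Δ : Finset V, Δ.card = d + 1 ∧ 1 ∈ Δ ∧ closure (Δ : Set V) = ⊤ := by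
  classical
  induction d with
  | zero =>
    intro V _ _ hV
    have : Subsingleton V := (Nat.card_eq_one_iff_unique.1 (by simpa using hV)).1
    exact ⟨{1}, rfl, Finset.mem_singleton_self _, Subsingleton.elim _ _⟩
  | succ d ih =>
    intro V _ _ hV
    obtain ⟨H, hH, hp, x, hx⟩ := exists_index_prime hr hV
    obtain ⟨Δ, h1, h2, h3⟩ := ih H hH
    refine ⟨insert x (Δ.map (Function.Embedding.subtype _)), ?_, ?_, ?_⟩
    · rw [Finset.card_insert_of_notMem, Finset.card_map, h1]
      intro e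
      obtain ⟨y, -, rfl⟩ := Finset.mem_map.1 e
      exact hx y.2
    · exact Finset.mem_insert_of_mem (Finset.mem_map.2 ⟨1, h2, rfl⟩)
    · refine eq_top_of_index_prime hp ?_ hx (subset_closure (by simp))
      intro y hy
      have h4 : (⟨y, hy⟩ : H) ∈ closure (Δ : Set H) := h3 ▸ mem_top _
      have h5 := mem_map_of_mem H.subtype h4
      rw [MonoidHom.map_closure] at h5
      refine closure_mono ?_ h5
      rintro _ ⟨z, hz, rfl⟩
      simp only [Finset.coe_insert, Finset.coe_map, Set.mem_insert_iff, Set.mem_image]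
      exact Or.inr ⟨z, hz, rfl⟩

theorem span_of_gen {Δ : Set V} (h1 : 1 ∈ Δ) (h2 : closure Δ = ⊤) : Span Δ := by
  intro g hg h
  have h3 : closure Δ ≤ hg.fix (h 1 h1) := (closure_le _).2 h
  ext y
  exact h3 (h2 ▸ mem_top y)

theorem exists_span [Finite V] {r d : ℕ} (hr : r.Prime) (hV : Nat.card V = r ^ d) {s : ℕ}
    (h1 : d + 1 ≤ s) (h2 : s ≤ Nat.card V) : ∃ Δ : Finset V, Δ.card = s ∧ Span (Δ : Set V) := by
  classical
  have := Fintype.ofFinite V
  obtain ⟨Δ, h3, h4, h5⟩ := exists_gen hr d V hV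
  obtain ⟨Δ', h6, -, h7⟩ := Finset.exists_subsuperset_card_eq (Finset.subset_univ Δ)
    (n := s) (h3 ▸ h1) (by rwa [Finset.card_univ, ← Nat.card_eq_fintype_card])
  exact ⟨Δ', h7, (span_of_gen h4 h5).mono h6⟩

end span

end CfsgLib.SLin
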