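import Cfsg.Agent.Lib.SLin.Col

/-!
# Colourings with five and three colours
-/

set_option autoImplicit false

namespace CfsgLib.SLin

open Subgroup

universe u

theorem hbig_of {s n : ℕ} (h : 2 + 2 * s < n) (j : ℕ) (hj : 2 ≤ j) : n + j + j * s < j * n := by
  obtain ⟨k, rfl⟩ := Nat.exists_eq_add_of_le hj
  obtain ⟨m, rfl⟩ := Nat.exists_eq_add_of_lt h
  nlinarith [Nat.zero_le (k * m), Nat.zero_le (k * s)]

theorem eight_le_pow {r d : ℕ} (hr : r.Prime) (hd : 3 ≤ d) : 8 ≤ r ^ d :=
  calc 8 = 2 ^ 3 := rfl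
    _ ≤ r ^ 3 := Nat.pow_le_pow_left hr.two_le 3
    _ ≤ r ^ d := Nat.pow_le_pow_right hr.pos hd

theorem eq_one_of_res {V : Type*} [CommGroup V] {g : Equiv.Perm V} (h : Aff g) {H : Subgroup V}
    (hp : H.index.Prime) {x : V} (hx : x ∉ H) {hH : ∀ v, g v ∈ H ↔ v ∈ H}
    (h1 : g.subtypePerm hH = 1) (h2 : g x = x) : g = 1 :=
  h.eq_one hp hx (fun y hy => congrArg Subtype.val (Equiv.congr_fun h1 ⟨y, hy⟩)) h2

theorem col5 {r : ℕ} (hr' : r.Prime) (d : ℕ) : ∀ (V : Type u) [CommGroup V] [Finite V],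
    Nat.card V = r ^ d → ∃ c : V → Fin 5, (∀ g, Aff g → Car g c c → g = 1) ∧
      ∃ k, 5 * sz c k ≠ Nat.card V := by
  classical
  induction d with
  | zero =>
    intro V _ _ hV
    have : Subsingleton V := (Nat.card_eq_one_iff_unique.1 (by simpa using hV)).1
    exact ⟨fun _ => 0, fun g _ _ => Subsingleton.elim _ _, 0, by rw [hV, pow_zero]; omega⟩
  | succ d ih =>
    intro V _ _ hV
    by_cases hd : d ≤ 2
    · obtain ⟨Δ, h1, h2⟩ := exists_span hr' hV le_rfl (hV ▸ Nat.lt_pow_self hr'.one_lt)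
      obtain ⟨e⟩ : Nonempty (Δ ↪ Fin 4) :=
        Function.Embedding.nonempty_of_card_le (by simp [h1]; omega)
      let c : V → Fin 5 := fun v => if h : v ∈ Δ then (e ⟨v, h⟩).castSucc else Fin.last 4
      have hc : ∀ y ∈ Δ, sz c (c y) = 1 := by
        intro y hy
        unfold sz
        rw [Set.ncard_eq_one]
        refine ⟨y, Set.eq_singleton_iff_unique_mem.2 ⟨rfl, fun v hv => ?_⟩⟩
        simp only [c, Set.mem_setOf_eq, dif_pos hy] at hv
        split_ifs at hv with h
        · exact congrArg Subtype.val (e.injective (Fin.castSucc_injective _ hv))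
        · exact absurd hv (Fin.castSucc_lt_last _).ne'
      have hl : sz c (Fin.last 4) + (d + 1 + 1) = Nat.card V := by
        rw [← h1, ← Set.ncard_coe_finset, add_comm, ← Set.ncard_add_ncard_compl (Δ : Set V)]
        unfold sz
        congr 2
        ext v
        by_cases hv : v ∈ Δ
        · simp only [c, Set.mem_setOf_eq, dif_pos hv, Set.mem_compl_iff, Finset.mem_coe, hv,
            not_true_eq_false, iff_false]
          exact (Fin.castSucc_lt_last _).ne
        · simp [c, hv]
      refine ⟨c, fun g hg h => h2 g hg fun x hx => h.fix (hc x hx).le, ?_⟩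
      by_contra hne
      push Not at hne
      obtain ⟨y, hy⟩ : Δ.Nonempty := Finset.card_pos.1 (by omega)
      have h3 := hne (c y)
      have h4 := hne (Fin.last 4)
      rw [hc y hy] at h3
      have h5 : d = 2 := by omega
      rw [hV, h5] at h3
      have h6 : r < 2 := by
        by_contra h7
        have := Nat.pow_le_pow_left (not_lt.1 h7) (2 + 1)
        omega
      exact absurd hr'.two_le (by omega)
    · obtain ⟨H, hH, hp, x, hx⟩ := exists_index_prime hr' hV
      obtain ⟨c, h1, -⟩ := ih H hH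
      obtain ⟨α, -, h2⟩ := exists_rare c
      rw [Fintype.card_fin] at h2
      obtain ⟨β, hβ⟩ := exists_ne α
      have h8 : 8 ≤ Nat.card H := hH ▸ eight_le_pow hr' (by omega)
      refine ⟨ext H c x α β, fun g hg h => ?_, α, ?_⟩
      · obtain ⟨h3, h4, h5⟩ := hr hx hβ.symm (by omega)
          (fun j hj _ => hbig_of (by omega) j hj) hg h
        exact eq_one_of_res hg hp hx (h1 _ (hg.subtypePerm h3) h5) h4
      · have h3 := sz_ext_alpha (c := c) hx hβ.symm
        have h4 := H.card_mul_index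
        have h5 := Nat.mul_le_mul_left (Nat.card H) hp.two_le
        omega

theorem T5 {r d : ℕ} (hr' : r.Prime) {V : Type u} [CommGroup V] [Finite V]
    (hV : Nat.card V = r ^ d) : ∃ c : Fin 5 → V → Fin 5,
      ∀ i j g, Aff g → Car g (c i) (c j) → i = j ∧ g = 1 := by
  obtain ⟨c, h1, k, h2⟩ := col5 hr' d V hV
  refine ⟨fun i => (· + i) ∘ c, fun i j g hg h => ?_⟩
  have hij : i = j := by
    by_contra hne
    have h3 : ∀ l, sz c (l + (i - j)) = sz c l := by
      intro l
      rw [← sz_comp c (add_left_injective i) l, h.sz_eq, ← sz_comp c (add_left_injective j),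
        add_assoc, sub_add_cancel]
    have h4 : i - j ≠ 0 := sub_ne_zero.2 hne
    generalize i - j = δ at h3 h4
    have h5 := sum_sz c
    rw [Fin.sum_univ_five] at h5
    have a0 := h3 0
    have a1 := h3 1
    have a2 := h3 2
    have a3 := h3 3
    have a4 := h3 4
    apply h2
    fin_cases δ
    · exact absurd rfl h4
    all_goals
      simp only [Fin.mk_one, Fin.reduceFinMk, Fin.isValue, Fin.reduceAdd] at a0 a1 a2 a3 a4
      fin_cases k <;> simp only [Fin.zero_eta, Fin.mk_one, Fin.reduceFinMk, Fin.isValue] <;> omega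
  subst hij
  exact ⟨rfl, h1 g hg (h.of_comp (add_left_injective i))⟩

section three
variable {V : Type u} [CommGroup V] [Finite V]

/-- the affine stabiliser has exponent two -/
def Good {κ : Type*} (c : V → κ) : Prop := ∀ g, Aff g → Car g c c → g * g = 1

omit [Finite V] in
theorem Good.comp {κ κ' : Type*} {c : V → κ} (h : Good c) {π : κ → κ'}
    (hπ : Function.Injective π) : Good (π ∘ c) := fun g hg h1 => h g hg (h1.of_comp hπ)

theorem exists_cb {r d : ℕ} (hr' : r.Prime) (hV : Nat.card V = r ^ d) {a b : ℕ} (ha : a ≤ 2)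
    (hb : b ≤ 2) (h1 : d + 1 ≤ a + b) (h2 : a + b ≤ Nat.card V) :
    ∃ c : V → Fin 3, Good c ∧ sz c 0 = a ∧ sz c 1 = b ∧ sz c 2 + a + b = Nat.card V := by
  classical
  obtain ⟨Δ, h3, h4⟩ := exists_span hr' hV h1 h2
  obtain ⟨A, h5, h6⟩ := Finset.exists_subset_card_eq (s := Δ) (n := a) (by omega)
  let c : V → Fin 3 := fun v => if v ∈ A then 0 else if v ∈ Δ then 1 else 2
  have e0 : sz c 0 = a := by
    rw [← h6, ← Set.ncard_coe_finset]
    unfold sz
    congr 1
    ext v
    simp only [c, Set.mem_setOf_eq, Finset.mem_coe]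
    split_ifs with h h' <;> simp [h]
  have e1 : sz c 1 = b := by
    have : (Δ \ A).card = b := by rw [Finset.card_sdiff_of_subset h5]; omega
    rw [← this, ← Set.ncard_coe_finset]
    unfold sz
    congr 1
    ext v
    simp only [c, Set.mem_setOf_eq, Finset.mem_coe, Finset.mem_sdiff]
    split_ifs with h h' <;> simp [*]
  refine ⟨c, fun g hg h => h4 _ (hg.mul hg) fun x hx => h.sq_fix ?_, e0, e1, ?_⟩
  · by_cases hxA : x ∈ A
    · have : c x = 0 := if_pos hxA
      rw [this]; omega
    · have : c x = 1 := (if_neg hxA).trans (if_pos hx)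
      rw [this]; omega
  · have := sum_sz c
    rw [Fin.sum_univ_three] at this
    omega

theorem Good.ext {κ : Type*} [Fintype κ] {H : Subgroup V} (hp : H.index.Prime) {x : V}
    (hx : x ∉ H) {c : H → κ} (h : Good c) {α β : κ} (hαβ : α ≠ β)
    (hs : 2 + 2 * sz c α < Nat.card H) : Good (ext H c x α β) := by
  intro g hg h1
  obtain ⟨h3, h4, h5⟩ := hr hx hαβ (by omega) (fun j hj _ => hbig_of hs j hj) hg h1
  have h6 := h _ (hg.subtypePerm h3) h5
  rw [Equiv.Perm.subtypePerm_mul] at h6
  exact eq_one_of_res (hg.mul hg) hp hx h6 (by rw [Equiv.Perm.mul_apply, h4, h4])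

theorem step3 {H : Subgroup V} (hp : H.index.Prime) {x : V} (hx : x ∉ H) {c : H → Fin 3}
    (h : Good c) (hpos : ∀ k, 0 < sz c k) (h8 : 8 ≤ Nat.card H) :
    ∃ c : V → Fin 3, Good c ∧ (∀ k, 0 < sz c k) ∧ Function.Injective (sz c) := by
  obtain ⟨α, -, h2⟩ := exists_rare c
  rw [Fintype.card_fin] at h2
  obtain ⟨β, γ, h3, h4, h5, h6, h7⟩ : ∃ β γ, α ≠ β ∧ α ≠ γ ∧ β ≠ γ ∧
      (∀ k, k = α ∨ k = β ∨ k = γ) ∧ sz c γ ≤ sz c β := by
    obtain ⟨β, γ, h3, h4, h5, h6⟩ : ∃ β γ, α ≠ β ∧ α ≠ γ ∧ β ≠ γ ∧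
      (∀ k, k = α ∨ k = β ∨ k = γ) := by clear h2; revert α; decide
    rcases le_total (sz c γ) (sz c β) with h7 | h7
    · exact ⟨β, γ, h3, h4, h5, h6, h7⟩
    · exact ⟨γ, β, h4, h3, h5.symm, fun k => by have := h6 k; tauto, h7⟩
  have e1 := sz_ext_alpha (c := c) hx h3
  have e2 := sz_ext_beta (c := c) hx h3
  have e3 := sz_ext_other (c := c) (x := x) h4.symm h5.symm
  have e4 : sz c α + sz c β + sz c γ = Nat.card H := by
    rw [← sum_sz c, ← Finset.sum_subset (Finset.subset_univ {α, β, γ}) (fun k _ hk => by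
      have := h6 k
      simp only [Finset.mem_insert, Finset.mem_singleton] at hk
      tauto), Finset.sum_insert (by simp [h3, h4]), Finset.sum_pair h5, add_assoc]
  have e5 := H.card_mul_index
  have e6 := Nat.mul_le_mul_left (Nat.card H) hp.two_le
  have p1 := hpos α
  have p2 := hpos β
  have p3 := hpos γ
  refine ⟨SLin.ext H c x α β, h.ext hp hx h3 (by omega), fun k => ?_, fun k l e => ?_⟩
  · rcases h6 k with rfl | rfl | rfl <;> omega
  · rcases h6 k with rfl | rfl | rfl <;> rcases h6 l with rfl | rfl | rfl <;>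
      first | rfl | omega

theorem G3 {r : ℕ} (hr' : r.Prime) (d : ℕ) : ∀ (V : Type u) [CommGroup V] [Finite V],
    Nat.card V = r ^ d → 2 ≤ d → 8 ≤ Nat.card V →
      ∃ c : V → Fin 3, Good c ∧ ∀ k, 0 < sz c k := by
  induction d with
  | zero => intro V _ _ _ h; omega
  | succ d ih =>
    intro V _ _ hV hd h8
    by_cases h3 : d ≤ 2
    · obtain ⟨c, h1, e0, e1, e2⟩ := exists_cb hr' hV (a := 2) (b := 2) le_rfl le_rfl (by omega)
        (by omega)
      refine ⟨c, h1, fun k => ?_⟩
      fin_cases k <;> simp only [Fin.zero_eta, Fin.mk_one, Fin.reduceFinMk, Fin.isValue] <;> omega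
    · obtain ⟨H, hH, hp, x, hx⟩ := exists_index_prime hr' hV
      have h9 : 8 ≤ Nat.card H := hH ▸ eight_le_pow hr' (by omega)
      obtain ⟨c, h1, h2⟩ := ih H hH (by omega) h9
      obtain ⟨c', h4, h5, -⟩ := step3 hp hx h1 h2 h9
      exact ⟨c', h4, h5⟩

/-- five inequivalent good colourings with three colours -/
def T3P (V : Type u) [CommGroup V] : Prop :=
  ∃ c : Fin 5 → V → Fin 3, (∀ i, Good (c i)) ∧ Function.Injective fun i => sz (c i)

omit [Finite V] in
theorem t3_of_inj {c : V → Fin 3} (h : Good c) (hi : Function.Injective (sz c)) : T3P V := by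
  obtain ⟨π⟩ : Nonempty (Fin 5 ↪ Equiv.Perm (Fin 3)) :=
    Function.Embedding.nonempty_of_card_le (by simp [Fintype.card_perm]; decide)
  refine ⟨fun i => π i ∘ c, fun i => h.comp (π i).injective, fun i j e => π.injective ?_⟩
  ext k
  have h1 := congrFun e (π i k)
  simp only at h1
  rw [sz_comp c (π i).injective, ← (π j).apply_symm_apply (π i k),
    sz_comp c (π j).injective] at h1
  rw [← (π j).apply_symm_apply (π i k), ← hi h1]

omit [Finite V] in
theorem t3_of_pair {c c' : V → Fin 3} (h : Good c) (h' : Good c') {s s' : Fin 3 → ℕ}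
    (e : sz c = s) (e' : sz c' = s')
    (hi : Function.Injective fun (i : Fin 5) (k : Fin 3) =>
      (if i.val < 3 then s else s') (k - Fin.ofNat 3 i.val)) : T3P V := by
  refine ⟨fun i => (· + Fin.ofNat 3 i.val) ∘ (if i.val < 3 then c else c'), fun i => ?_, ?_⟩
  · refine Good.comp ?_ (add_left_injective _)
    split_ifs
    exacts [h, h']
  · convert hi using 2 with i
    funext k
    rw [← sub_add_cancel k (Fin.ofNat 3 i.val), sz_comp _ (add_left_injective _),
      add_sub_cancel_right]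
    split_ifs
    · rw [e]
    · rw [e']

theorem vec3 {f : Fin 3 → ℕ} {a b c : ℕ} (h0 : f 0 = a) (h1 : f 1 = b) (h2 : f 2 = c) :
    f = ![a, b, c] := by
  funext k
  fin_cases k
  exacts [h0, h1, h2]

theorem inj3 {f : Fin 3 → ℕ} (h0 : f 0 ≠ f 1) (h1 : f 0 ≠ f 2) (h2 : f 1 ≠ f 2) :
    Function.Injective f := by
  intro k l e
  fin_cases k <;> fin_cases l <;> first | rfl | exact absurd e ‹_› | exact absurd e.symm ‹_›

theorem T3 {r d : ℕ} (hr' : r.Prime) (hV : Nat.card V = r ^ d) (hd : 1 ≤ d) : T3P V := by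
  by_cases h2 : r = 2
  · subst h2
    by_cases h3 : d ≤ 3
    · interval_cases d
      · obtain ⟨c, h1, e0, e1, e2⟩ := exists_cb hr' hV (a := 2) (b := 0) le_rfl (by omega)
          (by omega) (by omega)
        obtain ⟨c', h1', e0', e1', e2'⟩ := exists_cb hr' hV (a := 1) (b := 1) (by omega)
          (by omega) (by omega) (by omega)
        exact t3_of_pair h1 h1' (vec3 (c := 0) e0 e1 (by omega))
          (vec3 (c := 0) e0' e1' (by omega)) (by decide)
      · obtain ⟨c, h1, e0, e1, e2⟩ := exists_cb hr' hV (a := 2) (b := 1) le_rfl (by omega)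
          (by omega) (by omega)
        obtain ⟨c', h1', e0', e1', e2'⟩ := exists_cb hr' hV (a := 2) (b := 2) (by omega)
          (by omega) (by omega) (by omega)
        exact t3_of_pair h1 h1' (vec3 (c := 1) e0 e1 (by omega))
          (vec3 (c := 0) e0' e1' (by omega)) (by decide)
      · obtain ⟨c, h1, e0, e1, e2⟩ := exists_cb hr' hV (a := 2) (b := 2) le_rfl (by omega)
          (by omega) (by omega)
        obtain ⟨H, hH, hp, x, hx⟩ := exists_index_prime hr' hV
        obtain ⟨c', h1', e0', e1', e2'⟩ := exists_cb hr' hH (a := 2) (b := 2) (by omega)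
          (by omega) (by omega) (by omega)
        have f1 := sz_ext_alpha (c := c') (α := 2) (β := 0) hx (by decide)
        have f2 := sz_ext_beta (c := c') (α := 2) (β := 0) hx (by decide)
        have f3 := sz_ext_other (c := c') (x := x) (α := 2) (β := 0) (k := 1) (by decide)
          (by decide)
        exact t3_of_pair h1 (h1'.ext hp hx (α := 2) (β := 0) (by decide) (by omega))
          (vec3 (c := 4) e0 e1 (by omega))
          (vec3 (a := 3) (b := 2) (c := 3) (by omega) (by omega) (by omega)) (by decide)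
    · obtain ⟨d, rfl⟩ : ∃ k, d = k + 1 := ⟨d - 1, by omega⟩
      obtain ⟨H, hH, hp, x, hx⟩ := exists_index_prime hr' hV
      have h9 : 8 ≤ Nat.card H := hH ▸ eight_le_pow hr' (by omega)
      obtain ⟨c, h1, h2⟩ := G3 hr' d H hH (by omega) h9
      obtain ⟨c', h4, -, h5⟩ := step3 hp hx h1 h2 h9
      exact t3_of_inj h4 h5
  · have h3 : 3 ≤ r := by have := hr'.two_le; omega
    have h9 : 9 ≤ r ^ 2 := Nat.pow_le_pow_left h3 2
    by_cases h4 : d ≤ 2
    · interval_cases d
      · rw [pow_one] at hV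
        have h5 : r ≠ 4 := by rintro rfl; exact absurd hr' (by decide)
        obtain ⟨c, h1, e0, e1, e2⟩ := exists_cb hr' (d := 1) (by rwa [pow_one]) (a := 2) (b := 0)
          le_rfl (by omega) (by omega) (by omega)
        exact t3_of_inj h1 (inj3 (by omega) (by omega) (by omega))
      · obtain ⟨c, h1, e0, e1, e2⟩ := exists_cb hr' hV (a := 1) (b := 2)
          (by omega) le_rfl (by omega) (by omega)
        exact t3_of_inj h1 (inj3 (by omega) (by omega) (by omega))
    · obtain ⟨d, rfl⟩ : ∃ k, d = k + 1 := ⟨d - 1, by omega⟩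
      obtain ⟨H, hH, hp, x, hx⟩ := exists_index_prime hr' hV
      have h9 : 8 ≤ Nat.card H := by
        have := Nat.pow_le_pow_right hr'.pos (show 2 ≤ d by omega)
        omega
      obtain ⟨c, h1, h2⟩ := G3 hr' d H hH (by omega) h9
      obtain ⟨c', h4, -, h5⟩ := step3 hp hx h1 h2 h9
      exact t3_of_inj h4 h5

end three

end CfsgLib.SLin
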