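import Cfsg.Agent.Lib.SLin.ColB

/-!
# Colourings with two colours
-/

set_option autoImplicit false

namespace CfsgLib.SLin

open Subgroup

universe u

variable {V : Type u} [CommGroup V] [Finite V]

open Classical in
/-- indicator colouring -/
noncomputable def ind (Δ : Set V) (v : V) : Fin 2 := if v ∈ Δ then 0 else 1

omit [CommGroup V] [Finite V] in
theorem ind_eq_zero {Δ : Set V} {v : V} : ind Δ v = 0 ↔ v ∈ Δ := by
  unfold ind
  split_ifs with h <;> simp [h]

omit [CommGroup V] [Finite V] in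
theorem sz_ind (Δ : Set V) : sz (ind Δ) 0 = Δ.ncard := by
  unfold sz
  congr 1
  ext v
  exact ind_eq_zero

omit [CommGroup V] [Finite V] in
theorem Car.mem_ind {Δ : Set V} {g : Equiv.Perm V} (h : Car g (ind Δ) (ind Δ)) {v : V}
    (hv : v ∈ Δ) : g v ∈ Δ := by
  rw [← ind_eq_zero, h, ind_eq_zero]; exact hv

/-- no nontrivial affine map of odd order preserves the colouring -/
def Go {κ : Type*} (c : V → κ) : Prop :=
  ∀ g, Aff g → Car g c c → ∀ m, Odd m → g ^ m = 1 → g = 1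

theorem eq_one_of_pow_four {X : Type*} [Group X] {g : X} {m : ℕ} (hm : Odd m) (h1 : g ^ m = 1)
    (h2 : g ^ 4 = 1) : g = 1 := by
  have h3 : Nat.Coprime m 4 := by
    rw [show 4 = 2 ^ 2 from rfl]
    exact Nat.Coprime.pow_right 2 (Nat.coprime_two_right.2 hm)
  have := pow_gcd_eq_one.2 ⟨h1, h2⟩
  rwa [h3, pow_one] at this

theorem go_four {r : ℕ} (hr' : r.Prime) (hr2 : r ≠ 2) (hV : Nat.card V = r ^ 2) :
    ∃ c : V → Fin 2, Go c := by
  classical
  obtain ⟨H, hH, hp, y, hy⟩ := exists_index_prime hr' hV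
  rw [pow_one] at hH
  have hodd : Odd (Nat.card V) := hV ▸ (hr'.odd_of_ne_two hr2).pow
  have hsq : ∀ v : V, v * v = 1 → v = 1 := fun v hv =>
    eq_one_of_pow_four hodd pow_card_eq_one' (by
      rw [show 4 = 2 + 2 from rfl, pow_add, pow_two, hv, mul_one])
  have hH1 : H ≠ ⊥ := by
    rintro rfl
    rw [card_bot] at hH
    exact hr'.one_lt.ne hH
  obtain ⟨⟨x, hx⟩, hx1⟩ := ne_bot_iff_exists_ne_one.1 hH1
  have hx1' : x ≠ 1 := fun e => hx1 (Subtype.ext e)
  have hy1 : y ≠ 1 := fun e => hy (e ▸ H.one_mem)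
  have n1 : x ≠ x⁻¹ := fun e => hx1' (hsq x (by nth_rewrite 2 [e]; exact mul_inv_cancel x))
  have n2 : y ≠ y⁻¹ := fun e => hy1 (hsq y (by nth_rewrite 2 [e]; exact mul_inv_cancel y))
  have n3 : x ≠ y := fun e => hy (e ▸ hx)
  have n4 : x ≠ y⁻¹ := fun e => hy (H.inv_mem_iff.1 (e ▸ hx))
  have n5 : x⁻¹ ≠ y := fun e => hy (e ▸ H.inv_mem hx)
  have n6 : x⁻¹ ≠ y⁻¹ := fun e => n3 (inv_injective e)
  let Δ : Finset V := {x, x⁻¹, y, y⁻¹}
  have hΔ : ∏ v ∈ Δ, v = 1 := by
    rw [Finset.prod_insert (by simp [n1, n3, n4]), Finset.prod_insert (by simp [n5, n6]),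
      Finset.prod_pair n2]
    simp
  have hc : Δ.card = 4 := by
    rw [Finset.card_insert_of_notMem (by simp [n1, n3, n4]),
      Finset.card_insert_of_notMem (by simp [n5, n6]), Finset.card_pair n2]
  refine ⟨ind (Δ : Set V), fun g hg h m hm hgm => eq_one_of_pow_four hm hgm ?_⟩
  have hmem : ∀ v ∈ Δ, g v ∈ Δ := fun v hv => h.mem_ind hv
  have h1 : g 1 = 1 := by
    have h2 : ∏ v ∈ Δ, g v = ∏ v ∈ Δ, v :=
      Finset.prod_bij (fun v _ => g v) hmem (fun _ _ _ _ e => g.injective e)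
        (fun w hw => by
          obtain ⟨v, hv, e⟩ := Finset.surj_on_of_inj_on_of_card_le (fun v _ => g v) hmem
            (fun _ _ _ _ e => g.injective e) le_rfl w hw
          exact ⟨v, hv, e.symm⟩) (fun _ _ => rfl)
    rw [Finset.prod_congr rfl (fun v _ => hg.apply v), Finset.prod_mul_distrib, ← map_prod hg.lin, hΔ,
      map_one hg.lin, mul_one, Finset.prod_const, hc] at h2
    exact eq_one_of_pow_four hodd pow_card_eq_one' h2
  have hinv : ∀ v, g v⁻¹ = (g v)⁻¹ := by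
    intro v
    rw [hg.apply, hg.apply v, h1, one_mul, one_mul, map_inv]
  have key : g (g (g (g x))) = x ∧ g (g (g (g y))) = y := by
    have a1 := hmem x (by simp [Δ])
    have a2 := hmem y (by simp [Δ])
    have b1 : g x ≠ g y := fun e => n3 (g.injective e)
    have b2 : g x ≠ (g y)⁻¹ := fun e => n4 (g.injective (e.trans (hinv y).symm))
    simp only [Δ, Finset.mem_insert, Finset.mem_singleton] at a1 a2
    rcases a1 with a1 | a1 | a1 | a1 <;> rcases a2 with a2 | a2 | a2 | a2 <;>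
      simp only [a1, a2, hinv, inv_inv, ne_eq, not_true_eq_false, and_self] at b1 b2 ⊢
  have h4 : (g ^ 4) 1 = 1 := by simp [pow_succ, h1]
  refine (hg.pow 4).eq_one hp hy (fun z hz => ?_) (by simpa [pow_succ] using key.2)
  have := Fact.mk (hH ▸ hr' : (Nat.card H).Prime)
  have h5 : H ⊓ (hg.pow 4).fix h4 = H := by
    have h6 := (((hg.pow 4).fix h4).subgroupOf H).eq_bot_or_eq_top_of_prime_card
    rcases h6 with h6 | h6
    · have h7 : (⟨x, hx⟩ : H) ∈ ((hg.pow 4).fix h4).subgroupOf H := by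
        change (g ^ 4) x = x
        simpa [pow_succ] using key.1
      rw [h6] at h7
      exact absurd (mem_bot.1 h7) hx1
    · exact inf_eq_left.2 (subgroupOf_eq_top.1 h6)
  exact (h5.ge hz).2

theorem colOdd {r : ℕ} (hr' : r.Prime) (hr2 : r ≠ 2) (d : ℕ) :
    ∀ (V : Type u) [CommGroup V] [Finite V], Nat.card V = r ^ d → 1 ≤ d →
      ∃ c : V → Fin 2, Go c := by
  induction d with
  | zero => intro V _ _ _ h; omega
  | succ d ih =>
    intro V _ _ hV _
    have h3 : 3 ≤ r := by have := hr'.two_le; omega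
    by_cases hd : d ≤ 1
    · interval_cases d
      · obtain ⟨Δ, h1, h2⟩ := exists_span hr' hV (s := 2) le_rfl (by rw [hV]; simp; omega)
        refine ⟨ind (Δ : Set V), fun g hg h m hm hgm => eq_one_of_pow_four hm hgm ?_⟩
        have : g * g = 1 := h2 _ (hg.mul hg) fun x hx => h.sq_fix (by
          rw [ind_eq_zero.2 hx, sz_ind, Set.ncard_coe_finset, h1])
        rw [show 4 = 2 + 2 from rfl, pow_add, pow_two, this, mul_one]
      · exact go_four hr' hr2 hV
    · obtain ⟨H, hH, hp, x, hx⟩ := exists_index_prime hr' hV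
      obtain ⟨c, h1⟩ := ih H hH (by omega)
      obtain ⟨α, -, h2⟩ := exists_rare c
      rw [Fintype.card_fin] at h2
      obtain ⟨β, hβ⟩ := exists_ne α
      have h9 : 9 ≤ Nat.card H := by
        have := Nat.pow_le_pow_right hr'.pos (show 2 ≤ d by omega)
        have := Nat.pow_le_pow_left h3 2
        omega
      refine ⟨SLin.ext H c x α β, fun g hg h m hm hgm => ?_⟩
      obtain ⟨h4, h5, h6⟩ := hr hx hβ.symm (by omega) (fun j hj hj' => by
        have h7 : Odd j := Odd.of_dvd_nat (hH ▸ (hr'.odd_of_ne_two hr2).pow) hj'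
        obtain ⟨k, rfl⟩ : ∃ k, j = 3 + k := ⟨j - 3, by obtain ⟨l, rfl⟩ := h7; omega⟩
        obtain ⟨n, hn⟩ : ∃ n, Nat.card H = sz c α + 1 + n := ⟨Nat.card H - sz c α - 1, by omega⟩
        rw [hn] at h2 h9 ⊢
        nlinarith [Nat.zero_le (k * n)]) hg h
      refine eq_one_of_res hg hp hx (h1 _ (hg.subtypePerm h4) h6 m hm ?_) h5
      rw [Equiv.Perm.subtypePerm_pow]
      ext v
      simp [hgm]

theorem T2odd {r d : ℕ} (hr' : r.Prime) (hr2 : r ≠ 2) (hV : Nat.card V = r ^ d) (hd : 1 ≤ d) :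
    ∃ c : Fin 2 → V → Fin 2, (∀ i, Go (c i)) ∧ Function.Injective fun i => sz (c i) := by
  obtain ⟨c, h⟩ := colOdd hr' hr2 d V hV hd
  refine ⟨fun i => (· + i) ∘ c, fun i g hg h1 => h g hg (h1.of_comp (add_left_injective i)), ?_⟩
  have h1 := sum_sz c
  rw [Fin.sum_univ_two] at h1
  have h2 : Odd (Nat.card V) := hV ▸ (hr'.odd_of_ne_two hr2).pow
  have h3 : sz ((· + (0 : Fin 2)) ∘ c) ≠ sz ((· + (1 : Fin 2)) ∘ c) := by
    intro e
    have a := sz_comp c (add_left_injective (0 : Fin 2)) 0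
    have b := sz_comp c (add_left_injective (1 : Fin 2)) 1
    rw [e] at a
    have : sz c 0 = sz c 1 := a.symm.trans b
    obtain ⟨k, hk⟩ := h2
    omega
  intro i j e
  fin_cases i <;> fin_cases j
  · rfl
  · exact absurd e h3
  · exact absurd e.symm h3
  · rfl

/-- solvable affine stabilisers have derived length at most three -/
def Q3 {κ : Type*} (c : V → κ) : Prop :=
  ∀ T : Subgroup (Equiv.Perm V), Group.IsSolvable T → (∀ g ∈ T, Aff g ∧ Car g c c) → ds T 3 ≤ ⊥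

/-- solvable groups of degree at most seven have derived length at most three -/
def G7 : Prop := ∀ (X : Type u) [Group X] [Finite X] [Group.IsSolvable X] (K : Subgroup X),
  K.index ≤ 7 → ds ⊤ 3 ≤ K

omit [Finite V] in
theorem Q3.comp {κ κ' : Type*} {c : V → κ} (h : Q3 c) {π : κ → κ'}
    (hπ : Function.Injective π) : Q3 (π ∘ c) :=
  fun T hT h1 => h T hT fun g hg => ⟨(h1 g hg).1, (h1 g hg).2.of_comp hπ⟩

theorem q3_of_span (h7 : G7.{u}) {κ : Type*} {c : V → κ} {Δ : Set V} (h1 : Span Δ)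
    (h2 : Δ.ncard ≤ 7) (h3 : ∀ g, Car g c c → ∀ v ∈ Δ, g v ∈ Δ) : Q3 c := by
  intro T hT h g hg
  refine h1 g (h g (ds_le _ _ hg)).1 fun x hx => ?_
  obtain ⟨hgT, h4⟩ := mem_ds_subgroupOf le_rfl hg
  rw [subgroupOf_self] at h4
  refine h7 T (MulAction.stabilizer T x) ?_ h4
  rw [MulAction.index_stabilizer]
  refine le_trans (Set.ncard_le_ncard ?_) h2
  rintro _ ⟨t, rfl⟩
  exact h3 t (h t t.2).2 x hx

theorem Q3.ext {κ : Type*} [Fintype κ] {H : Subgroup V} (hp : H.index.Prime) {x : V}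
    (hx : x ∉ H) {c : H → κ} (h : Q3 c) {α β : κ} (hαβ : α ≠ β)
    (hs : 2 + 2 * sz c α < Nat.card H) : Q3 (SLin.ext H c x α β) := by
  intro T hT h1
  have h2 := fun g (hg : g ∈ T) => hr hx hαβ (by omega) (fun j hj _ => hbig_of hs j hj)
    (h1 g hg).1 (h1 g hg).2
  choose h3 h4 h5 using h2
  let f : T →* Equiv.Perm H :=
    { toFun := fun g => (g : Equiv.Perm V).subtypePerm (h3 g g.2)
      map_one' := by ext; rfl
      map_mul' := fun a b => by ext; rfl }
  have h6 := h f.range (Group.isSolvable_of_surjective f.rangeRestrict_surjective) (by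
    rintro _ ⟨g, rfl⟩
    exact ⟨(h1 g g.2).1.subtypePerm (h3 g g.2), h5 g g.2⟩)
  intro g hg
  obtain ⟨hgT, h7⟩ := mem_ds_subgroupOf le_rfl hg
  rw [subgroupOf_self] at h7
  have h8 := mem_ds_map f h7
  rw [← MonoidHom.range_eq_map] at h8
  exact eq_one_of_res (h1 g hgT).1 hp hx (hH := h3 g hgT) (h6 h8) (h4 g hgT)

theorem exists_q3 (h7 : G7.{u}) {r d : ℕ} (hr' : r.Prime) (hV : Nat.card V = r ^ d) {s : ℕ}
    (h1 : d + 1 ≤ s) (h2 : s ≤ Nat.card V) (h3 : s ≤ 7) :
    ∃ c : V → Fin 2, Q3 c ∧ sz c 0 = s := by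
  obtain ⟨Δ, h4, h5⟩ := exists_span hr' hV h1 h2
  exact ⟨ind (Δ : Set V), q3_of_span h7 h5 (by rw [Set.ncard_coe_finset]; omega)
    (fun g hg v hv => hg.mem_ind hv), by rw [sz_ind, Set.ncard_coe_finset, h4]⟩

theorem step2 {H : Subgroup V} (hp : H.index.Prime) {x : V} (hx : x ∉ H) {c : H → Fin 2}
    (h : Q3 c) (h2 : 2 + 2 * sz c 0 < Nat.card H) :
    ∃ c' : V → Fin 2, Q3 c' ∧ sz c' 0 + sz c 0 = Nat.card H + 1 := by
  refine ⟨(· + 1) ∘ SLin.ext H c x 0 1, (h.ext hp hx (by decide) h2).comp (add_left_injective 1),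
    ?_⟩
  have e1 := sz_comp (SLin.ext H c x 0 1) (add_left_injective (1 : Fin 2)) 1
  have e2 := sz_ext_beta (c := c) (α := 0) (β := 1) hx (by decide)
  have e3 := sum_sz c
  rw [Fin.sum_univ_two] at e3
  change sz _ 0 = _ at e1
  omega

theorem col2 (h7 : G7.{u}) {r : ℕ} (hr' : r.Prime) (d : ℕ) :
    ∀ (V : Type u) [CommGroup V] [Finite V], Nat.card V = r ^ d → 4 ≤ d →
      ∃ c c' : V → Fin 2, Q3 c ∧ Q3 c' ∧ 2 < sz c 0 ∧ sz c 0 + 1 = sz c' 0 ∧
        2 + 2 * sz c' 0 < Nat.card V := by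
  induction d with
  | zero => intro V _ _ _ h; omega
  | succ d ih =>
    intro V _ _ hV hd
    by_cases h3 : d = 3
    · subst h3
      have h16 : 16 ≤ Nat.card V := hV ▸ Nat.pow_le_pow_left hr'.two_le 4
      obtain ⟨c, h1, h2⟩ := exists_q3 h7 hr' hV (s := 5) le_rfl (by omega) (by omega)
      obtain ⟨c', h1', h2'⟩ := exists_q3 h7 hr' hV (s := 6) (by omega) (by omega) (by omega)
      exact ⟨c, c', h1, h1', by omega, by omega, by omega⟩
    · obtain ⟨H, hH, hp, x, hx⟩ := exists_index_prime hr' hV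
      obtain ⟨c, c', h1, h1', h2, h4, h5⟩ := ih H hH (by omega)
      obtain ⟨e, g1, g2⟩ := step2 hp hx h1 (by omega)
      obtain ⟨e', g1', g2'⟩ := step2 hp hx h1' h5
      have e5 := H.card_mul_index
      have e6 := Nat.mul_le_mul_left (Nat.card H) hp.two_le
      exact ⟨e', e, g1', g1, by omega, by omega, by omega⟩

omit [CommGroup V] [Finite V] in
theorem inj_three {c : Fin 3 → V → Fin 2} (h0 : sz (c 0) 0 ≠ sz (c 1) 0)
    (h1 : sz (c 0) 0 ≠ sz (c 2) 0) (h2 : sz (c 1) 0 ≠ sz (c 2) 0) :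
    Function.Injective fun i => sz (c i) :=
  fun _ _ e => inj3 (f := fun i => sz (c i) 0) h0 h1 h2 (congrFun e 0)

theorem T2 (h7 : G7.{u}) {r d : ℕ} (hr' : r.Prime) (hV : Nat.card V = r ^ d) (hd : 1 ≤ d) :
    ∃ c : Fin 3 → V → Fin 2, (∀ i, Q3 (c i)) ∧ Function.Injective fun i => sz (c i) := by
  classical
  by_cases h1 : Nat.card V ≤ 7
  · have h2 : 2 ≤ Nat.card V := by
      have := Nat.pow_le_pow_right hr'.pos hd
      rw [pow_one] at this
      have := hr'.two_le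
      omega
    have h3 : ∀ s ≤ 2, ∃ c : V → Fin 2, Q3 c ∧ sz c 0 = s := by
      intro s hs
      obtain ⟨Δ, -, h4⟩ := Set.exists_subset_card_eq (s := (Set.univ : Set V)) (n := s)
        (by rw [Set.ncard_univ]; omega)
      exact ⟨ind Δ, q3_of_span h7 (Δ := Set.univ)
        (fun g _ h => Equiv.ext fun x => h x (Set.mem_univ _)) (by rwa [Set.ncard_univ])
        (fun _ _ _ _ => Set.mem_univ _), by rw [sz_ind, h4]⟩
    obtain ⟨c0, a0, b0⟩ := h3 0 (by omega)
    obtain ⟨c1, a1, b1⟩ := h3 1 (by omega)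
    obtain ⟨c2, a2, b2⟩ := h3 2 (by omega)
    refine ⟨![c0, c1, c2], fun i => ?_, inj_three ?_ ?_ ?_⟩
    · fin_cases i
      exacts [a0, a1, a2]
    all_goals simp [b0, b1, b2]
  by_cases h4 : d ≤ 4
  · obtain ⟨c0, a0, b0⟩ := exists_q3 h7 hr' hV (s := 5) (by omega) (by omega) (by omega)
    obtain ⟨c1, a1, b1⟩ := exists_q3 h7 hr' hV (s := 6) (by omega) (by omega) (by omega)
    obtain ⟨c2, a2, b2⟩ := exists_q3 h7 hr' hV (s := 7) (by omega) (by omega) (by omega)
    refine ⟨![c0, c1, c2], fun i => ?_, inj_three ?_ ?_ ?_⟩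
    · fin_cases i
      exacts [a0, a1, a2]
    all_goals simp [b0, b1, b2]
  · obtain ⟨c, c', h1, h1', h2, h3, h5⟩ := col2 h7 hr' d V hV (by omega)
    have e1 := sz_comp c (add_left_injective (1 : Fin 2)) 1
    have e3 := sum_sz c
    rw [Fin.sum_univ_two] at e3
    change sz _ 0 = _ at e1
    refine ⟨![c, c', (· + 1) ∘ c], fun i => ?_, inj_three ?_ ?_ ?_⟩
    · fin_cases i
      exacts [h1, h1', h1.comp (add_left_injective 1)]
    all_goals
      simp only [Matrix.cons_val_zero, Matrix.cons_val_one, Matrix.cons_val]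
      omega

end CfsgLib.SLin
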