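import Cfsg.Agent.Lib.SLin.Ind
import Cfsg.Agent.Lib.ClassCount
import Cfsg.Agent.S4200

/-!
# Commuting probability: monotonicity, central extensions, small class numbers
-/

set_option autoImplicit false

namespace CfsgLib.SLin

open Subgroup Cfsg
open scoped commutatorElement

section cp
variable {G : Type*} [Group G]

theorem cp_congr {H : Type*} [Group H] (e : G ≃* H) : commProb G = commProb H := by
  rw [commProb_def, commProb_def, Nat.card_congr e.toEquiv]
  congr 2
  refine Nat.card_congr ((e.toEquiv.prodCongr e.toEquiv).subtypeEquiv fun p => ?_)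
  exact ⟨fun h => h.map e, fun h => e.injective (by rw [map_mul, map_mul]; exact h)⟩

theorem cp_mul_card [Finite G] : commProb G * Nat.card G = Nat.card (ConjClasses G) := by
  rw [commProb_def', div_mul_cancel₀ _ (Nat.cast_ne_zero.2 Nat.card_pos.ne')]

theorem cp_le_subgroup [Finite G] (K : Subgroup G) : commProb G ≤ commProb K := by
  have h1 : (Nat.card (ConjClasses G) : ℚ) ≤ K.index * Nat.card (ConjClasses K) := by
    exact_mod_cast (Cfsg.Agent.S4200.result K).2.1
  have h2 : (0 : ℚ) < Nat.card G := Nat.cast_pos.2 Nat.card_pos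
  refine le_of_mul_le_mul_right ?_ h2
  rw [cp_mul_card, ← K.card_mul_index, Nat.cast_mul, ← mul_assoc, cp_mul_card, mul_comm]
  exact h1

theorem cp_le_of_inj [Finite G] {K : Type*} [Group K] (f : K →* G) (hf : Function.Injective f) :
    commProb G ≤ commProb K :=
  (cp_le_subgroup f.range).trans_eq (cp_congr (MonoidHom.ofInjective hf)).symm

theorem cp_lift [Finite G] {Q : Type*} [Group Q] (f : G →* Q) (hf : Function.Surjective f)
    (T : Finset (Q × Q)) (h : ∀ x y, (f x, f y) ∈ T → Commute x y) :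
    (T.card : ℚ) ≤ commProb G * (Nat.card Q : ℚ) ^ 2 := by
  classical
  have := Fintype.ofFinite G
  have h1 : T.card * Nat.card f.ker ^ 2 ≤ Nat.card {p : G × G // Commute p.1 p.2} := by
    have h2 : ∀ q : Q, (Finset.univ.filter fun x => f x = q).card = Nat.card f.ker := by
      intro q
      rw [MonoidHom.card_fiber_eq_of_mem_range f (hf q) ⟨1, map_one f⟩, Nat.subtype_card]
      simp
    rw [Nat.subtype_card (Finset.univ.filter fun p : G × G => Commute p.1 p.2) (by simp)]
    refine le_trans ?_ (Finset.card_le_card (s := Finset.univ.filter fun p : G × G =>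
      (f p.1, f p.2) ∈ T) fun p hp => by simpa using h _ _ (Finset.mem_filter.1 hp).2)
    rw [Finset.card_eq_sum_card_fiberwise (f := fun p : G × G => (f p.1, f p.2)) (t := T)
      (fun p hp => by simpa using hp), ← smul_eq_mul, ← Finset.sum_const]
    refine le_of_eq (Finset.sum_congr rfl fun t ht => ?_)
    rw [pow_two]
    conv_lhs => rw [← h2 t.1]; congr; rfl; rw [h2 t.1, ← h2 t.2]
    rw [← Finset.card_product]
    congr 1
    ext p
    simp only [Finset.mem_product, Finset.mem_filter, Finset.mem_univ, true_and, Prod.ext_iff]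
    exact ⟨fun a => ⟨by rw [a.1, a.2]; exact ht, a⟩, fun a => a.2⟩
  have h3 : Nat.card f.ker * Nat.card Q = Nat.card G := by
    rw [← f.ker.card_mul_index, index_ker, MonoidHom.range_eq_top.2 hf, card_top]
  have h4 : (0 : ℚ) < Nat.card f.ker := Nat.cast_pos.2 Nat.card_pos
  have h5 : (0 : ℚ) < Nat.card G := Nat.cast_pos.2 Nat.card_pos
  rw [commProb_def, div_mul_eq_mul_div, le_div_iff₀ (by positivity), ← h3]
  push_cast
  rw [mul_pow, ← mul_assoc]
  exact mul_le_mul_of_nonneg_right (by exact_mod_cast h1) (by positivity)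

theorem cp_central [Finite G] {U : Subgroup G} (hU : U ≤ center G) :
    3 ≤ ((U.index : ℚ) + 2) * commProb G := by
  classical
  have : U.Normal := ⟨fun u hu g => by
    rwa [mem_center_iff.1 (hU hu) g, mul_inv_cancel_right]⟩
  have := Fintype.ofFinite (G ⧸ U)
  set s : Finset (G ⧸ U) := Finset.univ.erase 1
  have hs : s.card + 1 = U.index := by
    rw [Finset.card_erase_add_one (Finset.mem_univ _), Finset.card_univ, index,
      Nat.card_eq_fintype_card]
  have h1 := cp_lift (QuotientGroup.mk' U) (QuotientGroup.mk'_surjective U)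
    (Finset.univ.image (fun a => (1, a)) ∪ (s.image (fun a => (a, 1)) ∪ s.image fun a => (a, a)))
    (by
      intro x y h
      have key : ∀ z : G, QuotientGroup.mk' U z = 1 → ∀ w, Commute z w := fun z hz w =>
        (mem_center_iff.1 (hU ((QuotientGroup.eq_one_iff z).1 hz)) w).symm
      simp only [Finset.mem_union, Finset.mem_image, Prod.mk.injEq] at h
      rcases h with ⟨a, -, h, -⟩ | ⟨a, -, -, h⟩ | ⟨a, -, h, h'⟩
      · exact key x h.symm y
      · exact (key y h.symm x).symm
      · have := key (x⁻¹ * y) (by rw [map_mul, map_inv, ← h, ← h', inv_mul_cancel]) x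
        simpa using (Commute.refl x).mul_right this.symm)
  rw [Finset.card_union_of_disjoint, Finset.card_union_of_disjoint,
    Finset.card_image_of_injective _ (fun a b e => (Prod.mk.inj e).2),
    Finset.card_image_of_injective _ (fun a b e => (Prod.mk.inj e).1),
    Finset.card_image_of_injective _ (fun a b e => (Prod.mk.inj e).1), Finset.card_univ,
    ← Nat.card_eq_fintype_card] at h1
  · change ((U.index + (s.card + s.card) : ℕ) : ℚ) ≤ _ * (U.index : ℚ) ^ 2 at h1
    rw [← hs] at h1 ⊢
    push_cast at h1 ⊢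
    have h2 : (0 : ℚ) ≤ s.card := by positivity
    refine le_of_mul_le_mul_right ?_ (show (0 : ℚ) < ((s.card : ℚ) + 1) ^ 2 by positivity)
    rw [mul_assoc]
    refine le_trans ?_ (mul_le_mul_of_nonneg_left h1 (by positivity))
    nlinarith
  · rw [Finset.disjoint_left]
    intro p h2 h3
    obtain ⟨a, ha, rfl⟩ := Finset.mem_image.1 h2
    obtain ⟨b, hb, e⟩ := Finset.mem_image.1 h3
    exact (Finset.mem_erase.1 hb).1 (Prod.mk.inj e).2
  · rw [Finset.disjoint_left]
    intro p h2 h3
    obtain ⟨a, ha, rfl⟩ := Finset.mem_image.1 h2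
    rcases Finset.mem_union.1 h3 with h3 | h3 <;> obtain ⟨b, hb, e⟩ := Finset.mem_image.1 h3 <;>
      exact (Finset.mem_erase.1 hb).1 (Prod.mk.inj e).1

theorem cp_S4 [Finite G] (f : G →* Equiv.Perm (Fin 4)) (hf : Function.Surjective f)
    (hU : f.ker ≤ center G) : 1 ≤ 6 * commProb G := by
  have h1 := cp_lift f hf (Finset.univ.filter fun p =>
      p.1 = 1 ∨ p.2 = 1 ∨ p.2 = p.1 ∨ p.2 = p.1 ^ 2 ∨ p.2 = p.1 ^ 3 ∨ p.1 = p.2 ^ 2) (by
    intro x y h
    have key : ∀ (z w : G) (n : ℕ), f w = f z ^ n → Commute z w := fun z w n e => by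
      have : Commute z ((z ^ n)⁻¹ * w) := mem_center_iff.1 (hU (by
        rw [MonoidHom.mem_ker, map_mul, map_inv, map_pow, e, inv_mul_cancel])) z
      simpa using ((Commute.refl z).pow_right n).mul_right this
    simp only [Finset.mem_filter, Finset.mem_univ, true_and] at h
    rcases h with h | h | h | h | h | h
    · exact (key y x 0 (by rw [h, pow_zero])).symm
    · exact key x y 0 (by rw [h, pow_zero])
    · exact key x y 1 (by rw [h, pow_one])
    · exact key x y 2 h
    · exact key x y 3 h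
    · exact (key y x 2 h).symm)
  have h2 : (Finset.univ.filter fun p : Equiv.Perm (Fin 4) × Equiv.Perm (Fin 4) =>
      p.1 = 1 ∨ p.2 = 1 ∨ p.2 = p.1 ∨ p.2 = p.1 ^ 2 ∨ p.2 = p.1 ^ 3 ∨ p.1 = p.2 ^ 2).card = 96 := by
    decide +kernel
  rw [h2, Nat.card_perm, Nat.card_fin] at h1
  norm_num [Nat.factorial] at h1
  linarith

theorem exists_S4 [Finite G] (hG : Nat.card G = 24) {M : Subgroup G} [M.Normal]
    (hM : Nat.card M = 4) (hC : centralizer (M : Set G) ≤ M)
    (h2 : ∀ K : Subgroup G, K.Normal → K ≤ M → Nat.card K ≠ 2) :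
    Nonempty (G ≃* Equiv.Perm (Fin 4)) := by
  have := Fact.mk Nat.prime_three
  obtain ⟨P⟩ : Nonempty (Sylow 3 G) := inferInstance
  have key : ∀ K : Subgroup G, K.Normal → Nat.card K ∣ 6 → K = ⊥ := by
    intro K hK h6
    have h3 : K ⊓ M = ⊥ := by
      rw [← card_eq_one]
      have h4 : Nat.card (K ⊓ M : Subgroup G) ∣ 2 := by
        have := Nat.dvd_gcd ((card_dvd_of_le (inf_le_left : K ⊓ M ≤ K)).trans h6)
          (hM ▸ card_dvd_of_le (inf_le_right : K ⊓ M ≤ M))
        exact this
      exact ((Nat.dvd_prime Nat.prime_two).1 h4).resolve_right (h2 _ inferInstance inf_le_right)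
    rw [← h3, left_eq_inf]
    exact (commutator_eq_bot_iff_le_centralizer.1
      (eq_bot_iff.2 ((commutator_le_inf K M).trans h3.le))).trans hC
  have hP : Nat.card P = 3 := by
    rw [P.card_eq_multiplicity, hG]
    have : Nat.factorization 24 3 = 1 := by decide +kernel
    rw [this]; rfl
  set N := normalizer ((P : Subgroup G) : Set G)
  have h4 : N.index = 4 := by
    have a1 := card_sylow_modEq_one 3 G
    rw [P.card_eq_index_normalizer] at a1
    have a2 : N.index ∣ 8 := by
      have a3 := (P : Subgroup G).card_mul_index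
      rw [hP, hG] at a3
      exact (index_dvd_of_le le_normalizer).trans (dvd_of_eq (by omega))
    have a3 : N.index ≠ 1 := fun e => by
      have a4 := key P (normalizer_eq_top_iff.1 (index_eq_one.1 e)) (by rw [hP]; decide)
      rw [a4, card_bot] at hP
      omega
    change N.index % 3 = 1 at a1
    have a4 := Nat.le_of_dvd (by decide) a2
    interval_cases N.index <;> omega
  have h5 : Nat.card N = 6 := by
    have := N.card_mul_index
    rw [h4, hG] at this
    omega
  have h6 : Function.Injective (MulAction.toPermHom G (G ⧸ N)) := by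
    rw [← MonoidHom.ker_eq_bot_iff, ← normalCore_eq_ker]
    exact key _ inferInstance (h5 ▸ card_dvd_of_le N.normalCore_le)
  have e : (G ⧸ N) ≃ Fin 4 := Finite.equivFinOfCardEq h4
  refine ⟨(MulEquiv.ofBijective _ (h6.bijective_of_nat_card_le ?_)).trans e.permCongrHom⟩
  rw [Nat.card_perm, hG, show Nat.card (G ⧸ N) = 4 from h4]
  decide

theorem k_le_of_surj [Finite G] {H : Type*} [Group H] (f : G →* H) (hf : Function.Surjective f) :
    Nat.card (ConjClasses H) ≤ Nat.card (ConjClasses G) :=
  Nat.card_le_card_of_surjective _ (ConjClasses.map_surjective hf)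

theorem exists_orbits [Finite G] {H : Type*} [Group H] (f : G →* H) (hf : Function.Surjective f)
    {V : Subgroup G} (h1 : V ≤ f.ker) (h2 : f.ker ≤ centralizer (V : Set G)) :
    ∃ n : ℕ, Nat.card (ConjClasses H) + n ≤ Nat.card (ConjClasses G) ∧
      Nat.card V ≤ n * Nat.card H + 1 := by
  classical
  have := Fintype.ofFinite G
  have := Fintype.ofFinite (ConjClasses G)
  set s : Finset G := (Finset.univ.filter fun x => x ∈ V).erase 1
  set S := s.image ConjClasses.mk
  refine ⟨S.card, ?_, ?_⟩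
  · rw [Nat.card_eq_fintype_card (α := ConjClasses G), ← Finset.card_compl_add_card S,
      add_le_add_iff_right, ← Nat.card_eq_finsetCard]
    refine Nat.card_le_card_of_surjective (fun c : (Sᶜ : Finset _) => ConjClasses.map f c) ?_
    intro c
    obtain ⟨y, rfl⟩ := ConjClasses.mk_surjective c
    obtain ⟨x, rfl⟩ := hf y
    by_cases hx : ConjClasses.mk x ∈ S
    · obtain ⟨v, hv, e⟩ := Finset.mem_image.1 hx
      refine ⟨⟨ConjClasses.mk 1, Finset.mem_compl.2 fun h => ?_⟩, ?_⟩
      · obtain ⟨w, hw, e⟩ := Finset.mem_image.1 h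
        exact (Finset.mem_erase.1 hw).1 (isConj_one_left.1 (ConjClasses.mk_eq_mk_iff_isConj.1 e))
      · change ConjClasses.mk (f 1) = ConjClasses.map f (ConjClasses.mk x)
        rw [← e]
        change _ = ConjClasses.mk (f v)
        rw [map_one, MonoidHom.mem_ker.1 (h1 (Finset.mem_filter.1 (Finset.mem_erase.1 hv).2).2)]
    · exact ⟨⟨_, Finset.mem_compl.2 hx⟩, rfl⟩
  · have h3 : s.card + 1 = Nat.card V := by
      rw [Finset.card_erase_add_one (by simp [one_mem]), Nat.subtype_card]
      simp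
    rw [← h3, add_le_add_iff_right, mul_comm]
    refine Finset.card_le_mul_card_image s _ fun c hc => ?_
    obtain ⟨v, hv, rfl⟩ := Finset.mem_image.1 hc
    have h4 : (centralizer ({v} : Set G)).index ≤ Nat.card H := by
      have h5 : f.ker.index = Nat.card H := by
        rw [index_ker, MonoidHom.range_eq_top.2 hf, card_top]
      rw [← h5]
      refine Nat.le_of_dvd (Nat.pos_of_ne_zero index_ne_zero_of_finite)
        (index_dvd_of_le (h2.trans (centralizer_le ?_)))
      simpa using (Finset.mem_filter.1 (Finset.mem_erase.1 hv).2).2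
    refine le_trans ?_ h4
    rw [ClassCount.index_centralizer_eq_ncard, ← Set.ncard_coe_finset]
    refine Set.ncard_le_ncard fun x hx => ?_
    exact ConjClasses.mk_eq_mk_iff_isConj.1 (Finset.mem_filter.1 hx).2.symm

/-- possible values of unit fractions -/
def UF (x : ℚ) : Prop := x = 1 ∨ x = 1 / 2 ∨ x = 1 / 3 ∨ x = 1 / 4 ∨ x = 1 / 5 ∨ x = 1 / 6 ∨
  0 < x ∧ x ≤ 1 / 7

theorem unit_cases {a : ℕ} (h : 0 < a) : UF (1 / a : ℚ) := by
  by_cases h7 : 7 ≤ a
  · refine Or.inr (Or.inr (Or.inr (Or.inr (Or.inr (Or.inr ⟨by positivity, ?_⟩)))))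
    exact one_div_le_one_div_of_le (by norm_num) (by exact_mod_cast h7)
  · push Not at h7
    unfold UF
    interval_cases a <;> norm_num

theorem uf1 {x : ℚ} (hx : UF x) (h : x < 1) : x ≤ 1 / 2 := by
  rcases hx with e | e | e | e | e | e | ⟨-, e⟩ <;> linarith

theorem uf2 {x y : ℚ} (hx : UF x) (hy : UF y) (h : x + y < 1) : x + y ≤ 5 / 6 := by
  rcases hx with e | e | e | e | e | e | ⟨e', e⟩ <;>
    rcases hy with f | f | f | f | f | f | ⟨f', f⟩ <;> linarith

theorem uf2' {x y : ℚ} (hx : UF x) (hy : UF y) (h : x + y < 1 / 2) : x + y ≤ 10 / 21 := by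
  rcases hx with e | e | e | e | e | e | ⟨e', e⟩ <;>
    rcases hy with f | f | f | f | f | f | ⟨f', f⟩ <;> linarith

theorem uf_half {x : ℚ} (hx : UF x) : 0 < x ∧ (x = 1 ∨ x = 1 / 2 ∨ x = 1 / 3 ∨ x ≤ 1 / 4) := by
  rcases hx with e | e | e | e | e | e | ⟨e', e⟩
  · exact ⟨by linarith, Or.inl e⟩
  · exact ⟨by linarith, Or.inr (Or.inl e)⟩
  · exact ⟨by linarith, Or.inr (Or.inr (Or.inl e))⟩
  all_goals exact ⟨by linarith, Or.inr (Or.inr (Or.inr (by linarith)))⟩

theorem uf3 {x y z : ℚ} (hx : UF x) (hy : UF y) (hz : UF z) (h : x + (y + z) < 1) :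
    x + (y + z) ≤ 41 / 42 := by
  obtain ⟨a, a'⟩ := uf_half hx
  obtain ⟨b, b'⟩ := uf_half hy
  obtain ⟨c, c'⟩ := uf_half hz
  by_cases h1 : x = 1 / 2
  · have := uf2' hy hz (by linarith); linarith
  by_cases h2 : y = 1 / 2
  · have := uf2' hx hz (by linarith); linarith
  by_cases h3 : z = 1 / 2
  · have := uf2' hx hy (by linarith); linarith
  rcases a' with e | e | e | e <;> rcases b' with f | f | f | f <;> rcases c' with g | g | g | g <;>
    first | contradiction | linarith

theorem landau_sum {ι : Type*} (s : Finset ι) (g : ι → ℕ) (hg : ∀ i, 0 < g i)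
    (h : ∑ i ∈ s, (1 / g i : ℚ) < 1) :
    (s.card ≤ 2 → ∑ i ∈ s, (1 / g i : ℚ) ≤ 5 / 6) ∧
      (s.card ≤ 3 → ∑ i ∈ s, (1 / g i : ℚ) ≤ 41 / 42) := by
  classical
  have h2 : s.card ≤ 2 → ∑ i ∈ s, (1 / g i : ℚ) ≤ 5 / 6 := by
    intro h1
    obtain h3 | h3 | h3 : s.card = 0 ∨ s.card = 1 ∨ s.card = 2 := by omega
    · rw [Finset.card_eq_zero.1 h3]; norm_num
    · obtain ⟨a, rfl⟩ := Finset.card_eq_one.1 h3
      rw [Finset.sum_singleton] at h ⊢
      exact (uf1 (unit_cases (hg a)) h).trans (by norm_num)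
    · obtain ⟨a, b, hab, rfl⟩ := Finset.card_eq_two.1 h3
      rw [Finset.sum_pair hab] at h ⊢
      exact uf2 (unit_cases (hg a)) (unit_cases (hg b)) h
  refine ⟨h2, fun h1 => ?_⟩
  by_cases h3 : s.card = 3
  · obtain ⟨a, b, c, hab, hac, hbc, rfl⟩ := Finset.card_eq_three.1 h3
    rw [Finset.sum_insert (by simp [hab, hac]), Finset.sum_pair hbc] at h ⊢
    exact uf3 (unit_cases (hg a)) (unit_cases (hg b)) (unit_cases (hg c)) h
  · exact (h2 (by omega)).trans (by norm_num)

theorem landau [Finite G] : (Nat.card (ConjClasses G) ≤ 1 → Nat.card G ≤ 1) ∧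
    (Nat.card (ConjClasses G) ≤ 3 → Nat.card G ≤ 6) ∧
    (Nat.card (ConjClasses G) ≤ 4 → Nat.card G ≤ 42) := by
  classical
  have := Fintype.ofFinite G
  have := Fintype.ofFinite (ConjClasses G)
  let g : ConjClasses G → ℕ := fun c => Nat.card (centralizer ({c.out} : Set G))
  have hG : (0 : ℚ) < Nat.card G := Nat.cast_pos.2 Nat.card_pos
  have h1 : ∑ c, (1 / g c : ℚ) = 1 := by
    have h2 := Group.sum_card_conj_classes_eq_card G
    rw [finsum_eq_sum_of_fintype] at h2
    refine mul_right_cancel₀ hG.ne' ?_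
    rw [one_mul, Finset.sum_mul]
    conv_rhs => rw [← h2]
    rw [Nat.cast_sum]
    refine Finset.sum_congr rfl fun c _ => ?_
    have h3 := ClassCount.card_carrier_mk c.out
    rw [show ConjClasses.mk c.out = c from c.out_eq] at h3
    rw [← (centralizer ({c.out} : Set G)).card_mul_index, ← h3, Nat.cast_mul, one_div,
      inv_mul_cancel_left₀ (Nat.cast_ne_zero.2 Nat.card_pos.ne')]
    rfl
  have h2 : g (ConjClasses.mk 1) = Nat.card G := by
    have h3 : (ConjClasses.mk (1 : G)).out = 1 :=
      isConj_one_left.1 (ConjClasses.mk_eq_mk_iff_isConj.1 (ConjClasses.mk (1 : G)).out_eq)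
    simp only [g, h3]
    rw [(eq_top_iff' (centralizer ({1} : Set G))).2 fun x => by simp [mem_centralizer_iff],
      card_top]
  rw [← Finset.add_sum_erase _ _ (Finset.mem_univ (ConjClasses.mk 1)), h2] at h1
  set s := Finset.univ.erase (ConjClasses.mk (1 : G))
  have h3 : s.card + 1 = Nat.card (ConjClasses G) := by
    rw [Finset.card_erase_add_one (Finset.mem_univ _), Finset.card_univ, Nat.card_eq_fintype_card]
  have h4 : (0 : ℚ) < 1 / Nat.card G := by positivity
  obtain ⟨h5, h6⟩ := landau_sum s g (fun _ => Nat.card_pos) (by linarith)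
  have key : ∀ m : ℕ, 0 < m → (1 / m : ℚ) ≤ 1 / Nat.card G → Nat.card G ≤ m := fun m hm h => by
    exact_mod_cast (one_div_le_one_div (Nat.cast_pos.2 hm) hG).1 h
  refine ⟨fun h => key 1 one_pos ?_, fun h => key 6 (by decide) ?_, fun h => key 42 (by decide) ?_⟩
  · rw [Finset.card_eq_zero.1 (show s.card = 0 by omega), Finset.sum_empty] at h1
    push_cast; linarith
  · have := h5 (by omega)
    push_cast; linarith
  · have := h6 (by omega)
    push_cast; linarith

end cp

end CfsgLib.SLin
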