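import Cfsg.Agent.Lib.SLin.Small

/-!
# Commuting probability of irreducible solvable linear groups
-/

set_option autoImplicit false

namespace CfsgLib.SLin

open Subgroup Cfsg
open scoped commutatorElement

universe u

section gen
variable {A V : Type*} [Group A] [CommGroup V] {φ : A →* MulAut V}

/-- commuting probability of the image -/
noncomputable def cp (φ : A →* MulAut V) : ℚ := commProb φ.range

theorem cp_range (φ : A →* MulAut V) : cp φ.range.subtype = cp φ := by
  unfold cp
  rw [Subgroup.range_subtype]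

theorem cp_of_inj (h : Function.Injective φ) : cp φ = commProb A :=
  (cp_congr (MonoidHom.ofInjective h)).symm

theorem cp_pos [Finite A] (φ : A →* MulAut V) : 0 < cp φ := by
  have : Finite φ.range := Finite.of_surjective _ φ.rangeRestrict_surjective
  exact commProb_pos _

theorem Cz.range {z : A} {b : ℕ} (h : Cz φ z b) : Cz φ.range.subtype (φ.rangeRestrict z) b := by
  refine ⟨?_, h.2⟩
  rintro ⟨_, a, rfl⟩
  exact (map_mul φ a z).symm.trans ((h.1 a).trans (map_mul φ z a))

theorem Cz.res {z : A} {b : ℕ} (h : Cz φ z b) {H : Subgroup A} {W : Subgroup V}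
    (hi : InvBy φ H W) (hz : z ∈ H) : Cz (res φ H W hi) ⟨z, hz⟩ b := by
  refine ⟨fun a => MulEquiv.ext fun w => Subtype.ext (MulEquiv.congr_fun (h.1 a) w),
    fun K hK h0 => ?_⟩
  rw [← card_map_subtype]
  refine h.2 _ ?_ fun e => h0 ((Subgroup.map_eq_bot_iff_of_injective _ W.subtype_injective).1 e)
  rintro _ ⟨w, hw, rfl⟩
  exact ⟨_, hK w hw, rfl⟩

theorem Sys.cp_le [Finite A] {H : Subgroup A} [Fintype (A ⧸ H)] {W : Subgroup V} (h : Sys φ H W)
    (hφ : Function.Injective φ) : cp (res φ H W h.inv) ^ H.index ≤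
      commProb A * ((MulAction.toPermHom A (A ⧸ H)).ker.index : ℚ) ^ 2 := by
  set K := (MulAction.toPermHom A (A ⧸ H)).ker
  have hK : ∀ g ∈ K, ∀ ω : A ⧸ H, g • ω = ω := fun g hg ω => Equiv.congr_fun hg ω
  choose f hf using exists_conjHom K hK
  let F : K →* (A ⧸ H → (res φ H W h.inv).range) :=
    Pi.monoidHom fun ω => (res φ H W h.inv).rangeRestrict.comp (f ω)
  have h1 : Function.Injective F := (injective_iff_map_eq_one F).2 fun g hg => by
    refine Subtype.ext (hφ ((h.mem_ker (hK g g.2) fun ω => ?_).trans (map_one φ).symm))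
    rw [← hf]
    exact congrArg Subtype.val (congrFun hg ω)
  have : Finite (res φ H W h.inv).range :=
    Finite.of_surjective _ (res φ H W h.inv).rangeRestrict_surjective
  refine le_trans ?_ (commProb_subgroup_le K)
  have h2 := cp_le_of_inj F h1
  rwa [commProb_function, ← Nat.card_eq_fintype_card] at h2

/-- the exceptional configuration: the projective image is the symmetric group of degree 4 -/
def S4D (φ : A →* MulAut V) (b : ℕ) : Prop := ∃ u q : ℕ, φ.ker.index = 24 * u ∧ 1 ≤ 6 * cp φ ∧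
  u ∣ q - 1 ∧ 2 ≤ u ∧ b ≤ q ∧ q ^ 2 ≤ Nat.card V

theorem PD.cp_S4 [Finite A] {U F : Subgroup A} (h : PD φ U F) (h1 : centralizer (U : Set A) = ⊤)
    (h2 : U.relIndex F = 4) (h3 : U.index = 24) : 1 ≤ 6 * commProb A := by
  have := h.nU
  have := h.nF.map _ (QuotientGroup.mk'_surjective U)
  have hU : U ≤ center A := fun u hu => mem_center_iff.2 fun g =>
    ((h1.ge (mem_top g) : g ∈ centralizer (U : Set A)) u hu).symm
  obtain ⟨e⟩ := exists_S4 (G := A ⧸ U) h3 (M := F.map (QuotientGroup.mk' U))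
    (by rw [← h2, ← relIndex_ker, QuotientGroup.ker_mk']) (fun g hg => by
      obtain ⟨g, rfl⟩ := QuotientGroup.mk'_surjective U g
      exact mem_map_of_mem _ (h.kerM g (h1.ge (mem_top g)) (mem_cm.1 hg))) (fun K hK h4 h5 => by
      have := Fact.mk Nat.prime_two
      have := isCyclic_of_prime_card h5
      have h6 : U ≤ K.comap (QuotientGroup.mk' U) := QuotientGroup.le_comap_mk' U K
      have h7 := h.maxU (K.comap (QuotientGroup.mk' U)) inferInstance h6 (by
        refine (comap_mono h4).trans ?_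
        rw [comap_map_eq, QuotientGroup.ker_mk', sup_eq_left.2 h.UF])
      have h8 : K.comap (QuotientGroup.mk' U) ≤ U := fun a ha => h7 ⟨ha, fun b hb =>
        congrArg Subtype.val (commutative_of_cyclic_center_quotient
          ((QuotientGroup.mk' U).subgroupComap K) (fun x hx => mem_center_iff.2 fun g =>
            Subtype.ext (mem_center_iff.1 (hU ((QuotientGroup.eq_one_iff _).1
              (congrArg Subtype.val hx))) g)) ⟨b, hb⟩ ⟨a, ha⟩)⟩
      have h9 := card_comap_mk' U K
      rw [le_antisymm h8 h6, h5] at h9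
      have : 0 < Nat.card U := Nat.card_pos
      omega)
  refine SLin.cp_S4 (e.toMonoidHom.comp (QuotientGroup.mk' U))
    (e.surjective.comp (QuotientGroup.mk'_surjective U)) fun x hx => hU ?_
  exact (QuotientGroup.eq_one_iff x).1 (e.injective (hx.trans (map_one e).symm))

end gen

theorem num_prim {e x q : ℕ} (he : 2 ≤ e) (hq : 11 ≤ q) (h3 : 3 ∣ e → 13 ≤ q)
    (hx2 : e = 2 → x ≤ 3) (hx3 : e = 3 → x ≤ 24) (hx4 : e = 4 ∨ e = 5 → x ≤ 120)
    (hx : 5 * x ≤ e ^ 6) : 10 * (e ^ 2 * x + 2) * q ^ 2 ≤ 177 * q ^ e := by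
  obtain ⟨d, rfl⟩ := Nat.exists_eq_add_of_le he
  rw [pow_add q 2 d, mul_comm (q ^ 2), ← mul_assoc]
  refine Nat.mul_le_mul_right _ ?_
  have h1 := Nat.pow_le_pow_left hq d
  by_cases h7 : 5 ≤ d
  · obtain ⟨t, rfl⟩ := Nat.exists_eq_add_of_le h7
    have h8 := grow (k := 8) (e0 := 7) (c := 11) (A := 6000000) (by norm_num) (by norm_num)
      (by norm_num) (by norm_num) t
    have h9 : (2 + (5 + t)) ^ 2 * (5 * x) ≤ (7 + t) ^ 8 := by
      rw [show 7 + t = 2 + (5 + t) by ring]
      calc _ ≤ (2 + (5 + t)) ^ 2 * (2 + (5 + t)) ^ 6 := Nat.mul_le_mul_left _ hx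
        _ = _ := by ring
    rw [pow_add] at h1
    have h10 : 1 ≤ 11 ^ t := Nat.one_le_pow _ _ (by decide)
    rw [mul_left_comm] at h9
    omega
  push Not at h7
  interval_cases d
  · have := hx2 rfl; omega
  · have := hx3 rfl
    have := h3 (by decide)
    rw [pow_one]
    omega
  · have := hx4 (Or.inl rfl); omega
  · have := hx4 (Or.inr rfl); omega
  · have := Nat.pow_le_pow_left (h3 (by decide)) 4
    omega

theorem mul_le_pow {j b : ℕ} (hj : 1 ≤ j) (hb : 11 ≤ b) :
    j * b ≤ b ^ j ∧ (2 ≤ j → 2 * (j * b) ≤ b ^ j ∧ 10 * (j * b) ^ 2 ≤ 59 * b ^ j) := by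
  have key : ∀ t : ℕ, 10 * (2 + t) ^ 2 ≤ 59 * b ^ t := fun t => by
    have h1 := grow (k := 2) (e0 := 2) (c := 11) (A := 5) (by norm_num) (by norm_num)
      (by norm_num) (by norm_num) t
    have h2 := Nat.pow_le_pow_left hb t
    omega
  have key2 : 2 ≤ j → 2 * (j * b) ≤ b ^ j ∧ 10 * (j * b) ^ 2 ≤ 59 * b ^ j := by
    intro h
    obtain ⟨t, rfl⟩ := Nat.exists_eq_add_of_le h
    have h1 := key t
    rw [pow_add]
    constructor
    · have h2 : 2 * (2 + t) ≤ b * b ^ t := by nlinarith
      nlinarith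
    · rw [mul_pow]
      nlinarith [Nat.mul_le_mul_left (b ^ 2) h1]
  refine ⟨?_, key2⟩
  rcases hj.eq_or_lt with rfl | h
  · simp
  · have := (key2 h).1
    omega

theorem cp_main (V A : Type u) [CommGroup V] [Finite V] [Group A] [Finite A] [Group.IsSolvable A]
    (φ : A →* MulAut V) (h : CR φ) : ∀ z b, Irr φ → Nontrivial V → Cz φ z b → 11 ≤ b →
      (b : ℚ) ≤ cp φ * Nat.card V ∧ (b ^ 2 ≤ Nat.card V →
        10 * (b : ℚ) ^ 2 ≤ 59 * (cp φ * Nat.card V) ∨ S4D φ b) := by
  refine cr_induction (P := fun V A _ _ _ _ φ => ∀ z b, Irr φ → Nontrivial V → Cz φ z b →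
    11 ≤ b → (b : ℚ) ≤ cp φ * Nat.card V ∧ (b ^ 2 ≤ Nat.card V →
        10 * (b : ℚ) ^ 2 ≤ 59 * (cp φ * Nat.card V) ∨ S4D φ b))
    (fun V A _ _ _ _ φ h1 z b h2 h3 h4 h5 => by
      have := h1 _ b h2.range h3 h4.range h5
      unfold S4D at this ⊢
      rwa [cp_range, index_ker_range] at this)
    (fun V A _ _ _ _ _ φ hφ hcr ih z b hirr _ hz hb => ?_) V A φ h
  have hb' : (11 : ℚ) ≤ b := by exact_mod_cast hb
  have hp := cp_pos φ
  have key : 10 * (b : ℚ) ^ 2 ≤ 59 * (cp φ * Nat.card V) → (b : ℚ) ≤ cp φ * Nat.card V ∧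
      (b ^ 2 ≤ Nat.card V → 10 * (b : ℚ) ^ 2 ≤ 59 * (cp φ * Nat.card V) ∨ S4D φ b) :=
    fun h1 => ⟨by nlinarith, fun _ => Or.inl h1⟩
  rcases pd_or_sys hφ hirr with ⟨H, _, W, h1, h2, h3, h4⟩ | ⟨U, F, h1, hd⟩
  · have h5 : 2 ≤ H.index := by
      have a1 : H.index ≠ 1 := fun e => h1.1 (index_eq_one.1 e)
      have a2 : H.index ≠ 0 := index_ne_zero_of_finite
      omega
    have h6 := (ih W H _ (by
      rw [h3.card]
      exact lt_self_pow₀ ((one_lt_card_iff_ne_bot _).2 h2) h5) (h3.irr hirr).cr _ b (h3.irr hirr)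
      ((nontrivial_iff_ne_bot W).2 h2)
      (hz.res h3.inv (h4 (mem_center_iff.2 fun g => hφ (hz.1 g)))) hb).1
    have h7 := h3.cp_le hφ
    have h8 := perm_sq_le h1
    rw [← cp_of_inj hφ] at h7
    set S := (MulAction.toPermHom A (A ⧸ H)).ker.index
    obtain ⟨t, ht⟩ := Nat.exists_eq_add_of_le h5
    have h9 : (10 * S ^ 2 : ℚ) ≤ 59 * b ^ t := by
      rw [ht, pow_add] at h8
      have := Nat.pow_le_pow_left hb t
      exact_mod_cast (by omega : 10 * S ^ 2 ≤ 59 * b ^ t)
    have h10 : (b : ℚ) ^ H.index ≤ cp φ * Nat.card V * S ^ 2 := by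
      refine (pow_le_pow_left₀ (by positivity) h6 _).trans ?_
      rw [mul_pow, h3.card, Nat.cast_pow, mul_right_comm]
      exact mul_le_mul_of_nonneg_right h7 (by positivity)
    refine key (le_of_mul_le_mul_right ?_ (show (0 : ℚ) < b ^ t by positivity))
    rw [ht, pow_add] at h10
    have h11 := mul_le_mul_of_nonneg_left h9 (show 0 ≤ cp φ * Nat.card V by positivity)
    nlinarith
  · obtain ⟨M, _, _, ψ, π, e, b0, q0, hs, h2, h3, h4, h5, -⟩ := h1.exists_nd
    obtain ⟨h6, h7⟩ := h1.card_le hs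
    have h8 := h1.dvd_q hd
    have h9 := h1.q_pow_le hd h4
    have h10 := h1.pow_le_q hd hz
    set q := Nat.card (Rg φ U)
    set C := centralizer (U : Set A) with hC
    set x := F.relIndex C
    set j := C.index with hj
    have hj1 : 1 ≤ j := Nat.pos_of_ne_zero index_ne_zero_of_finite
    obtain ⟨h11, h12⟩ := mul_le_pow hj1 hb
    have hbq : b ≤ q := by nlinarith
    have ha : U.relIndex C = e ^ 2 * x := by
      rw [← h4, relIndex_mul_relIndex _ _ _ h1.UF h1.FC]
    have h13 : 3 ≤ ((e ^ 2 * x + 2 : ℕ) : ℚ) * j ^ 2 * cp φ := by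
      have a1 := cp_central (U := U.subgroupOf C) fun u hu => mem_center_iff.2 fun g =>
        Subtype.ext (g.2 u hu).symm
      have a2 := commProb_subgroup_le C
      rw [← cp_of_inj hφ] at a2
      change 3 ≤ ((U.relIndex C : ℚ) + 2) * _ at a1
      rw [ha] at a1
      push_cast at a1 ⊢
      refine a1.trans ?_
      rw [mul_assoc, mul_comm _ (cp φ)]
      exact mul_le_mul_of_nonneg_left a2 (by positivity)
    have key2 : 10 * (e ^ 2 * x + 2) * (j * b) ^ 2 ≤ 177 * Nat.card V →
        10 * (b : ℚ) ^ 2 ≤ 59 * (cp φ * Nat.card V) := fun h14 => by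
      have h15 : (10 * ((e ^ 2 * x + 2 : ℕ) : ℚ) * (j * b) ^ 2 : ℚ) ≤ 177 * Nat.card V := by
        exact_mod_cast h14
      nlinarith [mul_le_mul_of_nonneg_left h13 (show (0 : ℚ) ≤ 10 * b ^ 2 by positivity),
        mul_le_mul_of_nonneg_left h15 hp.le]
    have hx := Nat.le_of_dvd (Nat.pos_of_ne_zero index_ne_zero_of_finite) h6
    by_cases he : 2 ≤ e
    · have hx2 : e = 2 → x ∣ 6 := fun e2 => h6.trans (by
        have := index_dvd_fact ψ
        rwa [h3, e2] at this)
      by_cases h14 : e = 2 ∧ x = 6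
      · obtain ⟨rfl, h14⟩ := h14
        rcases hj1.eq_or_lt with h15 | h15
        · have h16 := index_eq_one.1 h15.symm
          have h17 : 1 ≤ 6 * cp φ := by
            rw [cp_of_inj hφ]
            refine h1.cp_S4 h16 h4 ?_
            rw [← relIndex_top_right, ← h16, ha, h14]; rfl
          have h18 : (q : ℚ) ^ 2 ≤ Nat.card V := by exact_mod_cast h9
          have h19 : (b : ℚ) ≤ q := by exact_mod_cast hbq
          refine ⟨by nlinarith, fun _ => Or.inr ⟨Nat.card U, q, ?_, h17, h8, h5.two_le le_rfl,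
            hbq, h9⟩⟩
          rw [index_ker_of_inj hφ, h7, h4, h14, ← h15]; ring
        · refine key (key2 ?_)
          have := Nat.pow_le_pow_left ((h12 h15).1.trans h10) 2
          rw [h14]
          rw [mul_pow] at this
          omega
      · refine key (key2 (le_trans (Nat.mul_le_mul_left _ (Nat.pow_le_pow_left (h11.trans h10) 2))
          ((num_prim he (hb.trans hbq) (fun h15 => ?_) (fun h15 => ?_) (fun h15 => ?_)
            (fun h15 => ?_) ?_).trans (Nat.mul_le_mul_left _ h9))))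
        · have := (h5.primes 3 Nat.prime_three h15).trans h8
          omega
        · have h16 := hx2 h15
          have h17 := Nat.le_of_dvd (by decide) h16
          have h18 : x ≠ 6 := fun e1 => h14 ⟨h15, e1⟩
          generalize x = y at *
          interval_cases y <;> omega
        · subst h15
          exact h1.x_le_prime hs Nat.prime_three h3
        · rcases h15 with rfl | rfl
          · have := o16 M A ψ h2 (by rw [h3]; decide)
            rw [h3] at this
            exact hx.trans this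
          · exact h1.x_le_prime hs Nat.prime_five h3
        · have := pw M A ψ h2 (Finite.one_lt_card_iff_nontrivial.1 (by rw [h3]; nlinarith))
          rw [h3, ← pow_mul] at this
          exact (Nat.mul_le_mul_left _ hx).trans this
    · obtain rfl : e = 1 := by have := h5.e_pos; omega
      rw [ker_eq_top_of_card ψ (by rw [h3]; decide), index_top] at hx
      have hx1 : x = 1 := le_antisymm hx (Nat.pos_of_ne_zero index_ne_zero_of_finite)
      rw [pow_one] at h9
      rw [hx1] at h13 key2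
      rcases hj1.eq_or_lt with h15 | h15
      · rw [← h15] at h13
        have h16 : (b : ℚ) ≤ Nat.card V := by exact_mod_cast hbq.trans h9
        norm_num at h13
        refine ⟨by nlinarith, fun h17 => Or.inl ?_⟩
        have h18 : (b : ℚ) ^ 2 ≤ Nat.card V := by exact_mod_cast h17
        nlinarith
      · refine key (key2 ?_)
        have := (h12 h15).2
        omega

end CfsgLib.SLin
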