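import Cfsg.Agent.Lib.SLin.Ind

/-!
# The ring of endomorphisms generated by an abelian normal subgroup
-/

set_option autoImplicit false

namespace CfsgLib.SLin

open Subgroup Cfsg
open scoped commutatorElement

theorem fixed_pow (K : Type*) [Ring K] [IsDomain K] [Finite K] (G : Type*) [Group G] [Finite G]
    [MulSemiringAction G K] : Nat.card {x : K // ∀ g : G, g • x = x} ^
      (MulSemiringAction.toRingAut G K).ker.index = Nat.card K := by
  letI : Field K := (Finite.isDomain_to_isField K).toField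
  set Γ := (MulSemiringAction.toRingAut G K).range
  have : Finite Γ := Finite.of_surjective _ (MonoidHom.rangeRestrict_surjective _)
  have := Fintype.ofFinite Γ
  rw [Module.natCard_eq_pow_finrank (K := FixedPoints.subfield Γ K) (V := K),
    FixedPoints.finrank_eq_card, index_ker, ← Nat.card_eq_fintype_card]
  congr 1
  refine Nat.card_congr (Equiv.subtypeEquivRight fun x => ⟨?_, fun h g => h ⟨_, g, rfl⟩⟩)
  rintro h ⟨_, g, rfl⟩
  exact h g

variable {A V : Type*} [Group A] [CommGroup V]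

/-- the endomorphism ring -/
abbrev En (V : Type*) [CommGroup V] := AddMonoid.End (Additive V)

/-- an element of the endomorphism ring as a multiplicative map -/
def em (ρ : En V) : V →* V := MonoidHom.toAdditive.symm ρ

theorem em_mul (ρ τ : En V) (v : V) : em (ρ * τ) v = em ρ (em τ v) := rfl
theorem em_add (ρ τ : En V) (v : V) : em (ρ + τ) v = em ρ v * em τ v := rfl
theorem em_neg (ρ : En V) (v : V) : em (-ρ) v = (em ρ v)⁻¹ := rfl
theorem em_sub (ρ τ : En V) (v : V) : em (ρ - τ) v = em ρ v / em τ v := rfl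
theorem em_one (v : V) : em (1 : En V) v = v := rfl
theorem em_zero (v : V) : em (0 : En V) v = 1 := rfl
theorem em_ext {ρ τ : En V} (h : ∀ v, em ρ v = em τ v) : ρ = τ :=
  AddMonoidHom.ext fun v => h v.toMul

/-- the representation in the endomorphism ring -/
def sg (φ : A →* MulAut V) : A →* En V where
  toFun a := MonoidHom.toAdditive (φ a).toMonoidHom
  map_one' := em_ext fun v => act_one φ v
  map_mul' a b := em_ext fun v => act_mul φ a b v

theorem em_sg (φ : A →* MulAut V) (a : A) (v : V) : em (sg φ a) v = φ a v := rfl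

/-- the subring generated by a subgroup -/
def Rg (φ : A →* MulAut V) (U : Subgroup A) : Subring (En V) := Subring.closure (sg φ '' U)

variable {φ : A →* MulAut V} {U : Subgroup A}

theorem sg_mem {u : A} (hu : u ∈ U) : sg φ u ∈ Rg φ U := Subring.subset_closure ⟨u, hu, rfl⟩

theorem Rg_comm {τ : En V} (h : ∀ u ∈ U, τ * sg φ u = sg φ u * τ) {ρ : En V} (hρ : ρ ∈ Rg φ U) :
    τ * ρ = ρ * τ := by
  have : Rg φ U ≤ Subring.centralizer {τ} := Subring.closure_le.2 (by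
    rintro _ ⟨u, hu, rfl⟩ _ rfl
    exact h u hu)
  exact this hρ τ rfl

theorem Rg_comm_sg {a : A} (h : ∀ u ∈ U, φ (a * u) = φ (u * a)) {ρ : En V} (hρ : ρ ∈ Rg φ U)
    (v : V) : φ a (em ρ v) = em ρ (φ a v) := by
  have := Rg_comm (τ := sg φ a) (fun u hu => em_ext fun v => by
    rw [← map_mul, ← map_mul, em_sg, em_sg, h u hu]) hρ
  rw [← em_sg, ← em_mul, this]; rfl

theorem Rg_comm' (h : ∀ a ∈ U, ∀ b ∈ U, φ (a * b) = φ (b * a)) {ρ τ : En V} (hρ : ρ ∈ Rg φ U)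
    (hτ : τ ∈ Rg φ U) : ρ * τ = τ * ρ :=
  Rg_comm (fun u hu => em_ext fun v => (Rg_comm_sg (h u hu) hρ v).symm) hτ

theorem Rg_inv {W : Subgroup V} (h : InvBy φ U W) {ρ : En V} (hρ : ρ ∈ Rg φ U) :
    ∀ w ∈ W, em ρ w ∈ W := by
  induction hρ using Subring.closure_induction with
  | mem x hx => obtain ⟨u, hu, rfl⟩ := hx; exact h u hu
  | zero => exact fun _ _ => W.one_mem
  | one => exact fun _ hw => hw
  | add x y _ _ h1 h2 => exact fun w hw => W.mul_mem (h1 w hw) (h2 w hw)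
  | neg x _ h1 => exact fun w hw => W.inv_mem (h1 w hw)
  | mul x y _ _ h1 h2 => exact fun w hw => h1 _ (h2 w hw)

theorem Rg_conj [hU : U.Normal] (a : A) {ρ : En V} (hρ : ρ ∈ Rg φ U) :
    sg φ a * ρ * sg φ a⁻¹ ∈ Rg φ U := by
  induction hρ using Subring.closure_induction with
  | mem x hx =>
    obtain ⟨u, hu, rfl⟩ := hx
    rw [← map_mul, ← map_mul]
    exact sg_mem (hU.conj_mem u hu a)
  | zero => rw [mul_zero, zero_mul]; exact zero_mem _
  | one => rw [mul_one, ← map_mul, mul_inv_cancel, map_one]; exact one_mem _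
  | add x y _ _ h1 h2 => rw [mul_add, add_mul]; exact add_mem h1 h2
  | neg x _ h1 =>
    have : sg φ a * -x * sg φ a⁻¹ = -(sg φ a * x * sg φ a⁻¹) := em_ext fun v => map_inv (φ a) _
    rw [this]
    exact neg_mem h1
  | mul x y _ _ h1 h2 =>
    have : sg φ a * (x * y) * sg φ a⁻¹ = sg φ a * x * sg φ a⁻¹ * (sg φ a * y * sg φ a⁻¹) :=
      em_ext fun v => by simp only [em_mul, em_sg, act_inv_act]
    rw [this]
    exact mul_mem h1 h2

/-- the conjugation action on the subring -/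
@[reducible] def cjAct (φ : A →* MulAut V) (U : Subgroup A) [U.Normal] :
    MulSemiringAction A (Rg φ U) where
  smul a ρ := ⟨sg φ a * ρ * sg φ a⁻¹, Rg_conj a ρ.2⟩
  one_smul ρ := Subtype.ext (em_ext fun v => by
    change φ 1 (em ρ (φ 1⁻¹ v)) = _
    rw [inv_one, act_one, act_one])
  mul_smul a b ρ := Subtype.ext (em_ext fun v => by
    change φ (a * b) (em ρ (φ (a * b)⁻¹ v)) = φ a (φ b (em ρ (φ b⁻¹ (φ a⁻¹ v))))
    rw [mul_inv_rev, act_mul, act_mul])
  smul_zero a := Subtype.ext (em_ext fun v => map_one (φ a))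
  smul_add a ρ τ := Subtype.ext (em_ext fun v => map_mul (φ a) _ _)
  smul_one a := Subtype.ext (em_ext fun v => act_act_inv φ a v)
  smul_mul a ρ τ := Subtype.ext (em_ext fun v => by
    change φ a (em ρ (em τ (φ a⁻¹ v))) = φ a (em ρ (φ a⁻¹ (φ a (em τ (φ a⁻¹ v)))))
    rw [act_inv_act])

/-- nonzero elements of the ring are injective -/
def Dom (R : Subring (En V)) : Prop := ∀ ρ ∈ R, ∀ v, v ≠ 1 → em ρ v = 1 → ρ = 0

/-- the cyclic submodule generated by a vector -/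
def orbS (R : Subring (En V)) (v : V) : Subgroup V where
  carrier := {w | ∃ ρ ∈ R, em ρ v = w}
  one_mem' := ⟨0, zero_mem _, rfl⟩
  mul_mem' := by
    rintro _ _ ⟨ρ, h1, rfl⟩ ⟨τ, h2, rfl⟩
    exact ⟨ρ + τ, add_mem h1 h2, rfl⟩
  inv_mem' := by
    rintro _ ⟨ρ, h1, rfl⟩
    exact ⟨-ρ, neg_mem h1, rfl⟩

theorem self_mem_orbS (R : Subring (En V)) (v : V) : v ∈ orbS R v := ⟨1, one_mem _, rfl⟩

theorem orbS_ne_bot (R : Subring (En V)) {v : V} (hv : v ≠ 1) : orbS R v ≠ ⊥ :=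
  fun e => hv (mem_bot.1 (e ▸ self_mem_orbS R v))

theorem Dom.card_orbS {R : Subring (En V)} (h : Dom R) {v : V} (hv : v ≠ 1) :
    Nat.card (orbS R v) = Nat.card R := by
  refine (Nat.card_congr (Equiv.ofBijective (fun ρ : R => (⟨em ρ v, ρ, ρ.2, rfl⟩ : orbS R v))
    ⟨fun ρ τ e => Subtype.ext (sub_eq_zero.1 (h _ (sub_mem ρ.2 τ.2) v hv ?_)), ?_⟩)).symm
  · rw [em_sub]
    exact div_eq_one.2 (congrArg Subtype.val e)
  · rintro ⟨_, ρ, h1, rfl⟩
    exact ⟨⟨ρ, h1⟩, rfl⟩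

theorem Dom.mono {R R' : Subring (En V)} (h : Dom R) (h' : R' ≤ R) : Dom R' :=
  fun ρ hρ => h ρ (h' hρ)

theorem Dom.isDomain [Nontrivial V] {R : Subring (En V)} (h : Dom R) : IsDomain R := by
  obtain ⟨v, hv⟩ := exists_ne (1 : V)
  have : Nontrivial R := ⟨⟨0, 1, fun e => hv (congrArg (fun ρ : R => em ρ.1 v) e).symm⟩⟩
  have : NoZeroDivisors R := ⟨fun {a b} e => or_iff_not_imp_right.2 fun hb =>
    Subtype.ext (h a a.2 (em b v) (fun e1 => hb (Subtype.ext (h b b.2 v hv e1)))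
      (congrArg (fun ρ : R => em ρ v) e))⟩
  exact NoZeroDivisors.to_isDomain _

instance finite_En [Finite V] : Finite (En V) :=
  Finite.of_injective (fun ρ : En V => (em ρ : V → V)) fun _ _ e => em_ext (congrFun e)

theorem Dom.sq_le [Finite V] {R : Subring (En V)} (h : Dom R) {W : Subgroup V}
    (hW : ∀ ρ ∈ R, ∀ w ∈ W, em ρ w ∈ W) {v w : V} (hv : v ∈ W) (hw : w ∈ W) (hv1 : v ≠ 1)
    (hn : w ∉ orbS R v) : Nat.card R ^ 2 ≤ Nat.card W := by
  have hw1 : w ≠ 1 := fun e => hn (e ▸ one_mem _)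
  have : Nontrivial V := ⟨⟨v, 1, hv1⟩⟩
  have := h.isDomain
  have h1 : orbS R v ⊓ orbS R w = ⊥ := by
    rw [eq_bot_iff]
    rintro _ ⟨⟨ρ, h2, rfl⟩, τ, h3, e⟩
    by_contra hne
    have h4 : (⟨τ, h3⟩ : R) ≠ 0 := fun e1 => hne (by
      rw [← e, show τ = 0 from congrArg Subtype.val e1]; exact one_mem _)
    obtain ⟨μ, hμ⟩ := (Finite.isDomain_to_isField R).mul_inv_cancel h4
    rw [(Finite.isDomain_to_isField R).mul_comm] at hμ
    refine hn ⟨μ * ρ, mul_mem μ.2 h2, ?_⟩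
    rw [em_mul, ← e]
    exact congrArg (fun ρ : R => em ρ w) hμ
  rw [pow_two]
  conv_lhs => rw [← h.card_orbS hv1]; congr; rfl; rw [h.card_orbS hv1, ← h.card_orbS hw1]
  rw [← card_sup_of_disjoint (by rw [normalizer_eq_top]; exact le_top) h1]
  refine card_le_of_le (sup_le ?_ ?_)
  · rintro _ ⟨ρ, h2, rfl⟩; exact hW ρ h2 v hv
  · rintro _ ⟨ρ, h2, rfl⟩; exact hW ρ h2 w hw

theorem indepE {ι : Type*} {W : ι → Subgroup V}
    (h : ∀ i j, i ≠ j → ∃ x : V →* V, (∀ v ∈ W i, x v = 1) ∧ (∀ v ∈ W j, x v = 1 → v = 1) ∧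
      ∀ k, ∀ v ∈ W k, x v ∈ W k) (s : Finset ι) :
    ∀ f : ι → V, (∀ i, f i ∈ W i) → ∏ i ∈ s, f i = 1 → ∀ i ∈ s, f i = 1 := by
  classical
  induction s using Finset.induction_on with
  | empty => intro f _ _ i hi; simp at hi
  | insert a s ha ih =>
    intro f hf h1
    have h2 : ∀ j ∈ s, f j = 1 := by
      intro j hj
      obtain ⟨x, h3, h4, h5⟩ := h a j (fun e => ha (e ▸ hj))
      have h6 : ∏ i ∈ insert a s, x (f i) = 1 := by rw [← map_prod, h1, map_one]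
      rw [Finset.prod_insert ha, h3 _ (hf a), one_mul] at h6
      exact h4 _ (hf j) (ih _ (fun i => h5 i _ (hf i)) h6 j hj)
    rw [Finset.prod_insert ha, Finset.prod_eq_one h2, mul_one] at h1
    intro i hi
    rcases Finset.mem_insert.1 hi with rfl | hi
    · exact h1
    · exact h2 i hi

/-- the stabiliser of a subgroup -/
def stabS [Finite A] (φ : A →* MulAut V) (W : Subgroup V) : Subgroup A where
  carrier := {a | ∀ v ∈ W, φ a v ∈ W}
  one_mem' v hv := by rwa [act_one]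
  mul_mem' ha hb v hv := by rw [act_mul]; exact ha _ (hb v hv)
  inv_mem' {a} ha := by
    obtain ⟨n, hn⟩ := mem_powers_iff_mem_zpowers.2 (inv_mem (mem_zpowers a))
    rw [← hn]
    clear hn
    change ∀ v ∈ W, φ (a ^ n) v ∈ W
    induction n with
    | zero => intro v hv; rwa [pow_zero, act_one]
    | succ n ih => intro v hv; rw [pow_succ', act_mul]; exact ha _ (ih v hv)

/-- common kernel of a set of endomorphisms -/
def annS (S : Set (En V)) : Subgroup V where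
  carrier := {v | ∀ ρ ∈ S, em ρ v = 1}
  one_mem' ρ _ := map_one _
  mul_mem' ha hb ρ h := by rw [map_mul, ha ρ h, hb ρ h, one_mul]
  inv_mem' ha ρ h := by rw [map_inv, ha ρ h, inv_one]

theorem sys_of_inj [Finite A] (hirr : Irr φ) {N : Subgroup A} [Fintype (A ⧸ N)] (h5 : N ≠ ⊤)
    {W0 : Subgroup V} (hi : InvBy φ N W0) (h : Function.Injective (pim φ N W0)) (h0 : W0 ≠ ⊥) :
    ∃ (H : Subgroup A) (_ : Fintype (A ⧸ H)) (W : Subgroup V),
      IsCoatom H ∧ W ≠ ⊥ ∧ Sys φ H W ∧ N ≤ H := by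
  obtain ⟨H, hH, h6⟩ := (eq_top_or_exists_le_coatom N).resolve_left h5
  have := Fintype.ofFinite (A ⧸ H)
  obtain ⟨W, h7, h8, h9⟩ := exists_lift h6 hi h h0
  refine ⟨H, this, W, hH, h7, ⟨h8, h9, ?_⟩, h6⟩
  rw [← MonoidHom.range_eq_top]
  refine (hirr _ (inv_range_pim h8)).resolve_left fun e1 => h7 ?_
  rw [eq_bot_iff]
  intro w hw
  have h10 : pim φ H W (fun _ => ⟨w, hw⟩) ∈ (⊥ : Subgroup V) := e1 ▸ ⟨_, rfl⟩
  have h11 := h9 ((mem_bot.1 h10).trans (map_one _).symm)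
  exact congrArg Subtype.val (congrFun h11 ((1 : A) : A ⧸ H))

theorem dom_or_sys [Finite A] [Finite V] (hirr : Irr φ) (U : Subgroup A) [U.Normal]
    (hc : ∀ a ∈ U, ∀ b ∈ U, a * b = b * a) : Dom (Rg φ U) ∨
      ∃ (H : Subgroup A) (_ : Fintype (A ⧸ H)) (W : Subgroup V),
        IsCoatom H ∧ W ≠ ⊥ ∧ Sys φ H W ∧ center A ≤ H := by
  refine or_iff_not_imp_left.2 fun hne => ?_
  unfold Dom at hne
  push Not at hne
  obtain ⟨ρ0, hρ0, v0, hv0, e0, hne⟩ := hne
  obtain ⟨_, hle, ⟨h1, S, hS, rfl⟩, hmin⟩ := exists_minimal_le_of_wellFoundedLT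
    (fun W : Subgroup V => W ≠ ⊥ ∧ ∃ S : Set (En V), S ⊆ Rg φ U ∧ W = annS S) (annS {ρ0})
    ⟨fun e => hv0 (mem_bot.1 (e ▸ (fun ρ hρ => hρ ▸ e0 : v0 ∈ annS {ρ0}))), _,
      Set.singleton_subset_iff.2 hρ0, rfl⟩
  have hc' : ∀ {ρ τ : En V}, ρ ∈ Rg φ U → τ ∈ Rg φ U → ∀ v, em ρ (em τ v) = em τ (em ρ v) :=
    fun h2 h3 v => by
      rw [← em_mul, Rg_comm' (fun a ha b hb => by rw [hc a ha b hb]) h2 h3, em_mul]
  have hmax : ∀ ρ ∈ Rg φ U, ∀ v ∈ annS S, v ≠ 1 → em ρ v = 1 → ∀ w ∈ annS S, em ρ w = 1 := by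
    intro ρ hρ v hv hv1 e w hw
    refine hmin (y := annS (insert ρ S)) ⟨fun e1 => hv1 (mem_bot.1 (e1 ▸ ?_)), _,
      Set.insert_subset hρ hS, rfl⟩ (fun x hx τ hτ => hx τ (Set.mem_insert_of_mem _ hτ)) hw ρ
      (Set.mem_insert _ _)
    rintro τ (rfl | hτ)
    exacts [e, hv τ hτ]
  set N := stabS φ (annS S)
  have := Fintype.ofFinite (A ⧸ N)
  have h2 : Function.Injective (pim φ N (annS S)) := by
    rw [injective_iff_map_eq_one]
    intro w hw
    have key := indepE (W := fun ω : A ⧸ N => (annS S).comap (φ ω.out⁻¹).toMonoidHom)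
      (fun i j hij => by
        have h3 : ∃ s ∈ S, ∃ v ∈ annS S, em s (φ (i.out⁻¹ * j.out) v) ≠ 1 := by
          by_contra hne
          push Not at hne
          apply hij
          rw [← i.out_eq, ← j.out_eq]
          exact QuotientGroup.eq.2 fun v hv s hs => hne s hs v hv
        obtain ⟨s, hs, v, hv, h3⟩ := h3
        have h4 : ∀ (k : A) (x : V), φ k⁻¹ (em (sg φ i.out * s * sg φ i.out⁻¹) x) =
            em (sg φ (k⁻¹ * i.out) * s * sg φ (k⁻¹ * i.out)⁻¹) (φ k⁻¹ x) := fun k x => by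
          simp only [em_mul, em_sg, mul_inv_rev, inv_inv, act_mul, act_act_inv]
        refine ⟨em (sg φ i.out * s * sg φ i.out⁻¹), fun x hx => ?_, fun x hx e => ?_,
          fun k x hx t ht => ?_⟩
        · rw [em_mul, em_mul, em_sg, em_sg, show em s (φ i.out⁻¹ x) = 1 from hx s hs, map_one]
        · by_contra hx1
          have h5 := hmax _ (Rg_conj (j.out⁻¹ * i.out) (hS hs)) _ hx
            (fun e1 => hx1 ((φ j.out⁻¹).injective (e1.trans (map_one _).symm)))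
            ((h4 _ x).symm.trans (by rw [e, map_one])) v hv
          rw [em_mul, em_mul, em_sg, em_sg, mul_inv_rev, inv_inv] at h5
          exact h3 ((φ _).injective (h5.trans (map_one _).symm))
        · change em t (φ k.out⁻¹ _) = 1
          rw [h4, hc' (hS ht) (Rg_conj _ (hS hs)), show em t (φ k.out⁻¹ x) = 1 from hx t ht,
            map_one]) Finset.univ (fun ω => φ ω.out (w ω))
      (fun ω => by
        change φ ω.out⁻¹ (φ ω.out _) ∈ annS S
        rw [act_inv_act]; exact (w ω).2) hw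
    funext ω
    exact Subtype.ext ((φ ω.out).injective ((key ω (Finset.mem_univ _)).trans (map_one _).symm))
  obtain ⟨H, _, W, a1, a2, a3, a4⟩ := sys_of_inj hirr (N := N) (fun e => by
    rcases hirr (annS S) (fun a => (e ▸ mem_top a : a ∈ N)) with e1 | e1
    · exact h1 e1
    · exact hne (em_ext fun v => hle (e1 ▸ mem_top v) ρ0 rfl)) (fun a ha => ha) h2 h1
  refine ⟨H, _, W, a1, a2, a3, le_trans (b := N) (fun z hz v hv s hs => ?_) a4⟩
  rw [← Rg_comm_sg (fun u _ => by rw [mem_center_iff.1 hz u]) (hS hs), hv s hs, map_one]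

theorem pd_or_sys [Finite A] [Finite V] [Group.IsSolvable A] [Nontrivial V]
    (hφ : Function.Injective φ) (hirr : Irr φ) :
    (∃ (H : Subgroup A) (_ : Fintype (A ⧸ H)) (W : Subgroup V),
        IsCoatom H ∧ W ≠ ⊥ ∧ Sys φ H W ∧ center A ≤ H) ∨
      ∃ U F, PD φ U F ∧ Dom (Rg φ U) := by
  refine or_iff_not_imp_left.2 fun hne => ?_
  obtain ⟨U, F, h⟩ := exists_pd hφ fun U hU hc u hu v hv e => by
    have h1 := (dom_or_sys hirr U hc).resolve_right hne _ (sub_mem (sg_mem hu) (one_mem _)) v hv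
      (by rw [em_sub, em_sg, e, em_one, div_self'])
    refine hφ (MulEquiv.ext fun w => ?_)
    rw [← em_sg, sub_eq_zero.1 h1, act_one, em_one]
  have := h.nU
  exact ⟨U, F, h, (dom_or_sys hirr U fun a ha b hb => (h.com (h.UF ha) hb).eq).resolve_right hne⟩

/-- `z` acts centrally and all nontrivial `z`-invariant subgroups have order at least `b` -/
def Cz (φ : A →* MulAut V) (z : A) (b : ℕ) : Prop :=
  (∀ a, φ (a * z) = φ (z * a)) ∧
    ∀ W : Subgroup V, (∀ w ∈ W, φ z w ∈ W) → W ≠ ⊥ → b ≤ Nat.card W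

namespace PD
variable [Finite A] [Finite V] [Nontrivial V] {F : Subgroup A}

theorem dvd_q (h : PD φ U F) (hd : Dom (Rg φ U)) : Nat.card U ∣ Nat.card (Rg φ U) - 1 := by
  obtain ⟨v, hv⟩ := exists_ne (1 : V)
  rw [← hd.card_orbS hv]
  refine card_dvd_of_fpf (res φ U (orbS (Rg φ U) v) ?_) fun u w hw e =>
    Subtype.ext (h.fpf u u.2 w (fun e1 => hw (Subtype.ext e1)) (congrArg Subtype.val e))
  rintro u hu _ ⟨ρ, h1, rfl⟩
  exact ⟨sg φ u * ρ, mul_mem (sg_mem hu) h1, rfl⟩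

theorem q_pow_le (h : PD φ U F) (hd : Dom (Rg φ U)) {e : ℕ} (he : U.relIndex F = e ^ 2) :
    Nat.card (Rg φ U) ^ e ≤ Nat.card V := by
  obtain ⟨B, ρ, h1, h2, ⟨_, h3, h4, -, rfl, h5⟩, v0, -, h6⟩ := h.exists_B
  have hBF : B ≤ F := h6 ▸ inf_le_left
  have hF : ∀ x ∈ F, ∀ τ ∈ Rg φ U, ∀ v, φ x (em τ v) = em τ (φ x v) := fun x hx τ hτ =>
    Rg_comm_sg (fun u hu => by rw [(h.com hx hu).eq]) hτ
  have hW : ∀ τ ∈ Rg φ U, ∀ w ∈ fixS φ B, em τ w ∈ fixS φ B := fun τ hτ w hw b hb => by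
    rw [hF b (hBF hb) τ hτ, hw b hb]
  obtain ⟨⟨v, hv⟩, hv1⟩ := ne_bot_iff_exists_ne_one.1 h4
  have hv1' : v ≠ 1 := fun e => hv1 (Subtype.ext e)
  by_cases h7 : ρ = 1
  · rw [h7, one_mul, he] at h2
    rw [Nat.pow_left_injective two_ne_zero h2]
    refine le_trans (Nat.pow_le_pow_left ?_ _) h3
    rw [← hd.card_orbS hv1']
    refine card_le_of_le ?_
    rintro _ ⟨τ, hτ, rfl⟩
    exact hW τ hτ v hv
  · rw [h1.resolve_left h7, he, show 4 * Nat.card B ^ 2 = (2 * Nat.card B) ^ 2 by ring] at h2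
    rw [Nat.pow_left_injective two_ne_zero h2, pow_mul]
    refine le_trans (Nat.pow_le_pow_left ?_ _) h3
    obtain ⟨x, hx, y, hy, h8⟩ := h5.resolve_left h7
    have key : ∀ x ∈ F ⊓ centralizer (B : Set A), φ x v ∈ fixS φ B := fun x hx =>
      invBy_normalizer B x (centralizer_le_normalizer _ hx.2) v hv
    by_cases h9 : φ x v ∈ orbS (Rg φ U) v
    · refine hd.sq_le hW hv (key y hy) hv1' fun h10 => h8 (h.fpf _ (h.cmem hx.1 hy.1)
        (φ (y * x) v) (fun e => hv1' ((φ _).injective (e.trans (map_one _).symm))) ?_)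
      obtain ⟨α, hα, e1⟩ := h9
      obtain ⟨β, hβ, e2⟩ := h10
      rw [← act_mul, show ⁅x, y⁆ * (y * x) = x * y by simp [commutatorElement_def, mul_assoc],
        act_mul, act_mul]
      conv_lhs => rw [← e2, hF x hx.1 β hβ, ← e1]
      conv_rhs => rw [← e1, hF y hy.1 α hα, ← e2]
      rw [← em_mul, Rg_comm' (fun a ha b hb => by rw [(h.com (h.UF ha) hb).eq]) hβ hα, em_mul]
    · exact hd.sq_le hW hv (key x hx) hv1' h9

theorem pow_le_q (h : PD φ U F) (hd : Dom (Rg φ U)) {z : A} {b : ℕ} (hz : Cz φ z b) :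
    b ^ (centralizer (U : Set A)).index ≤ Nat.card (Rg φ U) := by
  have := h.nU
  have := hd.isDomain
  letI := cjAct φ U
  have hz1 : ∀ a, a * z = z * a := fun a => h.inj (hz.1 a)
  have hzU : z ∈ U := by
    have h1 : z ∈ F := h.kerM z (fun u _ => hz1 u) fun x _ => by
      rw [commutatorElement_eq_one_iff_mul_comm.2 (hz1 x).symm]; exact U.one_mem
    exact h.maxU F h.nF h.UF le_rfl ⟨h1, fun u _ => hz1 u⟩
  have h1 : (MulSemiringAction.toRingAut A (Rg φ U)).ker = centralizer (U : Set A) := by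
    ext a
    rw [MonoidHom.mem_ker, mem_centralizer_iff, RingEquiv.ext_iff]
    refine ⟨fun h2 u hu => h.inj (MulEquiv.ext fun v => ?_), fun h2 ρ => Subtype.ext
      (em_ext fun v => ?_)⟩
    · have h3 := congrArg (fun ρ : Rg φ U => em ρ (φ a v)) (h2 ⟨_, sg_mem hu⟩)
      change φ a (φ u (φ a⁻¹ (φ a v))) = φ u (φ a v) at h3
      rw [act_mul, act_mul, ← h3, act_inv_act]
    · change φ a (em ρ (φ a⁻¹ v)) = em ρ v
      rw [Rg_comm_sg (fun u hu => by rw [h2 u hu]) ρ.2, act_act_inv]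
  rw [← fixed_pow (Rg φ U) A, h1]
  refine Nat.pow_le_pow_left ?_ _
  obtain ⟨v, hv⟩ := exists_ne (1 : V)
  set R0 := Rg φ U ⊓ Subring.centralizer (Set.range (sg φ))
  refine (hz.2 (orbS R0 v) ?_ (orbS_ne_bot _ hv)).trans ?_
  · rintro _ ⟨ρ, h2, rfl⟩
    refine ⟨sg φ z * ρ, mul_mem ⟨sg_mem hzU, ?_⟩ h2, rfl⟩
    rintro _ ⟨a, rfl⟩
    rw [← map_mul, ← map_mul, hz1]
  · rw [(hd.mono inf_le_left).card_orbS hv]
    refine Nat.card_le_card_of_injective (fun ρ : R0 => ⟨⟨ρ, ρ.2.1⟩, fun a => Subtype.ext ?_⟩)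
      fun ρ τ e => Subtype.ext (congrArg (fun x => x.1.1) e)
    change sg φ a * ρ * sg φ a⁻¹ = ρ
    rw [ρ.2.2 _ ⟨a, rfl⟩, mul_assoc, ← map_mul, mul_inv_cancel, map_one, mul_one]

end PD

end CfsgLib.SLin
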