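import Mathlib

/-!
# Numerical lemmas for solvable linear groups
-/

set_option autoImplicit false

namespace CfsgLib.SLin

theorem pow_succ_le {k e0 c e : ℕ} (h0 : 0 < e0) (h : (e0 + 1) ^ k ≤ c * e0 ^ k) (he : e0 ≤ e) :
    (e + 1) ^ k ≤ c * e ^ k := by
  have h1 : (e0 * (e + 1)) ^ k ≤ ((e0 + 1) * e) ^ k := Nat.pow_le_pow_left (by nlinarith) k
  rw [mul_pow, mul_pow] at h1
  refine Nat.le_of_mul_le_mul_left (h1.trans ?_) (pow_pos h0 k)
  calc (e0 + 1) ^ k * e ^ k ≤ c * e0 ^ k * e ^ k := Nat.mul_le_mul_right _ h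
    _ = _ := by ring

theorem grow {k e0 c A : ℕ} (h0 : 0 < e0) (hc : 0 < c) (h1 : (e0 + 1) ^ k ≤ c * e0 ^ k)
    (h2 : e0 ^ k < A) (t : ℕ) : (e0 + t) ^ k < A * c ^ t := by
  induction t with
  | zero => simpa using h2
  | succ t ih =>
    calc (e0 + (t + 1)) ^ k ≤ c * (e0 + t) ^ k := pow_succ_le h0 h1 (Nat.le_add_right _ _)
      _ < c * (A * c ^ t) := Nat.mul_lt_mul_of_pos_left ih hc
      _ = _ := by ring

/-- bound for the derived length of a completely reducible solvable group -/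
def Fb (N : ℕ) : ℕ := if N ≤ 2 then 0 else if N ≤ 3 then 1 else if N ≤ 8 then 2 else
  if N = 16 then 3 else if N < 64 then 4 else if N < 4096 then 6 else 8

theorem Fb_mono {x y : ℕ} (h : x ≤ y) (hy : y ≠ 16) : Fb x ≤ Fb y := by
  unfold Fb; split_ifs <;> omega

theorem Fb_le_mul {a b : ℕ} (hb : 2 ≤ b) : Fb a ≤ Fb (a * b) := by
  by_cases h : a * b = 16
  · rw [h]
    have : a ≤ 8 := by nlinarith
    unfold Fb; split_ifs <;> omega
  · exact Fb_mono (by nlinarith) h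

theorem Fb_pow {m n : ℕ} (hm : 2 ≤ m) (hn : 2 ≤ n) (h : n ^ m < 25600) :
    Fb m + 1 + Fb n ≤ Fb (n ^ m) := by
  have h1 : m < 15 := by
    by_contra h2
    have := (Nat.pow_le_pow_left hn m).trans' (Nat.pow_le_pow_right two_pos (not_lt.1 h2))
    omega
  have h2 : n < 160 := by
    by_contra h2
    have := (Nat.pow_le_pow_right (by omega) hm).trans' (Nat.pow_le_pow_left (not_lt.1 h2) 2)
    omega
  have key : ∀ m < 15, ∀ n < 160, 2 ≤ m → 2 ≤ n → n ^ m < 25600 →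
      Fb m + 1 + Fb n ≤ Fb (n ^ m) := by decide +kernel
  exact key m h1 n h2 hm hn h

theorem four_mul_pow {u e j : ℕ} (hu : 2 ≤ u) (hj : j ≤ e) :
    (4 * u) ^ j * 9 ^ (e - j) ≤ (4 * u + 1) ^ e := by
  obtain ⟨t, rfl⟩ := Nat.exists_eq_add_of_le hj
  rw [Nat.add_sub_cancel_left, pow_add]
  exact Nat.mul_le_mul (Nat.pow_le_pow_left (by omega) _) (Nat.pow_le_pow_left (by omega) _)

theorem num_pw {u e : ℕ} (hu : 2 ≤ u) (he : 2 ≤ e) (h3 : e = 3 → 3 ≤ u) :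
    (u * (u - 1) * e ^ 8) ^ 2 ≤ (4 * u + 1) ^ (3 * e) := by
  have h1 : u * (u - 1) ≤ u ^ 2 := by rw [pow_two]; exact Nat.mul_le_mul_left _ (by omega)
  have h2 : (u * (u - 1) * e ^ 8) ^ 2 ≤ u ^ 4 * e ^ 16 :=
    calc (u * (u - 1) * e ^ 8) ^ 2 ≤ (u ^ 2 * e ^ 8) ^ 2 :=
        Nat.pow_le_pow_left (Nat.mul_le_mul_right _ h1) 2
      _ = _ := by ring
  by_cases h4 : 4 ≤ e
  · obtain ⟨t, rfl⟩ := Nat.exists_eq_add_of_le h4
    refine h2.trans (le_trans ?_ (four_mul_pow hu (j := 4) (by omega)))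
    have h5 := grow (k := 16) (e0 := 4) (c := 9 ^ 3) (A := 256 * 9 ^ 8) (by norm_num) (by norm_num)
      (by norm_num) (by norm_num) t
    rw [show 3 * (4 + t) - 4 = 8 + 3 * t by omega, pow_add, pow_mul, mul_pow]
    nlinarith [Nat.zero_le (u ^ 4)]
  · have h5 : e = 2 ∨ e = 3 := by omega
    rcases h5 with rfl | rfl
    · by_cases h6 : 4 ≤ u
      · refine h2.trans (le_trans ?_ (Nat.pow_le_pow_left (Nat.le_succ _) _))
        have : 16 ≤ u ^ 2 := by nlinarith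
        calc u ^ 4 * 2 ^ 16 = 4096 * u ^ 4 * 16 := by ring
          _ ≤ 4096 * u ^ 4 * u ^ 2 := Nat.mul_le_mul_left _ this
          _ = _ := by ring
      · interval_cases u <;> norm_num
    · have h6 := h3 rfl
      refine h2.trans ?_
      calc u ^ 4 * 3 ^ 16 ≤ (4 * u) ^ 4 * 13 ^ 5 := by rw [mul_pow]; nlinarith [Nat.zero_le (u ^ 4)]
        _ ≤ (4 * u + 1) ^ 4 * (4 * u + 1) ^ 5 :=
          Nat.mul_le_mul (Nat.pow_le_pow_left (by omega) _) (Nat.pow_le_pow_left (by omega) _)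
        _ = _ := by ring

theorem num_iv {u e N : ℕ} (hu : 2 ≤ u) (he : 64 ≤ e) (h : (4 * u + 1) ^ e ≤ N ^ 2) :
    u ^ 2 * e ^ 8 < N := by
  obtain ⟨t, rfl⟩ := Nat.exists_eq_add_of_le he
  refine lt_of_pow_lt_pow_left₀ 2 (Nat.zero_le _) (lt_of_lt_of_le ?_
    ((four_mul_pow hu (j := 4) (by omega)).trans h))
  have h5 := grow (k := 16) (e0 := 64) (c := 9) (A := 256 * 9 ^ 60) (by norm_num) (by norm_num)
    (by norm_num) (by norm_num) t
  rw [show 64 + t - 4 = 60 + t by omega, pow_add 9]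
  calc (u ^ 2 * (64 + t) ^ 8) ^ 2 = u ^ 4 * (64 + t) ^ 16 := by ring
    _ < u ^ 4 * (256 * 9 ^ 60 * 9 ^ t) := Nat.mul_lt_mul_of_pos_left h5 (by positivity)
    _ = _ := by ring

theorem num_v {u e N : ℕ} (hu : 2 ≤ u) (he : 160 ≤ e) (h : (4 * u + 1) ^ e ≤ N ^ 2) :
    (u ^ 2 * e ^ 8) ^ 4 < N := by
  obtain ⟨t, rfl⟩ := Nat.exists_eq_add_of_le he
  refine lt_of_pow_lt_pow_left₀ 2 (Nat.zero_le _) (lt_of_lt_of_le ?_
    ((four_mul_pow hu (j := 16) (by omega)).trans h))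
  have h5 := grow (k := 64) (e0 := 160) (c := 9) (A := 4 ^ 16 * 9 ^ 144) (by norm_num)
    (by norm_num) (by norm_num) (by norm_num) t
  rw [show 160 + t - 16 = 144 + t by omega, pow_add 9]
  calc ((u ^ 2 * (160 + t) ^ 8) ^ 4) ^ 2 = u ^ 16 * (160 + t) ^ 64 := by ring
    _ < u ^ 16 * (4 ^ 16 * 9 ^ 144 * 9 ^ t) := Nat.mul_lt_mul_of_pos_left h5 (by positivity)
    _ = _ := by ring

theorem num_sqrt {N b T : ℕ} (hN : 4 ≤ N) (hb : 1 ≤ b) (h : (N - 1) * b ≤ T * (N.sqrt - 1)) :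
    b ^ 2 * N < T ^ 2 := by
  have h1 := Nat.sqrt_le' N
  have h2 := Nat.lt_succ_sqrt' N
  have h3 : 2 ≤ N.sqrt := Nat.le_sqrt'.2 hN
  obtain ⟨y, hy⟩ : ∃ y, N.sqrt = y + 1 := ⟨N.sqrt - 1, by omega⟩
  rw [hy] at h h1 h2 h3
  rw [Nat.add_sub_cancel] at h
  have h4 : y * (y + 2) ≤ N - 1 := by
    have : (y + 1) ^ 2 = y * (y + 2) + 1 := by ring
    omega
  have h5 : (y + 2) * b ≤ T := by
    refine Nat.le_of_mul_le_mul_left (c := y) ?_ (by omega)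
    nlinarith [Nat.mul_le_mul_right b h4]
  calc b ^ 2 * N < b ^ 2 * (y + 2) ^ 2 := Nat.mul_lt_mul_of_pos_left h2 (by positivity)
    _ = ((y + 2) * b) ^ 2 := by ring
    _ ≤ _ := Nat.pow_le_pow_left h5 2

theorem num_tr1 {u e N : ℕ} (hu : 2 ≤ u) (he : 5 ≤ e) (h : (u + 1) ^ e ≤ N) :
    (u * e ^ 2 - u) ^ 2 ≤ (e - 1) ^ 2 * N := by
  obtain ⟨t, rfl⟩ := Nat.exists_eq_add_of_le he
  have h5 := grow (k := 2) (e0 := 6) (c := 3) (A := 37) (by norm_num) (by norm_num)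
    (by norm_num) (by norm_num) t
  have h1 : u * (5 + t) ^ 2 - u = (4 + t) * (u * (6 + t)) := by
    apply Nat.sub_eq_of_eq_add; ring
  rw [h1, show 5 + t - 1 = 4 + t by omega, mul_pow]
  refine Nat.mul_le_mul_left _ (le_trans ?_ h)
  have h2 : 37 * u ^ 2 ≤ (u + 1) ^ 5 := by
    obtain ⟨s, rfl⟩ := Nat.exists_eq_add_of_le hu
    ring_nf
    nlinarith [Nat.zero_le (s ^ 2), Nat.zero_le (s ^ 3), Nat.zero_le (s ^ 4), Nat.zero_le (s ^ 5)]
  calc (u * (6 + t)) ^ 2 = u ^ 2 * (6 + t) ^ 2 := by ring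
    _ ≤ u ^ 2 * (37 * 3 ^ t) := Nat.mul_le_mul_left _ h5.le
    _ = 37 * u ^ 2 * 3 ^ t := by ring
    _ ≤ (u + 1) ^ 5 * (u + 1) ^ t := Nat.mul_le_mul h2 (Nat.pow_le_pow_left (by omega) _)
    _ = _ := by ring

theorem num_tr2 {u b N : ℕ} (hu : 2 ≤ u) (hb : 3 ≤ b) (h3 : b = 3 → 6 ≤ u)
    (h : (4 * u + 1) ^ b ≤ N) : (u * (2 * b) ^ 2 - u) ^ 2 ≤ (b - 1) ^ 2 * N := by
  refine le_trans ?_ (Nat.mul_le_mul_left _ h)
  by_cases h4 : b = 3
  · subst h4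
    have h5 := h3 rfl
    have h1 : u * (2 * 3) ^ 2 - u = 35 * u := by omega
    rw [h1]
    calc (35 * u) ^ 2 ≤ 256 * u ^ 2 * 6 := by nlinarith [Nat.zero_le (u ^ 2)]
      _ ≤ 256 * u ^ 2 * u := Nat.mul_le_mul_left _ h5
      _ = (3 - 1) ^ 2 * (4 * u) ^ 3 := by ring
      _ ≤ _ := Nat.mul_le_mul_left _ (Nat.pow_le_pow_left (by omega) _)
  · obtain ⟨t, rfl⟩ := Nat.exists_eq_add_of_le (show 4 ≤ b by omega)
    have h5 := grow (k := 4) (e0 := 4) (c := 9) (A := 9 * 81) (by norm_num) (by norm_num)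
      (by norm_num) (by norm_num) t
    have h6 := four_mul_pow hu (j := 2) (e := 4 + t) (by omega)
    rw [show 4 + t - 2 = 2 + t by omega, pow_add] at h6
    calc (u * (2 * (4 + t)) ^ 2 - u) ^ 2 ≤ (u * (2 * (4 + t)) ^ 2) ^ 2 :=
        Nat.pow_le_pow_left (Nat.sub_le _ _) 2
      _ = 16 * u ^ 2 * (4 + t) ^ 4 := by ring
      _ ≤ 16 * u ^ 2 * (9 * 81 * 9 ^ t) := Nat.mul_le_mul_left _ h5.le
      _ = 3 ^ 2 * ((4 * u) ^ 2 * (9 ^ 2 * 9 ^ t)) := by ring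
      _ ≤ _ := Nat.mul_le_mul (Nat.pow_le_pow_left (by omega) _) h6

theorem num_tr3 {u N Z : ℕ} (hu : 1 ≤ u) (h1 : (u + 1) ^ 3 ≤ N) (h2 : Z ^ 3 ≤ N)
    (h : (N - 1) * 2 ≤ (u * 3 ^ 2 - u) * (Z - 1)) : False := by
  have h3 : u * 3 ^ 2 - u = 8 * u := by omega
  rw [h3] at h
  rcases le_or_gt Z (u + 1) with h4 | h4
  · have h5 : 8 * u * (Z - 1) ≤ 8 * u * u := Nat.mul_le_mul_left _ (by omega)
    have h6 : (u + 1) ^ 3 = u ^ 3 + 3 * (u * u) + 3 * u + 1 := by ring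
    have h7 : u * u ≤ u ^ 3 := by nlinarith
    rw [mul_assoc 8 u u] at h5
    omega
  · obtain ⟨z, rfl⟩ : ∃ z, Z = z + 1 := ⟨Z - 1, by omega⟩
    rw [Nat.add_sub_cancel] at h
    have h6 : (z + 1) ^ 3 = z * (z * z + 3 * z + 3) + 1 := by ring
    have h7 : z * (4 * u + 1) ≤ z * (z * z + 3 * z + 3) := Nat.mul_le_mul_left _ (by nlinarith)
    have h8 : 8 * u * z + 2 * z = 2 * (z * (4 * u + 1)) := by ring
    omega

theorem sum_sub_one_le {ι : Type*} (c : ι → ℝ) (hc : ∀ i, 1 ≤ c i) (s : Finset ι) :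
    ∑ i ∈ s, (c i - 1) ≤ ∏ i ∈ s, c i - 1 := by
  classical
  induction s using Finset.induction_on with
  | empty => simp
  | insert a s ha ih =>
    rw [Finset.sum_insert ha, Finset.prod_insert ha]
    have h1 : 1 ≤ ∏ i ∈ s, c i := by
      simpa using Finset.prod_le_prod (s := s) (f := fun _ => (1 : ℝ)) (fun _ _ => zero_le_one)
        fun i _ => hc i
    nlinarith [hc a]

theorem greedy {ι : Type*} [Fintype ι] (c : ι → ℝ) {X : ℝ} (hX : 1 ≤ X) (hc : ∀ i, 1 ≤ c i)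
    (h2 : ∀ i, c i ≤ X ^ 2) (h3 : ∏ i, c i ≤ X ^ 3) : ∑ i, (c i - 1) ≤ X ^ 2 + X - 2 := by
  classical
  by_cases h4 : ∏ i, c i < X
  · have := sum_sub_one_le c hc Finset.univ
    nlinarith
  obtain ⟨J, h5, h6⟩ : ∃ J : Finset ι, X ≤ ∏ i ∈ J, c i ∧ ∏ i ∈ J, c i ≤ X ^ 2 := by
    by_cases h7 : ∃ i, X ≤ c i
    · obtain ⟨i, hi⟩ := h7
      exact ⟨{i}, by simpa using hi, by simpa using h2 i⟩
    · push Not at h7 h4
      obtain ⟨J, -, hJ⟩ := exists_minimal_le_of_wellFoundedLT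
        (fun J : Finset ι => X ≤ ∏ i ∈ J, c i) Finset.univ h4
      refine ⟨J, hJ.1, ?_⟩
      rcases J.eq_empty_or_nonempty with rfl | ⟨i, hi⟩
      · rw [Finset.prod_empty]; nlinarith
      · have h8 : ∏ j ∈ J.erase i, c j < X := by
          by_contra h9
          exact (Finset.erase_ssubset hi).not_ge (hJ.2 (not_lt.1 h9) (Finset.erase_subset _ _))
        rw [← Finset.mul_prod_erase _ _ hi, pow_two]
        exact (mul_lt_mul'' (h7 i) h8 (by linarith [hc i])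
          (Finset.prod_nonneg fun j _ => by linarith [hc j])).le
  rw [← Finset.prod_mul_prod_compl J] at h3
  rw [← Finset.sum_add_sum_compl J]
  have a1 := sum_sub_one_le c hc J
  have a2 := sum_sub_one_le c hc Jᶜ
  have a3 : ∏ i ∈ J, c i + ∏ i ∈ Jᶜ, c i ≤ X ^ 2 + X := by
    refine le_of_mul_le_mul_left ?_ (show 0 < ∏ i ∈ J, c i by linarith)
    nlinarith [mul_nonneg (sub_nonneg.2 h5) (sub_nonneg.2 h6)]
  linarith

theorem num_odd {e q a : ℕ} (he : 13 ≤ e) (ho : Odd e) (h7 : 7 ≤ q)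
    (hq : ∀ r, r.Prime → r ∣ e → 2 * r + 1 ≤ q) (h15 : e = 15 → 31 ≤ q) (ha : 8 * a ≤ e ^ 6) :
    (a + 1) ^ 3 ≤ 8 * q ^ e := by
  have key : ∀ q0, q0 ≤ q → (e ^ 6 + 8) ^ 3 ≤ 4096 * q0 ^ e → (a + 1) ^ 3 ≤ 8 * q ^ e := by
    intro q0 h1 h2
    have h3 := Nat.pow_le_pow_left h1 e
    have h4 : (8 * (a + 1)) ^ 3 ≤ (e ^ 6 + 8) ^ 3 := Nat.pow_le_pow_left (by omega) 3
    rw [mul_pow] at h4
    omega
  by_cases h1 : 29 ≤ e
  · refine key 7 h7 ?_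
    obtain ⟨t, rfl⟩ := Nat.exists_eq_add_of_le h1
    have h5 := grow (k := 18) (e0 := 29) (c := 7) (A := 512 * 7 ^ 29) (by norm_num) (by norm_num)
      (by norm_num) (by norm_num) t
    have h6 : 8 ≤ (29 + t) ^ 6 := le_trans (by norm_num) (Nat.pow_le_pow_left (Nat.le_add_right _ _) 6)
    calc ((29 + t) ^ 6 + 8) ^ 3 ≤ (2 * (29 + t) ^ 6) ^ 3 := Nat.pow_le_pow_left (by omega) 3
      _ = 8 * (29 + t) ^ 18 := by ring
      _ ≤ 8 * (512 * 7 ^ 29 * 7 ^ t) := Nat.mul_le_mul_left _ h5.le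
      _ = _ := by ring
  · obtain ⟨k, rfl⟩ := ho
    have h2 : k ≤ 13 := by omega
    have h3 : 6 ≤ k := by omega
    interval_cases k
    · exact key 27 (hq 13 (by norm_num) (by norm_num)) (by norm_num)
    · exact key 31 (h15 rfl) (by norm_num)
    · exact key 35 (hq 17 (by norm_num) (by norm_num)) (by norm_num)
    · exact key 39 (hq 19 (by norm_num) (by norm_num)) (by norm_num)
    · exact key 15 (hq 7 (by norm_num) (by norm_num)) (by norm_num)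
    · exact key 47 (hq 23 (by norm_num) (by norm_num)) (by norm_num)
    · exact key 11 (hq 5 (by norm_num) (by norm_num)) (by norm_num)
    · exact key 7 h7 (by norm_num)

end CfsgLib.SLin
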