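import Cfsg.Agent.Lib.SLin.PrimB
import Cfsg.Agent.Lib.SLin.Num

/-!
# Derived length and order of completely reducible solvable linear groups
-/

set_option autoImplicit false

namespace CfsgLib.SLin

open Subgroup Cfsg
open scoped commutatorElement

universe u

theorem cr_induction
    {P : ∀ (V A : Type u) [CommGroup V] [Finite V] [Group A] [Finite A], (A →* MulAut V) → Prop}
    (hrange : ∀ (V A : Type u) [CommGroup V] [Finite V] [Group A] [Finite A] (φ : A →* MulAut V),
      P V φ.range φ.range.subtype → P V A φ)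
    (hstep : ∀ (V A : Type u) [CommGroup V] [Finite V] [Group A] [Finite A] [Group.IsSolvable A]
      (φ : A →* MulAut V), Function.Injective φ → CR φ →
      (∀ (V' A' : Type u) [CommGroup V'] [Finite V'] [Group A'] [Finite A'] [Group.IsSolvable A']
        (φ' : A' →* MulAut V'), Nat.card V' < Nat.card V → CR φ' → P V' A' φ') → P V A φ)
    (V A : Type u) [CommGroup V] [Finite V] [Group A] [Finite A] [Group.IsSolvable A]
    (φ : A →* MulAut V) (h : CR φ) : P V A φ := by
  induction hn : Nat.card V using Nat.strong_induction_on generalizing V A with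
  | _ n ih =>
    have := Group.isSolvable_of_surjective φ.rangeRestrict_surjective
    exact hrange V A φ (hstep V φ.range φ.range.subtype φ.range.subtype_injective h.range
      fun V' A' _ _ _ _ _ φ' hlt h' => ih _ (hn ▸ hlt) V' A' φ' h' rfl)

section cases
variable {V A : Type u} [CommGroup V] [Finite V] [Group A] [Finite A] {φ : A →* MulAut V}

omit [Finite A] in
theorem CR.irr_or (h : CR φ) : Irr φ ∨ ∃ W W' : Subgroup V, Inv φ W ∧ Inv φ W' ∧ IsCompl W W' ∧
    2 ≤ Nat.card W ∧ 2 ≤ Nat.card W' ∧ Nat.card W * Nat.card W' = Nat.card V := by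
  refine or_iff_not_imp_left.2 fun hne => ?_
  unfold Irr at hne
  push Not at hne
  obtain ⟨W, h1, h2, h3⟩ := hne
  obtain ⟨W', h4, h5⟩ := h W h1
  refine ⟨W, W', h1, h4, h5, (one_lt_card_iff_ne_bot _).2 h2,
    (one_lt_card_iff_ne_bot _).2 fun e => h3 ?_, card_of_isCompl h5⟩
  rw [← h5.sup_eq_top, e, sup_bot_eq]

theorem Irr.sys_or [Group.IsSolvable A] [Nontrivial V] (hφ : Function.Injective φ) (h : Irr φ) :
    (∃ (H : Subgroup A) (_ : Fintype (A ⧸ H)) (W : Subgroup V), IsCoatom H ∧ Sys φ H W ∧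
      2 ≤ Nat.card W ∧ 2 ≤ H.index ∧ Nat.card W < Nat.card V ∧ H.index < Nat.card V) ∨
    ∃ U F, PD φ U F := by
  rcases fp_or_sys hφ h with h1 | ⟨H, _, W, h1, h2, h3⟩
  · exact Or.inr (exists_pd hφ h1)
  · have h4 : 2 ≤ Nat.card W := (one_lt_card_iff_ne_bot _).2 h2
    have h5 : 2 ≤ H.index := by
      have a1 : H.index ≠ 1 := fun e => h1.1 (index_eq_one.1 e)
      have a2 : H.index ≠ 0 := index_ne_zero_of_finite
      omega
    refine Or.inl ⟨H, ‹_›, W, h1, h3, h4, h5, ?_, ?_⟩
    · rw [h3.card]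
      exact lt_self_pow₀ h4 h5
    · rw [h3.card]
      exact Nat.lt_pow_self h4

/-- all the numerical data of a primitive group -/
structure ND (u e b q N : ℕ) : Prop where
  one_le : 1 ≤ b
  cases : e = b ∧ u ∣ q - 1 ∨ e = 2 * b ∧ 4 * u ∣ q - 1
  one_lt : 1 < q
  dvd : q ∣ N
  pow_le : q ^ b ≤ N
  primes : ∀ r, r.Prime → r ∣ e → r ∣ u
  pos : 0 < u
  udvd : u ∣ N - 1

theorem PD.exists_nd [Nontrivial V] {U F : Subgroup A} (h : PD φ U F) :
    ∃ (M : Type u) (_ : CommGroup M) (_ : Finite M) (ψ : A →* MulAut M) (π : F →* M)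
      (e b q : ℕ), SecD (hM := h.nF) F U ψ π ∧ CR ψ ∧ Nat.card M = e ^ 2 ∧
        U.relIndex F = e ^ 2 ∧ ND (Nat.card U) e b q (Nat.card V) ∧
        ∃ v, v ≠ 1 ∧ Nat.card (F ⊓ stb φ v : Subgroup A) = b := by
  have := h.nF
  have := h.nU
  obtain ⟨M, _, _, ψ, π, hs⟩ := exists_secD F U h.comm
  obtain ⟨e, b, q, h1, h2, h3, h4, h5, h6, h7, h8⟩ := h.exists_e
  exact ⟨M, inferInstance, inferInstance, ψ, π, e, b, q, hs, h.cr hs, hs.card.trans h1, h1,
    ⟨h2, h3, h4, h5, h6, h7, Nat.card_pos, h.card_dvd⟩, h8⟩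

end cases

namespace ND
variable {u e b q N : ℕ}

theorem e_pos (h : ND u e b q N) : 1 ≤ e := by
  have := h.one_le
  rcases h.cases with h1 | h1 <;> omega

theorem two_le (h : ND u e b q N) (he : 2 ≤ e) : 2 ≤ u :=
  (Nat.minFac_prime (by omega)).two_le.trans (Nat.le_of_dvd h.pos
    (h.primes _ (Nat.minFac_prime (by omega)) (Nat.minFac_dvd e)))

theorem cases' (h : ND u e b q N) : e = b ∧ (u + 1) ^ e ≤ N ∨ e = 2 * b ∧ (4 * u + 1) ^ b ≤ N := by
  have := h.one_lt
  rcases h.cases with ⟨rfl, h1⟩ | ⟨rfl, h1⟩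
  · have := Nat.le_of_dvd (by omega) h1
    exact Or.inl ⟨rfl, (Nat.pow_le_pow_left (by omega) _).trans h.pow_le⟩
  · have := Nat.le_of_dvd (by omega) h1
    exact Or.inr ⟨rfl, (Nat.pow_le_pow_left (by omega) _).trans h.pow_le⟩

theorem sq (h : ND u e b q N) (he : 2 ≤ e) : (4 * u + 1) ^ e ≤ N ^ 2 := by
  have hu := h.two_le he
  rcases h.cases' with ⟨-, h1⟩ | ⟨rfl, h1⟩
  · refine le_trans ?_ (Nat.pow_le_pow_left h1 2)
    rw [← pow_mul, mul_comm e, pow_mul]
    exact Nat.pow_le_pow_left (by nlinarith) _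
  · rw [mul_comm 2 b, pow_mul]
    exact Nat.pow_le_pow_left h1 2

theorem three_pow (h : ND u e b q N) (he : 2 ≤ e) : 3 ^ e ≤ N := by
  have hu := h.two_le he
  refine (Nat.pow_le_pow_iff_left two_ne_zero).1 (le_trans ?_ (h.sq he))
  rw [← pow_mul, mul_comm e, pow_mul]
  exact Nat.pow_le_pow_left (by omega) _

theorem sq_lt (h : ND u e b q N) : e ^ 2 < N := by
  by_cases he : 2 ≤ e
  · refine lt_of_lt_of_le ?_ (h.three_pow he)
    obtain ⟨t, rfl⟩ := Nat.exists_eq_add_of_le he
    have := grow (k := 2) (e0 := 2) (c := 3) (A := 9) (by norm_num) (by norm_num) (by norm_num)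
      (by norm_num) t
    rwa [pow_add]
  · have h1 : e = 1 := by have := h.e_pos; omega
    have h2 := h.one_lt
    have h3 := (Nat.le_self_pow (by have := h.one_le; omega) q).trans h.pow_le
    rw [h1]; omega

theorem succ_le (h : ND u e b q N) : u + 1 ≤ N := by
  have h1 := h.sq_lt
  have h2 := Nat.pow_le_pow_left h.e_pos 2
  have := Nat.le_of_dvd (by omega) h.udvd
  omega

theorem of_odd (h : ND u e b q N) (he : Odd e) : e = b ∧ (u + 1) ^ e ≤ N :=
  h.cases'.resolve_right fun h1 => by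
    obtain ⟨k, hk⟩ := he
    omega

theorem odd (h : ND u e b q N) (he : Odd e) (hu : Odd u) (hN : Odd N) : (2 * u + 1) ^ e ≤ N := by
  have h1 : Odd q := Odd.of_dvd_nat hN h.dvd
  have h2 := h.one_lt
  rcases h.cases with ⟨rfl, h3⟩ | ⟨rfl, -⟩
  · have h4 : 2 * u ∣ q - 1 := (Nat.coprime_two_left.2 hu).mul_dvd_of_dvd_of_dvd
      (by obtain ⟨k, rfl⟩ := h1; exact ⟨k, by omega⟩) h3
    have := Nat.le_of_dvd (by omega) h4
    exact (Nat.pow_le_pow_left (by omega) _).trans h.pow_le
  · obtain ⟨k, hk⟩ := he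
    omega

theorem Fb_le (h : ND u e b q N) (he : 2 ≤ e) (hN : N < 25600) : Fb (e ^ 2) + 2 ≤ Fb N := by
  have h1 := h.three_pow he
  have h2 : e < 10 := by
    by_contra h3
    have := Nat.pow_le_pow_right (show 0 < 3 by omega) (not_lt.1 h3)
    omega
  have k4 : ∀ n, 9 ≤ n → n ≠ 16 → 4 ≤ Fb n := fun n a b => Fb_mono (x := 9) a b
  have k6 : ∀ n, 64 ≤ n → 6 ≤ Fb n := fun n a => Fb_mono (x := 64) a (by omega)
  have k8 : ∀ n, 4096 ≤ n → 8 ≤ Fb n := fun n a => Fb_mono (x := 4096) a (by omega)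
  interval_cases e
  · have h3 := (h.primes 2 Nat.prime_two dvd_rfl).trans h.udvd
    exact k4 N h1 (by omega)
  · have h3 := Nat.le_of_dvd h.pos (h.primes 3 Nat.prime_three dvd_rfl)
    exact k6 N ((Nat.pow_le_pow_left (show 4 ≤ u + 1 by omega) 3).trans (h.of_odd (by decide)).2)
  · exact le_trans (by decide) (k6 N (le_trans (by decide) h1))
  · exact k6 N (le_trans (by decide) h1)
  · exact k6 N (le_trans (by decide) h1)
  · exact k6 N (le_trans (by decide) h1)
  · exact k8 N (le_trans (by decide) h1)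
  · exact k8 N (le_trans (by decide) h1)

end ND

theorem ker_eq_top_of_card {V A : Type*} [CommGroup V] [Finite V] [Group A] (φ : A →* MulAut V)
    (h : Nat.card V ≤ 2) : φ.ker = ⊤ := by
  rw [eq_top_iff]
  intro a _
  rw [mem_ker_iff]
  intro v
  by_contra hne
  have h1 : v ≠ 1 := fun e => hne (by rw [e, map_one])
  have h2 : φ a v ≠ 1 := fun e => h1 ((φ a).injective (e.trans (map_one _).symm))
  have h3 : 2 < (Set.univ : Set V).ncard :=
    (Set.two_lt_ncard (Set.toFinite _)).2 ⟨1, trivial, v, trivial, φ a v, trivial, h1.symm,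
      h2.symm, Ne.symm hne⟩
  rw [Set.ncard_univ] at h3
  omega

theorem ds_one_le_ker {V A : Type*} [CommGroup V] [IsCyclic V] [Group A] (φ : A →* MulAut V) :
    ds ⊤ 1 ≤ φ.ker := by
  refine ds_one_le fun a _ b _ => ?_
  rw [MonoidHom.mem_ker, map_commutatorElement, commutatorElement_eq_one_iff_mul_comm]
  apply (IsCyclic.mulAutMulEquiv V).injective
  rw [map_mul, map_mul, mul_comm]

theorem PD.cent_eq {G W M : Type*} [Group G] [CommGroup W] {φ : G →* MulAut W}
    {U F : Subgroup G} (h : PD φ U F) [CommGroup M] [Finite M] {ψ : G →* MulAut M} {π : F →* M}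
    (hs : SecD (hM := h.nF) F U ψ π) (h1 : Nat.card M = 1) : centralizer (U : Set G) = U := by
  have := h.nF
  have h2 := h.ker_inf hs
  rw [ker_eq_top_of_card ψ (by omega), top_inf_eq] at h2
  rw [h2]
  exact le_antisymm (relIndex_eq_one.1 (hs.card.symm.trans h1)) h.UF

theorem dl_le (V A : Type u) [CommGroup V] [Finite V] [Group A] [Finite A] [Group.IsSolvable A]
    (φ : A →* MulAut V) (h : CR φ) : Nat.card V < 25600 → ds ⊤ (Fb (Nat.card V)) ≤ φ.ker := by
  refine cr_induction (P := fun V A _ _ _ _ φ => Nat.card V < 25600 →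
    ds ⊤ (Fb (Nat.card V)) ≤ φ.ker) (fun V A _ _ _ _ φ h1 h2 => ker_le_of_range (h1 h2))
    (fun V A _ _ _ _ _ φ hφ hcr ih hN => ?_) V A φ h
  by_cases h2 : Nat.card V ≤ 2
  · rw [ker_eq_top_of_card φ h2]; exact le_top
  by_cases h3 : Nat.card V = 3
  · have := isCyclic_of_prime_card (p := 3) h3
    rw [h3]
    exact ds_one_le_ker φ
  have h4 : 2 ≤ Fb (Nat.card V) := by unfold Fb; split_ifs <;> omega
  have : Nontrivial V := Finite.one_lt_card_iff_nontrivial.1 (by omega)
  rcases hcr.irr_or with hirr | ⟨W, W', h5, h6, h7, h8, h9, h10⟩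
  · rcases hirr.sys_or hφ with ⟨H, _, W, h5, h6, h7, h8, h9, h10⟩ | ⟨U, F, h5⟩
    · obtain ⟨V0, _, _, ψ, β, r, d, h11⟩ := exists_affD h5
      have a1 := ih W H _ h9 (h6.irr hirr).cr (by omega)
      have a2 := ih V0 A ψ (h11.index ▸ h10) h11.irr.cr (by rw [← h11.index]; omega)
      refine (ds_anti _ ?_).trans (h6.dl a1 fun g hg => h11.ds_smul a2 hg)
      rw [← h11.index, h6.card]
      exact Fb_pow h8 h7 (h6.card ▸ hN)
    · obtain ⟨M, _, _, ψ, π, e, b, q, hs, h6, h7, -, h8, -⟩ := h5.exists_nd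
      by_cases he : 2 ≤ e
      · have h9 := h8.sq_lt
        have a1 := ih M A ψ (h7 ▸ h9) h6 (by omega)
        rw [h7] at a1
        have a2 : 1 ≤ Fb (e ^ 2) := by
          have := Nat.pow_le_pow_left he 2
          unfold Fb; split_ifs <;> omega
        exact (ds_anti _ (h8.Fb_le he hN)).trans (h5.ds_top_le (h5.ds_le_F hs a2 a1))
      · have h9 : e = 1 := by have := h8.e_pos; omega
        have h10 := h5.cent_eq hs (by rw [h7, h9]; rfl)
        refine (ds_anti _ h4).trans (le_trans (?_ : _ ≤ ⊥) bot_le)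
        have h11 := h5.ds_one
        refine (commutator_mono h11 (h11.trans h10.le)).trans (le_of_eq ?_)
        exact commutator_eq_bot_iff_le_centralizer.2 le_rfl
  · have a1 := ih W A _ (by nlinarith) (hcr.resT h5) (by nlinarith)
    have a2 := ih W' A _ (by nlinarith) (hcr.resT h6) (by nlinarith)
    intro g hg
    refine ker_of_isCompl h7 ((mem_ker_resT h5).1 (a1 (ds_anti _ ?_ hg)))
      ((mem_ker_resT h6).1 (a2 (ds_anti _ ?_ hg)))
    · rw [← h10]; exact Fb_le_mul h9
    · rw [← h10, mul_comm]; exact Fb_le_mul h8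

/-- bound for the derived length of solvable permutation groups of small degree -/
def Gb (m : ℕ) : ℕ := if m ≤ 1 then 0 else if m = 2 then 1 else if m = 3 then 2 else 3

theorem ds_le_of_index (n : ℕ) : ∀ (X : Type u) [Group X] [Finite X] [Group.IsSolvable X]
    (K : Subgroup X), K.index = n → n ≤ 7 → ds ⊤ (Gb n) ≤ K := by
  induction n using Nat.strong_induction_on with
  | _ n ih =>
    intro X _ _ _ K hK hn
    rcases eq_top_or_exists_le_coatom K with rfl | ⟨H, hH, hKH⟩
    · exact le_top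
    obtain ⟨V0, _, _, ψ, β, r, d, h⟩ := exists_affD hH
    have h1 := relIndex_mul_index hKH
    have h2 : 2 ≤ H.index := by
      have a1 : H.index ≠ 1 := fun e => hH.1 (index_eq_one.1 e)
      have a2 : H.index ≠ 0 := index_ne_zero_of_finite
      omega
    have h3 : 1 ≤ K.relIndex H := Nat.pos_of_ne_zero index_ne_zero_of_finite
    have h4 : H.index ≤ 7 := by nlinarith
    have a1 := dl_le V0 X ψ h.irr.cr (by rw [← h.index]; omega)
    have a2 : ds ⊤ (Fb (Nat.card V0) + 1) ≤ H := fun g hg => by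
      have := h.ds_smul a1 hg ((1 : X) : X ⧸ H)
      rw [MulAction.Quotient.smul_mk, QuotientGroup.eq] at this
      simpa using this
    have a3 := ih (K.relIndex H) (by nlinarith) H (K.subgroupOf H) rfl (by nlinarith)
    have a4 : Fb H.index + 1 + Gb (K.relIndex H) ≤ Gb n := by
      rw [← hK, ← h1]
      have h5 : K.relIndex H * H.index ≤ 7 := by omega
      have h6 : K.relIndex H ≤ 7 := by nlinarith
      generalize K.relIndex H = a at *
      generalize H.index = b at *
      interval_cases a <;> interval_cases b <;> first | decide | omega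
    refine (ds_anti _ a4).trans ?_
    rw [ds_add, h.index]
    refine (ds_mono a2 _).trans fun g hg => ?_
    obtain ⟨hgH, h5⟩ := mem_ds_subgroupOf le_rfl hg
    rw [subgroupOf_self] at h5
    exact a3 h5

theorem g7 : G7.{u} := fun X _ _ _ K hK =>
  (ds_anti _ (by unfold Gb; split_ifs <;> omega)).trans (ds_le_of_index _ X K rfl hK)

theorem index_le_of_isCompl {V A : Type*} [CommGroup V] [Group A] [Finite A] {φ : A →* MulAut V}
    {W W' : Subgroup V} (h1 : Inv φ W) (h2 : Inv φ W') (h : IsCompl W W') :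
    φ.ker.index ≤ (resT φ W h1).ker.index * (resT φ W' h2).ker.index := by
  refine le_trans (Nat.le_of_dvd (Nat.pos_of_ne_zero index_ne_zero_of_finite)
    (index_dvd_of_le fun g hg => ?_)) index_inf_le
  exact ker_of_isCompl h ((mem_ker_resT h1).1 hg.1) ((mem_ker_resT h2).1 hg.2)

theorem index_ker_of_inj {A B : Type*} [Group A] [Group B] {φ : A →* B}
    (h : Function.Injective φ) : φ.ker.index = Nat.card A := by
  rw [(MonoidHom.ker_eq_bot_iff φ).2 h, index_bot]

theorem totient_le_pred {u : ℕ} (hu : 2 ≤ u) : Nat.totient u ≤ u - 1 := by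
  have := Nat.totient_lt u (by omega)
  omega

theorem pw (V A : Type u) [CommGroup V] [Finite V] [Group A] [Finite A] [Group.IsSolvable A]
    (φ : A →* MulAut V) (h : CR φ) : Nontrivial V → 5 * φ.ker.index ≤ Nat.card V ^ 3 := by
  refine cr_induction (P := fun V A _ _ _ _ φ => Nontrivial V → 5 * φ.ker.index ≤ Nat.card V ^ 3)
    (fun V A _ _ _ _ φ h1 h2 => index_ker_range φ ▸ h1 h2)
    (fun V A _ _ _ _ _ φ hφ hcr ih hN => ?_) V A φ h
  rcases hcr.irr_or with hirr | ⟨W, W', h5, h6, h7, h8, h9, h10⟩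
  · rcases hirr.sys_or hφ with ⟨H, _, W, h5, h6, h7, h8, h9, h10⟩ | ⟨U, F, h5⟩
    · have a1 := ih W H _ h9 (h6.irr hirr).cr (Finite.one_lt_card_iff_nontrivial.1 h7)
      have a2 := (cprof5 h5).card_le
      calc 5 * φ.ker.index ≤ 5 * ((res φ H W h6.inv).ker.index ^ H.index *
            (MulAction.toPermHom A (A ⧸ H)).ker.index) := Nat.mul_le_mul_left _ h6.index_le
        _ = (res φ H W h6.inv).ker.index ^ H.index *
            (5 * (MulAction.toPermHom A (A ⧸ H)).ker.index) := by ring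
        _ ≤ (res φ H W h6.inv).ker.index ^ H.index * 5 ^ H.index := Nat.mul_le_mul_left _ a2
        _ = (5 * (res φ H W h6.inv).ker.index) ^ H.index := by ring
        _ ≤ (Nat.card W ^ 3) ^ H.index := Nat.pow_le_pow_left a1 _
        _ = _ := by rw [h6.card]; ring
    · obtain ⟨M, _, _, ψ, π, e, b, q, hs, h6, h7, h7', h8, -⟩ := h5.exists_nd
      obtain ⟨h9, h10⟩ := h5.card_le hs
      have h11 := Nat.le_of_dvd (Nat.pos_of_ne_zero index_ne_zero_of_finite) h9
      have h12 := Nat.le_of_dvd (Nat.totient_pos.2 Nat.card_pos) h5.index_dvd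
      rw [index_ker_of_inj hφ, h10, h7']
      by_cases he : 2 ≤ e
      · have a1 := ih M A ψ (h7 ▸ h8.sq_lt) h6 (Finite.one_lt_card_iff_nontrivial.1 (by
          rw [h7]; nlinarith))
        rw [h7] at a1
        have hu := h8.two_le he
        have a2 := h12.trans (totient_le_pred hu)
        have a3 := num_pw hu he (fun e3 => Nat.le_of_dvd h8.pos
          (h8.primes 3 Nat.prime_three (e3 ▸ dvd_rfl)))
        have a4 : Nat.card U * (Nat.card U - 1) * e ^ 8 ≤ Nat.card V ^ 3 := by
          refine (Nat.pow_le_pow_iff_left two_ne_zero).1 (a3.trans ?_)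
          rw [mul_comm 3 e, pow_mul, ← pow_mul (Nat.card V), mul_comm 3 2, pow_mul]
          exact Nat.pow_le_pow_left (h8.sq he) 3
        refine le_trans ?_ a4
        calc _ = Nat.card U * (centralizer (U : Set A)).index *
              (e ^ 2 * (5 * F.relIndex (centralizer (U : Set A)))) := by ring
          _ ≤ Nat.card U * (Nat.card U - 1) * (e ^ 2 * (e ^ 2) ^ 3) :=
            Nat.mul_le_mul (Nat.mul_le_mul_left _ a2)
              (Nat.mul_le_mul_left _ ((Nat.mul_le_mul_left _ h11).trans a1))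
          _ = _ := by ring
      · have h13 : e = 1 := by have := h8.e_pos; omega
        rw [ker_eq_top_of_card ψ (by rw [h7, h13]; decide), index_top] at h11
        have h14 := h12.trans (Nat.totient_le _)
        have h15 := h8.succ_le
        have h16 := h8.pos
        calc _ ≤ 5 * (Nat.card U * 1 ^ 2 * 1 * Nat.card U) := by
              rw [h13]
              exact Nat.mul_le_mul_left _ (Nat.mul_le_mul (Nat.mul_le_mul_left _ h11) h14)
          _ ≤ (Nat.card U + 1) ^ 3 := by nlinarith [Nat.zero_le (Nat.card U ^ 3), sq_nonneg ((Nat.card U : ℤ) - 1)]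
          _ ≤ _ := Nat.pow_le_pow_left h15 3
  · have a1 := ih W A _ (by nlinarith) (hcr.resT h5) (Finite.one_lt_card_iff_nontrivial.1 h8)
    have a2 := ih W' A _ (by nlinarith) (hcr.resT h6) (Finite.one_lt_card_iff_nontrivial.1 h9)
    have a3 := index_le_of_isCompl h5 h6 h7
    rw [← h10, mul_pow]
    nlinarith [Nat.mul_le_mul a1 a2]

theorem two_mul_le_of_odd_dvd {j u : ℕ} (hj : Odd j) (hu : 3 ≤ u) (h : j ∣ Nat.totient u) :
    2 * j ≤ u - 1 :=
  (Nat.le_of_dvd (Nat.totient_pos.2 (by omega)) ((Nat.coprime_two_left.2 hj).mul_dvd_of_dvd_of_dvd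
    (Nat.totient_even (by omega)).two_dvd h)).trans (totient_le_pred (by omega))

theorem pwOdd (V A : Type u) [CommGroup V] [Finite V] [Group A] [Finite A] [Group.IsSolvable A]
    (φ : A →* MulAut V) (h : CR φ) : Nontrivial V → Odd (Nat.card V) → Odd (Nat.card A) →
      8 * φ.ker.index ≤ Nat.card V ^ 2 := by
  refine cr_induction (P := fun V A _ _ _ _ φ => Nontrivial V → Odd (Nat.card V) →
    Odd (Nat.card A) → 8 * φ.ker.index ≤ Nat.card V ^ 2)
    (fun V A _ _ _ _ φ h1 h2 h3 h4 => index_ker_range φ ▸ h1 h2 h3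
      (Odd.of_dvd_nat h4 (card_range_dvd φ)))
    (fun V A _ _ _ _ _ φ hφ hcr ih hN hV hA => ?_) V A φ h
  rcases hcr.irr_or with hirr | ⟨W, W', h5, h6, h7, h8, h9, h10⟩
  · rcases hirr.sys_or hφ with ⟨H, _, W, h5, h6, h7, h8, h9, h10⟩ | ⟨U, F, h5⟩
    · have a1 := ih W H _ h9 (h6.irr hirr).cr (Finite.one_lt_card_iff_nontrivial.1 h7)
        (Odd.of_dvd_nat hV (card_subgroup_dvd_card W)) (Odd.of_dvd_nat hA (card_subgroup_dvd_card H))
      have a2 := (cprofOdd hA h5).card_le
      have a3 : 4 * 2 ^ H.index ≤ 8 ^ H.index := by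
        rw [show 8 = 4 * 2 from rfl, mul_pow]
        exact Nat.mul_le_mul_right _ (Nat.le_self_pow (by omega) 4)
      calc 8 * φ.ker.index ≤ 8 * ((res φ H W h6.inv).ker.index ^ H.index *
            (MulAction.toPermHom A (A ⧸ H)).ker.index) := Nat.mul_le_mul_left _ h6.index_le
        _ = (res φ H W h6.inv).ker.index ^ H.index *
            (4 * (2 * (MulAction.toPermHom A (A ⧸ H)).ker.index)) := by ring
        _ ≤ (res φ H W h6.inv).ker.index ^ H.index * 8 ^ H.index :=
          Nat.mul_le_mul_left _ ((Nat.mul_le_mul_left _ a2).trans a3)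
        _ = (8 * (res φ H W h6.inv).ker.index) ^ H.index := by ring
        _ ≤ (Nat.card W ^ 2) ^ H.index := Nat.pow_le_pow_left a1 _
        _ = _ := by rw [h6.card]; ring
    · obtain ⟨M, _, _, ψ, π, e, b, q, hs, h6, h7, h7', h8, -⟩ := h5.exists_nd
      obtain ⟨h9, h10⟩ := h5.card_le hs
      have h11 := Nat.le_of_dvd (Nat.pos_of_ne_zero index_ne_zero_of_finite) h9
      have hu : Odd (Nat.card U) := Odd.of_dvd_nat hA (card_subgroup_dvd_card U)
      have hj : Odd (centralizer (U : Set A)).index := Odd.of_dvd_nat hA (index_dvd_card _)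
      have he2 : Odd (e ^ 2) := Odd.of_dvd_nat hA (by rw [h10, h7']; exact ⟨Nat.card U *
        F.relIndex (centralizer (U : Set A)) * (centralizer (U : Set A)).index, by ring⟩)
      have he : Odd e := (Nat.odd_pow_iff two_ne_zero).1 he2
      have h12 := h8.odd he hu hV
      rw [index_ker_of_inj hφ, h10, h7']
      by_cases he' : 2 ≤ e
      · have a1 := ih M A ψ (h7 ▸ h8.sq_lt) h6 (Finite.one_lt_card_iff_nontrivial.1 (by
          rw [h7]; nlinarith)) (h7 ▸ he2) hA
        rw [h7] at a1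
        have hu3 : 3 ≤ Nat.card U := by
          have := h8.two_le he'
          obtain ⟨k, hk⟩ := hu
          omega
        have a2 := two_mul_le_of_odd_dvd hj hu3 h5.index_dvd
        obtain ⟨t, rfl⟩ : ∃ t, e = 3 + t := ⟨e - 3, by obtain ⟨k, hk⟩ := he; omega⟩
        have a3 := grow (k := 6) (e0 := 3) (c := 49) (A := 7 ^ 4) (by norm_num) (by norm_num)
          (by norm_num) (by norm_num) t
        calc _ = Nat.card U * (centralizer (U : Set A)).index *
              ((3 + t) ^ 2 * (8 * F.relIndex (centralizer (U : Set A)))) := by ring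
          _ ≤ Nat.card U * Nat.card U * ((3 + t) ^ 2 * ((3 + t) ^ 2) ^ 2) :=
            Nat.mul_le_mul (Nat.mul_le_mul_left _ (by omega))
              (Nat.mul_le_mul_left _ ((Nat.mul_le_mul_left _ h11).trans a1))
          _ = Nat.card U ^ 2 * (3 + t) ^ 6 := by ring
          _ ≤ (2 * Nat.card U + 1) ^ 2 * (7 ^ 4 * 49 ^ t) :=
            Nat.mul_le_mul (Nat.pow_le_pow_left (by omega) _) a3.le
          _ = (2 * Nat.card U + 1) ^ 2 * 7 ^ (4 + 2 * t) := by rw [pow_add, pow_mul]; norm_num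
          _ ≤ (2 * Nat.card U + 1) ^ 2 * (2 * Nat.card U + 1) ^ (4 + 2 * t) :=
            Nat.mul_le_mul_left _ (Nat.pow_le_pow_left (by omega) _)
          _ = ((2 * Nat.card U + 1) ^ (3 + t)) ^ 2 := by ring
          _ ≤ _ := Nat.pow_le_pow_left h12 2
      · have h13 : e = 1 := by have := h8.e_pos; omega
        rw [ker_eq_top_of_card ψ (by rw [h7, h13]; decide), index_top] at h11
        rw [h13, pow_one] at h12
        have h14 : 8 * (Nat.card U * (centralizer (U : Set A)).index) ≤ (2 * Nat.card U + 1) ^ 2 := by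
          by_cases h15 : 3 ≤ Nat.card U
          · have a2 := two_mul_le_of_odd_dvd hj h15 h5.index_dvd
            have a3 : 2 * (centralizer (U : Set A)).index ≤ Nat.card U := by omega
            nlinarith [Nat.mul_le_mul_left (Nat.card U) a3]
          · have h16 : Nat.card U = 1 := by obtain ⟨k, hk⟩ := hu; omega
            have h17 := h5.index_dvd
            rw [h16, Nat.totient_one, Nat.dvd_one] at h17
            rw [h16, h17]; decide
        calc _ ≤ 8 * (Nat.card U * 1 ^ 2 * 1 * (centralizer (U : Set A)).index) := by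
              rw [h13]
              exact Nat.mul_le_mul_left _ (Nat.mul_le_mul_right _ (Nat.mul_le_mul_left _ h11))
          _ ≤ (2 * Nat.card U + 1) ^ 2 := by simpa using h14
          _ ≤ _ := Nat.pow_le_pow_left h12 2
  · have a1 := ih W A _ (by nlinarith) (hcr.resT h5) (Finite.one_lt_card_iff_nontrivial.1 h8)
      (Odd.of_dvd_nat hV (card_subgroup_dvd_card W)) hA
    have a2 := ih W' A _ (by nlinarith) (hcr.resT h6) (Finite.one_lt_card_iff_nontrivial.1 h9)
      (Odd.of_dvd_nat hV (card_subgroup_dvd_card W')) hA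
    have a3 := index_le_of_isCompl h5 h6 h7
    rw [← h10, mul_pow]
    nlinarith [Nat.mul_le_mul a1 a2]

end CfsgLib.SLin
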