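import Cfsg.Agent.Lib.SLin.CpMain

/-!
# The Héthelyi–Külshammer bound for the class number of a solvable group
-/

set_option autoImplicit false

namespace CfsgLib.SLin

open Subgroup Cfsg
open scoped commutatorElement

universe u

theorem num_fin1 {p N n h k : ℕ} (hp : 11 ≤ p) (h1 : p ^ 2 ≤ N) (h2 : N ≤ n * h + 1)
    (h3 : 10 * p ^ 2 * h ≤ 59 * (k * N)) : 49 * p ≤ 60 * (k + n) := by
  by_contra hne
  have a1 : 14400 * (k * n) ≤ 2401 * p ^ 2 := by
    have := Nat.pow_le_pow_left (not_le.1 hne).le 2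
    nlinarith [sq_nonneg ((k : ℤ) - n)]
  have a2 : 121 ≤ N := le_trans (Nat.pow_le_pow_left hp 2) h1
  have a3 : 10 * p ^ 2 * N ≤ 59 * N * (k * n) + 10 * p ^ 2 := by
    nlinarith [Nat.mul_le_mul_left n h3, Nat.mul_le_mul_left (10 * p ^ 2) h2]
  have a4 : 0 < p ^ 2 := by positivity
  have a5 := Nat.mul_le_mul_left (59 * N) a1
  have a6 := Nat.mul_le_mul_left (p ^ 2) a2
  nlinarith

theorem num_fin2 {p N n u q k : ℕ} (hp : 11 ≤ p) (h1 : p ≤ q) (h2 : q ^ 2 ≤ N)
    (h3 : N ≤ n * (24 * u) + 1) (h4 : u ∣ q - 1) (h5 : 2 ≤ u) (h6 : 4 * u ≤ k) :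
    49 * p ≤ 60 * (k + n) := by
  obtain ⟨m, hm⟩ := h4
  obtain rfl : q = u * m + 1 := by omega
  have a1 : m * (u * m + 2) ≤ 24 * n := by
    refine Nat.le_of_mul_le_mul_left ?_ (show 0 < u by omega)
    nlinarith
  by_cases h7 : 10 ≤ m
  · obtain ⟨t, rfl⟩ := Nat.exists_eq_add_of_le h7
    nlinarith [Nat.zero_le (u * t), Nat.zero_le (u * t * t)]
  · push Not at h7
    rcases h5.eq_or_lt with rfl | h8 <;> interval_cases m <;> omega

theorem num_fin3 {p N n h k : ℕ} (hp : p.Prime) (h0 : p < 11) (h1 : p ^ 2 ≤ N)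
    (h2 : N ≤ n * h + 1) (h3 : 1 ≤ k) (h4 : k ≤ 1 → h ≤ 1) (h5 : k ≤ 3 → h ≤ 6)
    (h6 : k ≤ 4 → h ≤ 42) : 49 * p ≤ 60 * (k + n) := by
  have a0 : ∀ c m, h ≤ c → m * c + 1 < p ^ 2 → m < n := fun c m a b => by
    by_contra hne
    have := Nat.mul_le_mul (not_lt.1 hne) a
    omega
  have a1 := a0 h 0 le_rfl (by have := hp.two_le; nlinarith)
  have a2 := fun a => a0 1 2 (h4 a) (by have := hp.two_le; nlinarith)
  obtain rfl | rfl | rfl | rfl : p = 2 ∨ p = 3 ∨ p = 5 ∨ p = 7 := by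
    interval_cases p <;> first | omega | exact absurd hp (by decide)
  · omega
  · omega
  · have := fun a => a0 6 3 (h5 a) (by decide)
    omega
  · have := fun a => a0 6 7 (h5 a) (by decide)
    have := fun a => a0 42 1 (h6 a) (by decide)
    omega

section
variable {G : Type u} [Group G] [Finite G]

omit [Finite G] in
theorem SecD.ker_bot {V : Subgroup G} [V.Normal] {M : Type*} [CommGroup M] {ψ : G →* MulAut M}
    {π : V →* M} (hs : SecD V ⊥ ψ π) : ψ.ker = centralizer (V : Set G) := by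
  ext g
  rw [hs.mem_ker, mem_centralizer_iff]
  refine forall₂_congr fun m _ => ?_
  rw [mem_bot, inv_mul_eq_one, eq_mul_inv_iff_mul_eq]

theorem SecD.red {V : Subgroup G} [V.Normal] [IsMulCommutative V] {M : Type*} [CommGroup M]
    {ψ : G →* MulAut M} {π : V →* M} (hs : SecD V ⊥ ψ π) :
    ∃ n : ℕ, Nat.card (ConjClasses ψ.range) + n ≤ Nat.card (ConjClasses G) ∧
      Nat.card M ≤ n * Nat.card ψ.range + 1 := by
  rw [hs.card, relIndex_bot_left]
  refine exists_orbits ψ.rangeRestrict ψ.rangeRestrict_surjective ?_ ?_ <;>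
    rw [MonoidHom.ker_rangeRestrict, hs.ker_bot]
  exact le_centralizer V

theorem SecD.fin {V : Subgroup G} [V.Normal] [IsMulCommutative V] {M : Type*} [CommGroup M]
    {ψ : G →* MulAut M} {π : V →* M} (hs : SecD V ⊥ ψ π) {p : ℕ} (hp : p.Prime)
    (h1 : p ^ 2 ≤ Nat.card M)
    (h2 : 11 ≤ p → 10 * (p : ℚ) ^ 2 ≤ 59 * (cp ψ * Nat.card M) ∨ S4D ψ p) :
    49 * p ≤ 60 * Nat.card (ConjClasses G) := by
  obtain ⟨n, h3, h4⟩ := hs.red
  have : Finite ψ.range := Finite.of_surjective _ ψ.rangeRestrict_surjective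
  refine le_trans ?_ (Nat.mul_le_mul_left _ h3)
  have h5 : cp ψ * Nat.card ψ.range = Nat.card (ConjClasses ψ.range) := cp_mul_card
  by_cases h6 : 11 ≤ p
  · rcases h2 h6 with h7 | ⟨u, q, a1, a2, a3, a4, a5, a6⟩
    · refine num_fin1 h6 h1 h4 ?_
      have h8 := mul_le_mul_of_nonneg_right h7 (Nat.cast_nonneg (Nat.card ψ.range))
      rw [mul_assoc 59, mul_right_comm (cp ψ), h5] at h8
      exact_mod_cast h8
    · rw [index_ker] at a1
      rw [a1] at h4 h5
      refine num_fin2 h6 a5 a6 h4 a3 a4 ?_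
      have : (4 * u : ℚ) ≤ Nat.card (ConjClasses ψ.range) := by
        rw [← h5]
        push_cast
        nlinarith [Nat.cast_nonneg (α := ℚ) u]
      exact_mod_cast this
  · exact num_fin3 hp (not_le.1 h6) h1 h4 Nat.card_pos landau.1 landau.2.1 landau.2.2

omit [Finite G] in
theorem SecD.irr_of_min {V : Subgroup G} [V.Normal] (hV : IsMinNormal V) {M : Type*} [CommGroup M]
    {ψ : G →* MulAut M} {π : V →* M} (hs : SecD V ⊥ ψ π) : Irr ψ := fun W hW =>
  (hV.2.2 _ (hs.pre_normal hW) (pre_le W)).imp (fun e => hs.eq_bot_of_pre e.le)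
    fun e => hs.eq_top_of_pre e.ge

theorem comm_mem_ker {P N : Subgroup G} [P.Normal] [N.Normal] (hc : ⁅P, P⁆ ≤ N) {p : ℕ}
    (hp : p.Prime) (h : N.relIndex P = p) (a b : G) : ∀ m ∈ P, m⁻¹ * (⁅a, b⁆ * m * ⁅a, b⁆⁻¹) ∈ N := by
  obtain ⟨M, _, _, ψ, π, hs⟩ := exists_secD P N hc
  have := Fact.mk hp
  have := isCyclic_of_prime_card (hs.card.trans h)
  exact hs.mem_ker.1 (ds_one_le_ker ψ (commutator_mem_commutator (mem_top a) (mem_top b)))

end

theorem hk_bound {p : ℕ} (hp : p.Prime) (G : Type u) [Group G] [Finite G] :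
    Group.IsSolvable G → p ^ 2 ∣ Nat.card G → 49 * p ≤ 60 * Nat.card (ConjClasses G) := by
  refine card_induction (P := fun G _ _ => Group.IsSolvable G → p ^ 2 ∣ Nat.card G →
    49 * p ≤ 60 * Nat.card (ConjClasses G)) (fun G _ _ ih hs hd => ?_) G
  have := Fact.mk hp
  by_cases h0 : ∃ K : Subgroup G, K.Normal ∧ K ≠ ⊥ ∧ p ^ 2 ∣ K.index
  · obtain ⟨K, _, h1, h2⟩ := h0
    exact (ih (G ⧸ K) (card_quotient_lt h1) inferInstance h2).trans
      (Nat.mul_le_mul_left _ (k_le_of_surj _ (QuotientGroup.mk'_surjective K)))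
  push Not at h0
  have h1 : ∀ (K : Subgroup G) (r : ℕ), r.Prime → K.Normal → K ≠ ⊥ → IsPGroup r K → r = p := by
    intro K r hr h2 h3 h4
    by_contra hne
    have := Fact.mk hr
    obtain ⟨i, hi⟩ := h4.exists_card_eq
    rw [← K.card_mul_index, hi] at hd
    exact h0 K h2 h3 ((Nat.Coprime.pow _ _ ((Nat.coprime_primes hp hr).2 (Ne.symm hne))).dvd_of_dvd_mul_left hd)
  have : Nontrivial G := Finite.one_lt_card_iff_nontrivial.1
    ((Nat.one_lt_pow two_ne_zero hp.one_lt).trans_le (Nat.le_of_dvd Nat.card_pos hd))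
  obtain ⟨N, hN⟩ := exists_isMinNormal (G := G)
  have := hN.1
  have := hN.isMulCommutative_of_isSolvable inferInstance
  obtain ⟨r, hr, h2⟩ := hN.exists_isPGroup inferInstance
  obtain rfl := h1 N r hr hN.1 hN.2.1 h2
  obtain ⟨i, hi⟩ := h2.exists_card_eq
  have hNN : ⁅N, N⁆ ≤ ⊥ := (commutator_eq_bot_iff_le_centralizer.2 (le_centralizer N)).le
  by_cases h3 : 2 ≤ i
  · obtain ⟨M, _, _, ψ, π, h4⟩ := exists_secD N ⊥ hNN
    have h5 : Nat.card M = r ^ i := by rw [h4.card, relIndex_bot_left, hi]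
    have h6 : r ^ 2 ≤ Nat.card M := h5 ▸ Nat.pow_le_pow_right hr.pos h3
    have h7 := h4.irr_of_min hN
    refine h4.fin hr h6 fun h8 => (cp_main M G ψ h7.cr 1 r h7 (Finite.one_lt_card_iff_nontrivial.1
      ((Nat.one_lt_pow two_ne_zero hp.one_lt).trans_le h6)) ⟨fun a => by rw [mul_one, one_mul],
        fun W _ hW => ?_⟩ h8).2 h6
    obtain ⟨j, -, hj⟩ := (Nat.dvd_prime_pow hr).1 (h5 ▸ card_subgroup_dvd_card W)
    rw [hj]
    exact Nat.le_self_pow (fun e => hW (card_eq_one.1 (by rw [hj, e, pow_zero]))) r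
  have h4 : Nat.card N = r := by
    have : i ≠ 0 := fun e => hN.2.1 (card_eq_one.1 (by rw [hi, e, pow_zero]))
    rw [hi, show i = 1 by omega, pow_one]
  set P := pCore r G
  have hF : fittingSubgroup G ≤ P := fitting_le_of_forall_pCore_le fun s hs => by
    by_cases h5 : pCore s G = ⊥
    · rw [h5]; exact bot_le
    · exact (congrArg (pCore · G) (h1 _ s hs.out inferInstance h5 (pCore_isPGroup s))).le
  have hC : centralizer (P : Set G) ≤ P :=
    ((centralizer_le hF).trans centralizer_fitting_le).trans hF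
  have hNP : N ≤ P := le_fitting_of_isMulCommutative.trans hF
  obtain ⟨j, hj⟩ := (pCore_isPGroup r : IsPGroup r P).exists_card_eq
  have h5 := card_mul_relIndex hNP
  have h6 := relIndex_mul_index hNP
  have h7 : j = 2 := by
    have a1 : j ≠ 0 := fun e => by
      rw [hj, e, h4] at h5
      exact hr.one_lt.ne' (Nat.eq_one_of_mul_eq_one_right h5)
    have a2 : j ≠ 1 := fun e => by
      rw [e, pow_one] at hj
      have := isCyclic_of_prime_card hj
      have a3 : P.index ∣ r - 1 := by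
        refine (index_dvd_of_le hC).trans ?_
        rw [← ker_conjNormal, index_ker, ← Nat.totient_prime hr, ← congrArg Nat.totient hj,
          ← IsCyclic.card_mulAut]
        exact card_subgroup_dvd_card _
      rw [← P.card_mul_index, hj, pow_two] at hd
      have := Nat.le_of_dvd (by have := hr.two_le; omega)
        ((Nat.dvd_of_mul_dvd_mul_left hr.pos hd).trans a3)
      have := hr.two_le
      omega
    by_contra a3
    obtain ⟨t, rfl⟩ : ∃ t, j = t + 2 + 1 := ⟨j - 3, by omega⟩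
    rw [hj, h4, pow_succ'] at h5
    refine h0 N hN.1 hN.2.1 (h6 ▸ Dvd.dvd.mul_right ?_ _)
    rw [Nat.eq_of_mul_eq_mul_left hr.pos h5]
    exact pow_dvd_pow _ (by omega)
  subst h7
  have h8 : N.relIndex P = r := by
    rw [hj, h4, pow_two] at h5
    exact Nat.eq_of_mul_eq_mul_left hr.pos h5
  have := IsPGroup.isMulCommutative_of_card_eq_prime_sq hj
  have hPP : ⁅P, P⁆ ≤ ⊥ := (commutator_eq_bot_iff_le_centralizer.2 (le_centralizer P)).le
  obtain ⟨M, _, _, ψ, π, h9⟩ := exists_secD P ⊥ hPP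
  have h10 : Nat.card M = r ^ 2 := by rw [h9.card, relIndex_bot_left, hj]
  refine h9.fin hr h10.ge fun _ => Or.inl ?_
  have h11 : ∀ a b : G, ⁅a, b⁆ ∈ P := by
    intro a b
    have a1 := comm_mem_ker (hPP.trans bot_le) hr h8 a b
    have a2 := comm_mem_ker hNN hr (by rw [relIndex_bot_left, h4]) a b
    generalize ⁅a, b⁆ = g at a1 a2
    have a3 : g ^ r ∈ P := hC fun m hm => by
      have a4 : ∀ k : ℕ, g ^ k * m * (g ^ k)⁻¹ = m * (m⁻¹ * (g * m * g⁻¹)) ^ k := by
        intro k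
        induction k with
        | zero => simp
        | succ k ih =>
          have a5 := a2 _ (N.pow_mem (a1 m hm) k)
          rw [mem_bot, inv_mul_eq_one] at a5
          calc _ = g * (g ^ k * m * (g ^ k)⁻¹) * g⁻¹ := by rw [pow_succ']; group
            _ = g * m * g⁻¹ * (g * (m⁻¹ * (g * m * g⁻¹)) ^ k * g⁻¹) := by rw [ih]; group
            _ = _ := by rw [← a5, pow_succ', ← mul_assoc m, mul_inv_cancel_left]
      have a5 := a4 r
      rw [show (m⁻¹ * (g * m * g⁻¹)) ^ r = 1 from congrArg Subtype.val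
        (h4 ▸ pow_card_eq_one' (x := (⟨_, a1 m hm⟩ : N))), mul_one, mul_inv_eq_iff_eq_mul] at a5
      exact a5.symm
    have a4 : r.Coprime P.index := (Nat.Prime.coprime_iff_not_dvd hr).2 fun h =>
      h0 N hN.1 hN.2.1 (by rw [← h6, h8, pow_two]; exact Nat.mul_dvd_mul_left _ h)
    rw [← QuotientGroup.eq_one_iff, ← orderOf_eq_one_iff]
    refine Nat.eq_one_of_dvd_coprimes a4 (orderOf_dvd_of_pow_eq_one ?_) (orderOf_dvd_natCard _)
    rw [← QuotientGroup.mk_pow, QuotientGroup.eq_one_iff]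
    exact a3
  have : Finite ψ.range := Finite.of_surjective _ ψ.rangeRestrict_surjective
  have h12 : cp ψ = 1 := commProb_eq_one_iff.2 ⟨⟨by
    rintro ⟨_, a, rfl⟩ ⟨_, b, rfl⟩
    refine Subtype.ext (commutatorElement_eq_one_iff_mul_comm.1 ?_)
    rw [← map_commutatorElement, ← MonoidHom.mem_ker, h9.ker_bot]
    exact le_centralizer P (h11 a b)⟩⟩
  rw [h12, h10]
  push_cast
  nlinarith [sq_nonneg (r : ℚ)]

end CfsgLib.SLin
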