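import Cfsg.Agent.Lib.PGroupBasic
import Cfsg.Agent.Lib.CoreBasic

/-!
# Groups of class two all of whose abelian subgroups are cyclic
-/

set_option autoImplicit false

namespace CfsgLib.SLin

open Subgroup CfsgLib.PGrp
open scoped commutatorElement

theorem eq_of_sq_cyclic {Z : Type*} [Group Z] [Finite Z] [IsCyclic Z] {a b : Z} (ha : a ^ 2 = 1)
    (hb : b ^ 2 = 1) (ha1 : a ≠ 1) (hb1 : b ≠ 1) : a = b := by
  classical
  have := Fintype.ofFinite Z
  by_contra hne
  have h1 := IsCyclic.card_pow_eq_one_le (α := Z) (n := 2) two_pos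
  have h2 : 2 < (Finset.univ.filter fun x : Z => x ^ 2 = 1).card := by
    rw [Finset.two_lt_card_iff]
    exact ⟨1, a, b, by simp, by simp [ha], by simp [hb], ha1.symm, hb1.symm, hne⟩
  omega

theorem mem_zpowers_of_cyclic {Z : Type*} [Group Z] [Finite Z] [IsCyclic Z] {r : ℕ}
    (hr : r.Prime) {a b : Z} (ha : a ^ r = 1) (hb : b ^ r = 1) (hb1 : b ≠ 1) :
    a ∈ zpowers b := by
  classical
  have := Fintype.ofFinite Z
  have := Fact.mk hr
  have h1 := IsCyclic.card_pow_eq_one_le (α := Z) (n := r) hr.pos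
  have h2 : orderOf b = r := orderOf_eq_prime hb hb1
  have h3 : (zpowers b : Set Z).toFinset ⊆ Finset.univ.filter fun x : Z => x ^ r = 1 := by
    intro x hx
    obtain ⟨k, rfl⟩ := mem_zpowers_iff.1 (Set.mem_toFinset.1 hx)
    simp only [Finset.mem_filter, Finset.mem_univ, true_and]
    rw [← zpow_natCast, ← zpow_mul, mul_comm, zpow_mul, zpow_natCast, hb, one_zpow]
  have h4 := Finset.eq_of_subset_of_card_le h3 (by
    rw [Set.toFinset_card, ← Nat.card_eq_fintype_card]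
    exact h1.trans ((Nat.card_zpowers b).trans h2).ge)
  have h5 : a ∈ (zpowers b : Set Z).toFinset := by rw [h4]; simp [ha]
  exact Set.mem_toFinset.1 h5

variable {R : Type*} [Group R] [Finite R]

/-- class at most two, abelian subgroups cyclic -/
structure Cy2 (R : Type*) [Group R] : Prop where
  cl : ∀ x y : R, ⁅x, y⁆ ∈ center R
  cyc : ∀ S : Subgroup R, IsMulCommutative S → IsCyclic S

namespace Cy2

omit [Finite R] in
theorem com (h : Cy2 R) (x y g : R) : Commute ⁅x, y⁆ g := (mem_center_iff.1 (h.cl x y) g).symm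

omit [Finite R] in
theorem comm_eq_one {x : R} (hx : x ∈ center R) (y : R) : ⁅x, y⁆ = 1 :=
  commutatorElement_eq_one_iff_mul_comm.2 (mem_center_iff.1 hx y).symm

omit [Finite R] in
theorem exists_comm_ne {x : R} (hx : x ∉ center R) : ∃ y : R, ⁅x, y⁆ ≠ 1 := by
  by_contra hne
  push Not at hne
  exact hx (mem_center_iff.2 fun g => (commutatorElement_eq_one_iff_mul_comm.1 (hne g)).symm)

theorem a1 (h : Cy2 R) {r : ℕ} (hr : r.Prime) {x : R} (hx : x ∉ center R)
    (hxr : x ^ r ∈ center R) {t : R} (ht : t ∈ center R) : x ^ r ≠ t ^ r := by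
  intro e
  obtain ⟨y, hy⟩ := exists_comm_ne hx
  have h1 : ⁅x, y⁆ ^ r = 1 := by
    rw [← commutatorElement_pow_left (h.com _ _ _), comm_eq_one hxr]
  have h2 : (x * t⁻¹) ^ r = 1 := by
    rw [Commute.mul_pow (mem_center_iff.1 (inv_mem ht) x), e, inv_pow, mul_inv_cancel]
  have := h.cyc (zpowers (x * t⁻¹) ⊔ center R) (isMulCommutative_sup inferInstance inferInstance
    (center_le_centralizer _))
  have h3 := mem_zpowers_of_cyclic hr (Z := (zpowers (x * t⁻¹) ⊔ center R : Subgroup R))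
    (a := ⟨x * t⁻¹, mem_sup_left (mem_zpowers _)⟩) (b := ⟨⁅x, y⁆, mem_sup_right (h.cl x y)⟩)
    (Subtype.ext h2) (Subtype.ext h1) (fun e => hy (congrArg Subtype.val e))
  obtain ⟨k, hk⟩ := mem_zpowers_iff.1 h3
  have h4 : ⁅x, y⁆ ^ k = x * t⁻¹ := congrArg Subtype.val hk
  exact hx ((mul_mem_cancel_right (inv_mem ht)).1 (h4 ▸ zpow_mem (h.cl x y) k))

theorem a3 (h : Cy2 R) {r : ℕ} (hr : r.Prime) {x y : R} (hx : x ∉ center R)
    (hxr : x ^ r ∈ center R) (hyr : y ^ r ∈ center R)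
    (hom : ∀ j : ℕ, (x ^ j * y) ^ r = (x ^ j) ^ r * y ^ r) : ∃ j : ℕ, x ^ j * y ∈ center R := by
  have := h.cyc (center R) inferInstance
  obtain ⟨ζ, hζ⟩ := IsCyclic.exists_monoid_generator (α := center R)
  obtain ⟨a, ha⟩ := hζ ⟨_, hxr⟩
  obtain ⟨b, hb⟩ := hζ ⟨_, hyr⟩
  have ha' : (ζ : R) ^ a = x ^ r := congrArg Subtype.val ha
  have hb' : (ζ : R) ^ b = y ^ r := congrArg Subtype.val hb
  have h1 : ¬ r ∣ a := by
    rintro ⟨c, rfl⟩
    exact h.a1 hr hx hxr (pow_mem ζ.2 c) (by rw [← ha', ← pow_mul, mul_comm])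
  obtain ⟨j, hj⟩ : ∃ j : ℕ, r ∣ a * j + b := by
    have := Fact.mk hr
    refine ⟨(-(b : ZMod r) / a).val, (ZMod.natCast_eq_zero_iff _ _).1 ?_⟩
    have h2 : (a : ZMod r) ≠ 0 := fun e => h1 ((ZMod.natCast_eq_zero_iff _ _).1 e)
    push_cast
    rw [ZMod.natCast_zmod_val]
    field_simp
    ring
  obtain ⟨t, ht⟩ := hj
  have h2 : (x ^ j * y) ^ r = ((ζ : R) ^ t) ^ r := by
    rw [hom, ← pow_mul, mul_comm j, pow_mul, ← ha', ← hb', ← pow_mul, ← pow_add, ht, ← pow_mul,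
      mul_comm]
  refine ⟨j, by_contra fun hne => h.a1 hr hne ?_ (pow_mem ζ.2 t) h2⟩
  rw [h2]
  exact pow_mem (pow_mem ζ.2 t) r

omit [Finite R] in
theorem comm_of_mem {x y g : R} {j : ℕ} (h1 : x ^ j * y ∈ center R) (h2 : Commute x g) :
    Commute y g := by
  have : y = (x ^ j)⁻¹ * (x ^ j * y) := by group
  rw [this]
  exact (h2.pow_left j).inv_left.mul_left (mem_center_iff.1 h1 g).symm

theorem pow_mem_iff {y : R} {n : ℕ} :
    y ^ n ∈ center R ↔ orderOf (y : R ⧸ center R) ∣ n := by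
  rw [orderOf_dvd_iff_pow_eq_one, ← QuotientGroup.mk_pow, QuotientGroup.eq_one_iff]

theorem pow_div {y : R} {r : ℕ} (hr : r.Prime) {m : ℕ} (e : orderOf (y : R ⧸ center R) = r * m) :
    y ^ m ∉ center R ∧ (y ^ m) ^ r ∈ center R := by
  have h0 : 0 < r * m := e ▸ orderOf_pos _
  have h1 : 0 < m := Nat.pos_of_mul_pos_left h0
  refine ⟨fun h => ?_, ?_⟩
  · rw [pow_mem_iff, e] at h
    have := Nat.le_of_dvd h1 h
    have := hr.two_le
    nlinarith
  · rw [← pow_mul, pow_mem_iff, e, mul_comm]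

theorem a4 (h : Cy2 R) {r : ℕ} (hr : r.Prime) {x : R} (hx : x ∉ center R)
    (hxr : x ^ r ∈ center R) : ∃ y : R, ⁅x, y⁆ ≠ 1 ∧ y ^ r ∈ center R := by
  obtain ⟨y, hy⟩ := exists_comm_ne hx
  have h1 : ⁅x, y⁆ ^ r = 1 := by
    rw [← commutatorElement_pow_left (h.com _ _ _), comm_eq_one hxr]
  have h2 : r ∣ orderOf (y : R ⧸ center R) := by
    by_contra hne
    have h3 : ⁅x, y⁆ ^ orderOf (y : R ⧸ center R) = 1 := by
      rw [← commutatorElement_pow_right (h.com _ _ _), ← commutatorElement_inv,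
        comm_eq_one (pow_mem_iff.2 dvd_rfl), inv_one]
    have h4 := pow_gcd_eq_one.2 ⟨h1, h3⟩
    rw [(Nat.Prime.coprime_iff_not_dvd hr).2 hne, pow_one] at h4
    exact hy h4
  obtain ⟨m, hm⟩ := h2
  obtain ⟨h3, h4⟩ := pow_div hr hm
  refine ⟨y ^ m, fun e => hy ?_, h4⟩
  have h5 : Commute x (y ^ m) := commutatorElement_eq_one_iff_commute.1 e
  obtain ⟨j, hj⟩ := h.a3 hr h3 h4 hxr fun j => (h5.symm.pow_left j).mul_pow r
  exact commutatorElement_eq_one_iff_commute.2 (comm_of_mem hj ((Commute.refl y).pow_left m))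

theorem a5 (h : Cy2 R) {r : ℕ} (hr : r.Prime) {x : R} (hx : x ∉ center R)
    (hxr : x ^ r ∈ center R) : r = 2 := by
  by_contra hne
  obtain ⟨y, h1, h2⟩ := h.a4 hr hx hxr
  obtain ⟨j, hj⟩ := h.a3 hr hx hxr h2 fun j =>
    mul_pow_prime_eq_of_odd (hr.odd_of_ne_two hne) (h.com _ _ _) (h.com _ _ _) (by
      rw [← commutatorElement_pow_left (h.com _ _ _), comm_eq_one h2])
  exact h1 (commutatorElement_eq_one_iff_commute.2 (comm_of_mem hj (Commute.refl x)).symm)

theorem a6 (h : Cy2 R) (y : R) : y ^ 2 ∈ center R := by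
  by_contra hne
  have key : ∀ r, r.Prime → r ∣ orderOf (y : R ⧸ center R) → r = 2 := by
    rintro r hr ⟨m, hm⟩
    obtain ⟨h3, h4⟩ := pow_div hr hm
    exact h.a5 hr h3 h4
  rw [pow_mem_iff] at hne
  have h1 : orderOf (y : R ⧸ center R) ≠ 1 := fun e => hne (e ▸ one_dvd 2)
  obtain ⟨m, hm⟩ := key _ (Nat.minFac_prime h1) (Nat.minFac_dvd _) ▸ Nat.minFac_dvd _
  have h2 : m ≠ 1 := fun e => hne (by rw [hm, e])
  obtain ⟨k, hk⟩ := key _ (Nat.minFac_prime h2) (hm ▸ (Nat.minFac_dvd m).mul_left 2) ▸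
    Nat.minFac_dvd m
  obtain ⟨h3, h4⟩ := pow_div Nat.prime_two hm
  obtain ⟨w, h5, h6⟩ := h.a4 Nat.prime_two h3 h4
  apply h5
  rw [commutatorElement_pow_left (h.com _ _ _), hk, pow_mul,
    ← commutatorElement_pow_right (h.com _ _ _), ← commutatorElement_inv, comm_eq_one h6, inv_one,
    one_pow]

theorem index_center (h : Cy2 R) : (center R).index = 1 ∨ (center R).index = 4 := by
  refine or_iff_not_imp_left.2 fun h1 => ?_
  obtain ⟨x, hx⟩ : ∃ x, x ∉ center R := by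
    by_contra hne
    push Not at hne
    exact h1 (index_eq_one.2 ((eq_top_iff' _).2 hne))
  have := Fact.mk Nat.prime_two
  have h2 : centralizer {x} = center R ⊔ zpowers x := by
    refine le_antisymm (fun y hy => ?_) (sup_le (center_le_centralizer _) (zpowers_le.2 ?_))
    · have h3 : Commute x y := (mem_centralizer_singleton_iff.1 hy).symm
      obtain ⟨j, hj⟩ := h.a3 Nat.prime_two hx (h.a6 x) (h.a6 y)
        fun j => (h3.pow_left j).mul_pow 2
      exact (mul_mem_cancel_left (mem_sup_right (pow_mem (mem_zpowers x) j))).1 (mem_sup_left hj)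
    · exact mem_centralizer_singleton_iff.2 rfl
  have h3 := card_sup_zpowers_of_pow_mem (center R) hx (h.a6 x)
  have hm : ∀ y, y ∈ centralizer ({x} : Set R) ↔ ⁅x, y⁆ = 1 := fun y => by
    rw [mem_centralizer_singleton_iff, commutatorElement_eq_one_iff_mul_comm, eq_comm]
  have hsq : ∀ y : R, ⁅x, y⁆ ^ 2 = 1 := fun y => by
    rw [← commutatorElement_pow_left (h.com _ _ _), comm_eq_one (h.a6 x)]
  have hmul : ∀ a b : R, ⁅x, a * b⁆ = ⁅x, a⁆ * ⁅x, b⁆ := fun a b => by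
    have e : ⁅x, a * b⁆ = ⁅x, a⁆ * (a * ⁅x, b⁆) * a⁻¹ := by
      simp [commutatorElement_def, mul_assoc]
    rw [e, ← (h.com x b a).eq]
    group
  have h4 : (centralizer ({x} : Set R)).index = 2 := by
    obtain ⟨y, hy⟩ := exists_comm_ne hx
    rw [index_eq_two_iff]
    refine ⟨y, fun b => ?_⟩
    rw [hm, hm, hmul]
    by_cases hb : ⁅x, b⁆ = 1
    · rw [hb, one_mul]; exact Or.inr ⟨rfl, hy⟩
    · have := h.cyc (center R) inferInstance
      have h5 := eq_of_sq_cyclic (Z := center R) (a := ⟨_, h.cl x b⟩) (b := ⟨_, h.cl x y⟩)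
        (Subtype.ext (hsq b)) (Subtype.ext (hsq y)) (fun e => hb (congrArg Subtype.val e))
        (fun e => hy (congrArg Subtype.val e))
      have h6 : ⁅x, b⁆ = ⁅x, y⁆ := congrArg Subtype.val h5
      refine Or.inl ⟨?_, hb⟩
      rw [h6, ← pow_two, hsq]
  have h5 := (centralizer ({x} : Set R)).card_mul_index
  have h6 := (center R).card_mul_index
  rw [h4, h2, h3, ← h6] at h5
  exact (Nat.eq_of_mul_eq_mul_left (Nat.card_pos (α := center R)) (by rw [← h5]; ring)).symm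

end Cy2

end CfsgLib.SLin
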