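import Cfsg.Agent.Lib.SLin.ColC

/-!
# Abelian sections as modules; primitive solvable permutation groups
-/

set_option autoImplicit false

namespace CfsgLib.SLin

open Subgroup
open scoped commutatorElement

universe u

section sec
variable {A : Type u} [Group A]

/-- `V` is the section `M/N`, with the conjugation action `ψ` -/
structure SecD (M N : Subgroup A) [hM : M.Normal] {V : Type*} [CommGroup V] (ψ : A →* MulAut V)
    (π : M →* V) : Prop where
  surj : Function.Surjective π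
  ker : ∀ m : M, π m = 1 ↔ (m : A) ∈ N
  act : ∀ (a : A) (m : M), ψ a (π m) = π ⟨a * m * a⁻¹, hM.conj_mem _ m.2 a⟩

theorem exists_secD [Finite A] (M N : Subgroup A) [hM : M.Normal] [N.Normal] (hc : ⁅M, M⁆ ≤ N) :
    ∃ (V : Type u) (_ : CommGroup V) (_ : Finite V) (ψ : A →* MulAut V) (π : M →* V),
      SecD M N ψ π := by
  let M' := M.map (QuotientGroup.mk' N)
  have hn : M'.Normal := hM.map _ (QuotientGroup.mk'_surjective N)
  letI : CommGroup M' := { (inferInstance : Group M') with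
    mul_comm := by
      rintro ⟨_, a, ha, rfl⟩ ⟨_, b, hb, rfl⟩
      apply Subtype.ext
      change QuotientGroup.mk' N a * QuotientGroup.mk' N b =
        QuotientGroup.mk' N b * QuotientGroup.mk' N a
      rw [← commutatorElement_eq_one_iff_mul_comm, ← map_commutatorElement,
        QuotientGroup.mk'_apply, QuotientGroup.eq_one_iff]
      exact hc (commutator_mem_commutator ha hb) }
  refine ⟨M', inferInstance, inferInstance, MulAut.conjNormal.comp (QuotientGroup.mk' N),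
    (QuotientGroup.mk' N).subgroupMap M, MonoidHom.subgroupMap_surjective _ _, fun m => ?_,
    fun a m => Subtype.ext ?_⟩
  · rw [Subtype.ext_iff]
    exact QuotientGroup.eq_one_iff _
  · rfl

variable {M N : Subgroup A} [hM : M.Normal] {V : Type*} [CommGroup V] {ψ : A →* MulAut V}
  {π : M →* V}

theorem SecD.ker_eq (h : SecD M N ψ π) : π.ker = N.subgroupOf M := by
  ext m; exact h.ker m

theorem SecD.card (h : SecD M N ψ π) : Nat.card V = N.relIndex M := by
  rw [relIndex, ← h.ker_eq, index_ker, MonoidHom.range_eq_top.2 h.surj, card_top]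

theorem SecD.eq_iff (h : SecD M N ψ π) {m m' : M} : π m = π m' ↔ (m : A)⁻¹ * m' ∈ N := by
  rw [← inv_mul_eq_one, ← map_inv, ← map_mul, h.ker]; rfl

theorem SecD.mem_ker (h : SecD M N ψ π) {a : A} :
    a ∈ ψ.ker ↔ ∀ m ∈ M, m⁻¹ * (a * m * a⁻¹) ∈ N := by
  rw [mem_ker_iff]
  constructor
  · intro h1 m hm
    have := h1 (π ⟨m, hm⟩)
    rw [h.act, eq_comm, h.eq_iff] at this
    exact this
  · intro h1 v
    obtain ⟨m, rfl⟩ := h.surj v
    rw [h.act, eq_comm, h.eq_iff]
    exact h1 m m.2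

/-- preimage of a subgroup of the section -/
def pre (π : M →* V) (W : Subgroup V) : Subgroup A := (W.comap π).map M.subtype

omit hM in
theorem mem_pre {W : Subgroup V} {m : M} : (m : A) ∈ pre π W ↔ π m ∈ W :=
  ⟨fun ⟨_, h1, h2⟩ => (Subtype.ext h2 : _ = m) ▸ h1, fun h => ⟨m, h, rfl⟩⟩

omit hM in
theorem pre_le (W : Subgroup V) : pre π W ≤ M := map_subtype_le _

theorem SecD.le_pre (h : SecD M N ψ π) (hN : N ≤ M) (W : Subgroup V) : N ≤ pre π W :=
  fun n hn => (mem_pre (m := ⟨n, hN hn⟩)).2 (((h.ker ⟨n, hN hn⟩).2 hn).symm ▸ W.one_mem)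

theorem SecD.pre_normal (h : SecD M N ψ π) {W : Subgroup V} (hW : Inv ψ W) : (pre π W).Normal := by
  refine ⟨?_⟩
  rintro _ ⟨m, hm, rfl⟩ a
  refine (mem_pre (m := ⟨_, hM.conj_mem _ m.2 a⟩)).2 ?_
  rw [← h.act]
  exact hW a _ hm

theorem SecD.inv_map (h : SecD M N ψ π) (K : Subgroup A) [hK : K.Normal] :
    Inv ψ ((K.subgroupOf M).map π) := by
  rintro a _ ⟨m, hm, rfl⟩
  rw [h.act]
  exact mem_map_of_mem _ (hK.conj_mem _ hm a)

theorem SecD.eq_bot_of_pre (h : SecD M N ψ π) {W : Subgroup V} (e : pre π W ≤ N) : W = ⊥ := by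
  rw [eq_bot_iff]
  intro v hv
  obtain ⟨m, rfl⟩ := h.surj v
  exact (h.ker m).2 (e (mem_pre.2 hv))

theorem SecD.eq_top_of_pre (h : SecD M N ψ π) {W : Subgroup V} (e : M ≤ pre π W) : W = ⊤ := by
  rw [eq_top_iff]
  intro v _
  obtain ⟨m, rfl⟩ := h.surj v
  exact mem_pre.1 (e m.2)

theorem SecD.card_pre [Finite A] (h : SecD M N ψ π) (hN : N ≤ M) (W : Subgroup V) :
    Nat.card (pre π W) = Nat.card N * Nat.card W := by
  rw [pre, card_map_subtype, ← card_subgroupOf_of_le hN, ← h.ker_eq]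
  have h1 : π.ker ≤ W.comap π := fun m hm => by
    rw [mem_comap, MonoidHom.mem_ker.1 hm]; exact W.one_mem
  rw [← card_mul_relIndex h1, relIndex_ker, map_comap_eq_self_of_surjective h.surj]

end sec

section aff
variable {A : Type u} [Group A]

/-- affine description of the action on `A ⧸ H` -/
structure AffD (H : Subgroup A) {V : Type u} [CommGroup V] (ψ : A →* MulAut V)
    (β : (A ⧸ H) ≃ V) (r d : ℕ) : Prop where
  prime : r.Prime
  card : Nat.card V = r ^ d
  one_le : 1 ≤ d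
  irr : Irr ψ
  act : ∀ (a : A) (ω : A ⧸ H), β (a • ω) = β (a : A ⧸ H) * ψ a (β ω)

theorem exists_affD [Finite A] [Group.IsSolvable A] {H : Subgroup A} (hH : IsCoatom H) :
    ∃ (V : Type u) (_ : CommGroup V) (_ : Finite V) (ψ : A →* MulAut V) (β : (A ⧸ H) ≃ V)
      (r d : ℕ), AffD H ψ β r d := by
  obtain ⟨M, hM, h1, -, h2⟩ := exists_chief_above (L := H.normalCore) (N := ⊤)
    (lt_of_le_of_lt H.normalCore_le hH.lt_top)
  have hc := commutator_le_of_chief_of_isSolvable (inferInstance : Group.IsSolvable M) h1 h2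
  obtain ⟨V, _, _, ψ, π, h⟩ := exists_secD M H.normalCore hc
  have hMH : ¬ M ≤ H := fun e => h1.not_ge (normal_le_normalCore.2 e)
  have hsup : H ⊔ M = ⊤ := hH.2 _ (left_lt_sup.2 hMH)
  have hdec : ∀ a : A, ∃ m ∈ M, ∃ k ∈ H, m * k = a := fun a => by
    have : a ∈ M ⊔ H := by rw [sup_comm, hsup]; exact mem_top a
    exact mem_sup_of_normal_left.1 this
  have hinf : ∀ m ∈ M, m ∈ H → m ∈ H.normalCore := by
    intro m hm hmH a
    obtain ⟨x, hx, k, hk, rfl⟩ := hdec a
    have e : x * k * m * (x * k)⁻¹ = ⁅x, k * m * k⁻¹⁆ * (k * m * k⁻¹) := by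
      simp [commutatorElement_def, mul_assoc]
    rw [e]
    exact H.mul_mem (H.normalCore_le (hc (commutator_mem_commutator hx (hM.conj_mem _ hm k))))
      (H.mul_mem (H.mul_mem hk hmH) (H.inv_mem hk))
  let γ : V → A ⧸ H := fun v => ((Function.surjInv h.surj v : M) : A)
  have hγ : ∀ m : M, γ (π m) = ((m : A) : A ⧸ H) := fun m =>
    QuotientGroup.eq.2 (H.normalCore_le (h.eq_iff.1 (Function.surjInv_eq h.surj _)))
  have hbij : Function.Bijective γ := by
    constructor
    · intro v w e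
      obtain ⟨m, rfl⟩ := h.surj v
      obtain ⟨m', rfl⟩ := h.surj w
      rw [hγ, hγ, QuotientGroup.eq] at e
      exact h.eq_iff.2 (hinf _ (M.mul_mem (M.inv_mem m.2) m'.2) e)
    · intro ω
      obtain ⟨a, rfl⟩ := QuotientGroup.mk_surjective ω
      obtain ⟨m, hm, k, hk, rfl⟩ := hdec a
      exact ⟨π ⟨m, hm⟩, by rw [hγ, QuotientGroup.eq]; simpa using hk⟩
  let β := (Equiv.ofBijective γ hbij).symm
  have hβ : ∀ m : M, β ((m : A) : A ⧸ H) = π m := fun m => by
    rw [Equiv.symm_apply_eq]; exact (hγ m).symm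
  have hirr : Irr ψ := by
    intro W hW
    rcases h2 _ (h.pre_normal hW) (h.le_pre h1.le W) (pre_le W) with e | e
    · exact Or.inl (h.eq_bot_of_pre e.le)
    · exact Or.inr (h.eq_top_of_pre e.ge)
  have hV1 : Nat.card V ≠ 1 := by
    rw [h.card]
    exact fun e => h1.not_ge (relIndex_eq_one.1 e)
  have hr := Fact.mk (Nat.minFac_prime hV1)
  obtain ⟨P⟩ : Nonempty (Sylow (Nat.card V).minFac V) := inferInstance
  have hP : (P : Subgroup V) = ⊤ := by
    refine (hirr P fun a w hw => ?_).resolve_left (P.ne_bot_of_dvd_card (Nat.minFac_dvd _))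
    have : (P : Subgroup V).Characteristic := P.characteristic_of_normal inferInstance
    exact (characteristic_iff_le_comap.1 this (ψ a)) hw
  obtain ⟨d, hd⟩ := P.isPGroup'.exists_card_eq
  rw [hP, card_top] at hd
  refine ⟨V, inferInstance, inferInstance, ψ, β, _, d, hr.out, hd, ?_, hirr, fun a ω => ?_⟩
  · rcases Nat.eq_zero_or_pos d with rfl | h0
    · exact absurd hd hV1
    · exact h0
  · obtain ⟨v, rfl⟩ := hbij.2 ω
    obtain ⟨m, rfl⟩ := h.surj v
    obtain ⟨x, hx, k, hk, rfl⟩ := hdec a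
    have e1 : ((x * k : A) : A ⧸ H) = ((⟨x, hx⟩ : M) : A) := by
      rw [QuotientGroup.eq]; simpa using hk
    have e2 : (x * k) • (((m : A) : A ⧸ H)) =
        ((⟨x, hx⟩ * ⟨k * m * k⁻¹, hM.conj_mem _ m.2 k⟩ : M) : A) := by
      rw [MulAction.Quotient.smul_mk, QuotientGroup.eq]
      simpa [mul_assoc] using hk
    rw [hγ, e1, e2, hβ, hβ, hβ, map_mul, act_mul, h.act, h.act]
    congr 1
    rw [h.eq_iff]
    have := hc (commutator_mem_commutator (M.inv_mem (hM.conj_mem _ m.2 k)) hx)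
    simpa [commutatorElement_def, mul_assoc] using this

variable {H : Subgroup A} {V : Type u} [CommGroup V] {ψ : A →* MulAut V}
    {β : (A ⧸ H) ≃ V} {r d : ℕ}

/-- the permutation representation transported to `V` -/
def tp (β : (A ⧸ H) ≃ V) : A →* Equiv.Perm V :=
  β.permCongrHom.toMonoidHom.comp (MulAction.toPermHom A (A ⧸ H))

theorem tp_apply (β : (A ⧸ H) ≃ V) (a : A) (ω : A ⧸ H) : tp β a (β ω) = β (a • ω) := by
  simp [tp]

theorem smul_of_tp {β : (A ⧸ H) ≃ V} {a : A} (h : tp β a = 1) (ω : A ⧸ H) : a • ω = ω :=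
  β.injective (by rw [← tp_apply, h]; rfl)

theorem car_tp {κ : Type*} {c c' : V → κ} {β : (A ⧸ H) ≃ V} {a : A}
    (h : ∀ ω, c' (β (a • ω)) = c (β ω)) : Car (tp β a) c c' := fun v => by
  obtain ⟨ω, rfl⟩ := β.surjective v
  rw [tp_apply, h]

theorem AffD.aff (h : AffD H ψ β r d) (a : A) : Aff (tp β a) :=
  aff_of (β (a : A ⧸ H)) (ψ a).toMonoidHom fun v => by
    obtain ⟨ω, rfl⟩ := β.surjective v
    rw [tp_apply, h.act]; rfl

theorem AffD.index (h : AffD H ψ β r d) : H.index = Nat.card V := Nat.card_congr β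

theorem AffD.ds_smul (h : AffD H ψ β r d) {k : ℕ} (hk : ds ⊤ k ≤ ψ.ker) {g : A}
    (hg : g ∈ ds ⊤ (k + 1)) (ω : A ⧸ H) : g • ω = ω := by
  have : ds ⊤ (k + 1) ≤ (tp β).ker := by
    rw [ds_succ, commutator_le]
    intro a ha b hb
    rw [MonoidHom.mem_ker, map_commutatorElement, commutatorElement_eq_one_iff_mul_comm]
    ext v
    obtain ⟨ω, rfl⟩ := β.surjective v
    simp only [Equiv.Perm.mul_apply, tp_apply]
    simp only [h.act, mem_ker_iff.1 (hk ha), mem_ker_iff.1 (hk hb)]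
    rw [mul_left_comm]
  exact smul_of_tp (this hg) ω

variable [Finite A] [Group.IsSolvable A]

theorem cprof5 (hH : IsCoatom H) : CProf A (A ⧸ H) 5 5 0 := by
  obtain ⟨V, _, _, ψ, β, r, d, h⟩ := exists_affD hH
  obtain ⟨c, hc⟩ := T5 h.prime h.card
  exact ⟨fun i ω => c i (β ω), fun i j g e => (hc i j _ (h.aff g) (car_tp e)).1,
    fun i T hT g hg => smul_of_tp (hc i i _ (h.aff g) (car_tp (hT g hg))).2⟩

theorem cprof3 (hH : IsCoatom H) : CProf A (A ⧸ H) 3 5 1 := by
  obtain ⟨V, _, _, ψ, β, r, d, h⟩ := exists_affD hH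
  obtain ⟨c, hc, hi⟩ := T3 h.prime h.card h.one_le
  refine ⟨fun i ω => c i (β ω), fun i j g e => hi (car_tp e).sz_eq, fun i T hT g hg => ?_⟩
  have h1 : ∀ t ∈ T, tp β t * tp β t = 1 := fun t ht => hc i _ (h.aff t) (car_tp (hT t ht))
  have : ds T 1 ≤ (tp β).ker := ds_one_le fun a ha b hb => by
    have h2 := h1 _ (T.mul_mem ha hb)
    rw [MonoidHom.mem_ker, map_commutatorElement, commutatorElement_def,
      inv_eq_of_mul_eq_one_right (h1 a ha), inv_eq_of_mul_eq_one_right (h1 b hb), mul_assoc,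
      ← map_mul]
    exact h2
  exact smul_of_tp (this hg)

theorem cprof2 (h7 : G7.{u}) (hH : IsCoatom H) : CProf A (A ⧸ H) 2 3 3 := by
  obtain ⟨V, _, _, ψ, β, r, d, h⟩ := exists_affD hH
  obtain ⟨c, hc, hi⟩ := T2 h7 h.prime h.card h.one_le
  refine ⟨fun i ω => c i (β ω), fun i j g e => hi (car_tp e).sz_eq, fun i T hT g hg => ?_⟩
  refine smul_of_tp (hc i (T.map (tp β)) (isSolvable_map inferInstance _) ?_ (mem_ds_map _ hg))
  rintro _ ⟨t, ht, rfl⟩
  exact ⟨h.aff t, car_tp (hT t ht)⟩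

theorem cprofOdd (hodd : Odd (Nat.card A)) (hH : IsCoatom H) : CProf A (A ⧸ H) 2 2 0 := by
  obtain ⟨V, _, _, ψ, β, r, d, h⟩ := exists_affD hH
  have hr2 : r ≠ 2 := by
    rintro rfl
    have h1 : Odd H.index := Odd.of_dvd_nat hodd H.index_dvd_card
    rw [h.index, h.card, Nat.odd_pow_iff (by have := h.one_le; omega)] at h1
    exact absurd h1 (by decide)
  obtain ⟨c, hc, hi⟩ := T2odd h.prime hr2 h.card h.one_le
  refine ⟨fun i ω => c i (β ω), fun i j g e => hi (car_tp e).sz_eq, fun i T hT g hg => ?_⟩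
  exact smul_of_tp (hc i _ (h.aff g) (car_tp (hT g hg)) _ hodd (by
    rw [← map_pow, pow_card_eq_one', map_one]))

end aff

theorem CProf.card_le {A Ω : Type*} [Group A] [Finite A] [Finite Ω] [MulAction A Ω] {k m : ℕ}
    (h : CProf A Ω k m 0) : m * (MulAction.toPermHom A Ω).ker.index ≤ k ^ Nat.card Ω := by
  obtain ⟨c, h1, h2⟩ := h
  let f : Fin m × (A ⧸ (MulAction.toPermHom A Ω).ker) → Ω → Fin k :=
    fun p ω => c p.1 (p.2.out⁻¹ • ω)
  have hf : Function.Injective f := by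
    rintro ⟨i, a⟩ ⟨j, b⟩ e
    have h3 : ∀ ω, c j ((b.out⁻¹ * a.out) • ω) = c i ω := fun ω => by
      have := congrFun e (a.out • ω)
      simp only [f, inv_smul_smul] at this
      rw [mul_smul, this]
    obtain rfl := h1 _ _ _ h3
    have h4 := h2 i (zpowers (b.out⁻¹ * a.out)) (fun g hg => by
      obtain ⟨n, rfl⟩ := (Submonoid.mem_powers_iff _ _).1 (mem_powers_iff_mem_zpowers.2 hg)
      induction n with
      | zero => simp
      | succ n ih =>
        intro ω
        rw [pow_succ', mul_smul, h3, ih (pow_mem (mem_zpowers _) n)]) _ (mem_zpowers _)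
    refine Prod.ext rfl ?_
    simp only
    rw [← a.out_eq, ← b.out_eq, eq_comm]
    exact QuotientGroup.eq.2 (Equiv.ext h4)
  have := Nat.card_le_card_of_injective f hf
  rwa [Nat.card_prod, Nat.card_fun, Nat.card_fin, Nat.card_fin] at this

end CfsgLib.SLin
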