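import Cfsg.Agent.Lib.SLin.Sys
import Cfsg.Agent.Lib.SLin.Sec
import Cfsg.Agent.Lib.SLin.Rho
import Cfsg.Agent.Lib.H1Pairing
import Cfsg.Agent.Lib.CoprimeGen

/-!
# Structure of primitive solvable linear groups
-/

set_option autoImplicit false

namespace CfsgLib.SLin

open Subgroup Cfsg
open scoped commutatorElement

universe u

section gen
variable {G W : Type*} [Group G] [CommGroup W]

theorem isCyclic_of_fpf [Finite G] [Finite W] [Nontrivial W] (φ : G →* MulAut W) {S : Subgroup G}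
    (hS : IsMulCommutative S) (h : ∀ u ∈ S, ∀ v, v ≠ 1 → φ u v = v → u = 1) : IsCyclic S := by
  obtain ⟨W1, -, h1⟩ := exists_minimal_le_of_wellFoundedLT
    (fun K : Subgroup W => K ≠ ⊥ ∧ InvBy φ S K) ⊤ ⟨top_ne_bot, fun _ _ _ _ => mem_top _⟩
  have := (nontrivial_iff_ne_bot W1).2 h1.1.1
  have h2 := Cop.isCyclic_quotient_ker_of_irreducible hS inferInstance (res φ S W1 h1.1.2) (by
    intro K hK
    refine or_iff_not_imp_left.2 fun h3 => ?_
    have h4 := h1.2 (y := K.map W1.subtype) ⟨fun e => h3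
      ((Subgroup.map_eq_bot_iff_of_injective _ W1.subtype_injective).1 e), by
        rintro a ha _ ⟨w, hw, rfl⟩
        exact ⟨_, hK ⟨a, ha⟩ w hw, rfl⟩⟩ (map_subtype_le _)
    rw [eq_top_iff]
    intro w _
    obtain ⟨y, hy, e⟩ := h4 w.2
    exact (Subtype.ext e : y = w) ▸ hy)
  have h3 : (res φ S W1 h1.1.2).ker = ⊥ := by
    rw [eq_bot_iff]
    intro a ha
    obtain ⟨w, hw⟩ := exists_ne (1 : W1)
    exact Subtype.ext (h a a.2 w (fun e => hw (Subtype.ext e)) ((mem_ker_res _).1 ha w w.2))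
  exact isCyclic_of_injective (QuotientGroup.mk' _) ((QuotientGroup.ker_mk' _).trans h3 |>
    (MonoidHom.ker_eq_bot_iff _).1)

theorem card_dvd_of_fpf [Finite G] [Finite W] (φ : G →* MulAut W)
    (h : ∀ u : G, ∀ v, v ≠ 1 → φ u v = v → u = 1) : Nat.card G ∣ Nat.card W - 1 := by
  classical
  letI : MulAction G {v : W // v ≠ 1} :=
    { smul := fun g v => ⟨φ g v, fun e => v.2 ((φ g).injective (e.trans (map_one _).symm))⟩
      one_smul := fun v => Subtype.ext (act_one φ _)
      mul_smul := fun a b v => Subtype.ext (act_mul φ _ _ _) }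
  have h1 : Nat.card {v : W // v ≠ 1} = Nat.card W - 1 := by
    have := Fintype.ofFinite W
    simp [Nat.card_eq_fintype_card]
  rw [← h1, Nat.card_congr (MulAction.selfEquivOrbitsQuotientProd (G := G) (X := {v : W // v ≠ 1})
    (fun v => by
      rw [eq_bot_iff]
      intro g hg
      exact h g v v.2 (congrArg Subtype.val hg))), Nat.card_prod]
  exact dvd_mul_left _ _

theorem succ_le_of_fpf [Finite G] [Finite W] [Nontrivial W] (φ : G →* MulAut W)
    (h : ∀ u : G, ∀ v, v ≠ 1 → φ u v = v → u = 1) : Nat.card G + 1 ≤ Nat.card W := by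
  have h1 : 1 < Nat.card W := Finite.one_lt_card
  have := Nat.le_of_dvd (by omega) (card_dvd_of_fpf φ h)
  omega

theorem comm_mul_right {x a b : G} (h : Commute a ⁅x, b⁆) : ⁅x, a * b⁆ = ⁅x, a⁆ * ⁅x, b⁆ := by
  have e : ⁅x, a * b⁆ = ⁅x, a⁆ * (a * ⁅x, b⁆) * a⁻¹ := by
    simp [commutatorElement_def, mul_assoc]
  rw [e, h.eq]
  group

theorem comm_mul_left {a b y : G} (h : Commute a ⁅b, y⁆) (h' : Commute ⁅a, y⁆ ⁅b, y⁆) :
    ⁅a * b, y⁆ = ⁅a, y⁆ * ⁅b, y⁆ := by
  have e : ⁅a * b, y⁆ = a * ⁅b, y⁆ * a⁻¹ * ⁅a, y⁆ := by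
    simp [commutatorElement_def, mul_assoc]
  rw [e, h.eq, h'.eq]
  group

/-- elements acting trivially on `F/U` -/
def cm (U F : Subgroup G) [U.Normal] : Subgroup G :=
  (centralizer (F.map (QuotientGroup.mk' U) : Set (G ⧸ U))).comap (QuotientGroup.mk' U)

theorem mem_cm {U F : Subgroup G} [U.Normal] {g : G} : g ∈ cm U F ↔ ∀ x ∈ F, ⁅g, x⁆ ∈ U := by
  have key : ∀ x : G, QuotientGroup.mk' U x * QuotientGroup.mk' U g =
      QuotientGroup.mk' U g * QuotientGroup.mk' U x ↔ ⁅g, x⁆ ∈ U := fun x => by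
    rw [eq_comm, ← commutatorElement_eq_one_iff_mul_comm, ← map_commutatorElement,
      QuotientGroup.mk'_apply, QuotientGroup.eq_one_iff]
  unfold cm
  rw [mem_comap, mem_centralizer_iff]
  exact ⟨fun h x hx => (key x).1 (h _ (mem_map_of_mem _ hx)),
    by rintro h _ ⟨x, hx, rfl⟩; exact (key x).2 (h x hx)⟩

theorem cm_normal (U F : Subgroup G) [U.Normal] [hF : F.Normal] : (cm U F).Normal := by
  have := hF.map _ (QuotientGroup.mk'_surjective U)
  unfold cm
  infer_instance

end gen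

/-- structure data of a primitive solvable linear group -/
structure PD {G W : Type*} [Group G] [CommGroup W] (φ : G →* MulAut W) (U F : Subgroup G) :
    Prop where
  inj : Function.Injective φ
  nU : U.Normal
  nF : F.Normal
  cyc : IsCyclic U
  fpf : ∀ u ∈ U, ∀ v, v ≠ 1 → φ u v = v → u = 1
  UF : U ≤ F
  FC : F ≤ centralizer (U : Set G)
  maxU : ∀ N : Subgroup G, N.Normal → U ≤ N → N ≤ F → N ⊓ centralizer (N : Set G) ≤ U
  comm : ⁅F, F⁆ ≤ U
  kerM : ∀ g ∈ centralizer (U : Set G), (∀ x ∈ F, ⁅g, x⁆ ∈ U) → g ∈ F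

variable {G W : Type*} [Group G] [Finite G] [CommGroup W] [Finite W] {φ : G →* MulAut W}

theorem exists_pd [Group.IsSolvable G] [Nontrivial W] (hφ : Function.Injective φ) (h : FP φ) :
    ∃ U F, PD φ U F := by
  obtain ⟨U, -, hU⟩ := exists_maximal_ge_of_wellFoundedGT
    (fun U : Subgroup G => U.Normal ∧ IsMulCommutative U) ⊥ ⟨inferInstance, inferInstance⟩
  have hUn := hU.1.1
  have hUc := hU.1.2
  have fpf := h U hUn (PGrp.isMulCommutative_iff_forall.1 hUc)
  set C := centralizer (U : Set G) with hC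
  set F := fittingSubgroup G ⊓ C with hF
  have hFn : F.Normal := inferInstance
  have hUC : U ≤ C := le_centralizer U
  have UF : U ≤ F := le_inf le_fitting_of_isMulCommutative hUC
  have maxU : ∀ N : Subgroup G, N.Normal → U ≤ N → N ≤ F → N ⊓ centralizer (N : Set G) ≤ U := by
    intro N hN h1 h2
    refine hU.2 (y := N ⊓ centralizer (N : Set G)) ⟨inferInstance,
      PGrp.isMulCommutative_iff_forall.2 fun a ha b hb => hb.2 a ha.1⟩ (le_inf h1 ?_)
    exact le_centralizer_iff.1 (h2.trans inf_le_right)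
  have hCF : C ⊓ centralizer (F : Set G) ≤ F := by
    intro x hx
    have e : F = (fittingSubgroup C).map C.subtype :=
      (map_fitting_eq_inf_of_isSubnormal (Subgroup.Normal.isSubnormal inferInstance)).symm
    rw [e]
    refine ⟨⟨x, hx.1⟩, centralizer_fitting_le (fun y hy => Subtype.ext (hx.2 y ?_)), rfl⟩
    rw [e]
    exact mem_map_of_mem _ hy
  have hcm := cm_normal U F
  have hUF' : ⁅U, F⁆ = ⊥ := by
    rw [Subgroup.commutator_comm, commutator_eq_bot_iff_le_centralizer]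
    exact inf_le_right
  have comm : ⁅F, F⁆ ≤ U := by
    set Y := F ⊓ cm U F
    have hY : ⁅Y, F⁆ ≤ U := commutator_le.2 fun a ha b hb => mem_cm.1 ha.2 b hb
    have hUY : U ≤ Y := le_inf UF fun a ha => mem_cm.2 fun x _ =>
      commutator_le_left U ⊤ (commutator_mem_commutator ha (mem_top x))
    have h1 : ⁅⁅F, F⁆, Y⁆ = ⊥ := commutator_commutator_eq_bot_of_rotate
      (eq_bot_iff.2 ((commutator_mono (Subgroup.commutator_comm F Y ▸ hY) le_rfl).trans hUF'.le))
      (eq_bot_iff.2 ((commutator_mono hY le_rfl).trans hUF'.le))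
    set D := F ⊓ centralizer (Y : Set G)
    refine (le_inf (commutator_le_left F F) (commutator_eq_bot_iff_le_centralizer.1 h1)).trans
      (?_ : D ≤ U)
    by_contra hne
    have hDn : D.Normal := inferInstance
    have h2 := inf_centralizer_ne_bot_of_isNilpotent
      (isNilpotent_map (isNilpotent_of_le fitting_isNilpotent (inf_le_left : F ≤ _))
        (QuotientGroup.mk' U)) (N := D.map (QuotientGroup.mk' U)) (map_mono inf_le_left)
      (by
        have := hDn.map _ (QuotientGroup.mk'_surjective U)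
        rw [normalizer_eq_top]; exact le_top)
      (fun e => hne (by rwa [Subgroup.map_eq_bot_iff, QuotientGroup.ker_mk'] at e))
    obtain ⟨⟨_, ⟨d, hd, rfl⟩, h3⟩, h4⟩ := ne_bot_iff_exists_ne_one.1 h2
    exact h4 (Subtype.ext ((QuotientGroup.eq_one_iff d).2
      (maxU Y inferInstance hUY inf_le_left ⟨⟨hd.1, h3⟩, hd.2⟩)))
  refine ⟨U, F, hφ, hUn, hFn, isCyclic_of_fpf φ hUc fpf, fpf, UF, inf_le_right, maxU, comm,
    fun g hg h1 => ?_⟩
  set B := C ⊓ cm U F
  have hB : ⁅B, F⁆ ≤ U := commutator_le.2 fun a ha b hb => mem_cm.1 ha.2 b hb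
  have hUB : ⁅U, B⁆ = ⊥ := by
    rw [Subgroup.commutator_comm, commutator_eq_bot_iff_le_centralizer]
    exact inf_le_left
  have h2 : ⁅⁅B, B⁆, F⁆ = ⊥ := commutator_commutator_eq_bot_of_rotate
    (eq_bot_iff.2 ((commutator_mono hB le_rfl).trans hUB.le))
    (eq_bot_iff.2 ((commutator_mono (Subgroup.commutator_comm F B ▸ hB) le_rfl).trans hUB.le))
  have h3 := commutator_eq_bot_iff_le_centralizer.1 h2
  have h4 : ⁅B, B⁆ ≤ U := (le_inf ((le_inf ((commutator_le_left B B).trans inf_le_left) h3).trans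
    hCF) h3).trans (maxU F hFn UF le_rfl)
  have h5 := isNilpotent_of_commutator_commutator_eq_bot (D := B)
    (eq_bot_iff.2 ((commutator_mono h4 le_rfl).trans hUB.le))
  exact ⟨le_fitting h5 (⟨hg, mem_cm.2 h1⟩ : g ∈ B), hg⟩

namespace PD

variable {U F : Subgroup G}

omit [Finite G] [Finite W] in
theorem com (h : PD φ U F) {x u : G} (hx : x ∈ F) (hu : u ∈ U) : Commute x u :=
  (h.FC hx u hu).symm

omit [Finite G] [Finite W] in
theorem cmem (h : PD φ U F) {x y : G} (hx : x ∈ F) (hy : y ∈ F) : ⁅x, y⁆ ∈ U :=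
  h.comm (commutator_mem_commutator hx hy)

omit [Finite G] [Finite W] in
theorem inf_cent (h : PD φ U F) {N : Subgroup G} (hN : N.Normal) (h1 : U ≤ N) (h2 : N ≤ F) :
    N ⊓ centralizer (N : Set G) = U :=
  le_antisymm (h.maxU N hN h1 h2) (le_inf h1 (le_centralizer_iff.1 (h2.trans h.FC)))

omit [Finite W] in
theorem dual (h : PD φ U F) {N L : Subgroup G} (hN : N ≤ F) (hL : L ≤ F) :
    (centralizer (L : Set G)).relIndex N = (centralizer (N : Set G)).relIndex L := by
  have := h.cyc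
  letI : CommGroup U := IsCyclic.commGroup
  let β : N →* L →* U := MonoidHom.mk' (fun n => MonoidHom.mk'
    (fun l => ⟨⁅(n : G), (l : G)⁆, h.cmem (hN n.2) (hL l.2)⟩) fun a b => Subtype.ext
      (comm_mul_right (h.com (hL a.2) (h.cmem (hN n.2) (hL b.2))))) fun a b =>
      MonoidHom.ext fun l => Subtype.ext (comm_mul_left
        (h.com (hN a.2) (h.cmem (hN b.2) (hL l.2)))
        (h.com (h.UF (h.cmem (hN a.2) (hL l.2))) (h.cmem (hN b.2) (hL l.2))))
  have e := H1.index_ker_eq_index_ker_flip β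
  have e1 : β.ker = (centralizer (L : Set G)).subgroupOf N := by
    ext n
    rw [MonoidHom.mem_ker, mem_subgroupOf, mem_centralizer_iff, MonoidHom.ext_iff]
    exact ⟨fun h1 l hl => (commutatorElement_eq_one_iff_mul_comm.1
      (congrArg Subtype.val (h1 ⟨l, hl⟩))).symm, fun h1 l => Subtype.ext
        (commutatorElement_eq_one_iff_mul_comm.2 (h1 l l.2).symm)⟩
  have e2 : β.flip.ker = (centralizer (N : Set G)).subgroupOf L := by
    ext l
    rw [MonoidHom.mem_ker, mem_subgroupOf, mem_centralizer_iff, MonoidHom.ext_iff]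
    exact ⟨fun h1 n hn => commutatorElement_eq_one_iff_mul_comm.1
      (congrArg Subtype.val (h1 ⟨n, hn⟩)), fun h1 n => Subtype.ext
        (commutatorElement_eq_one_iff_mul_comm.2 (h1 n n.2))⟩
  rwa [e1, e2] at e

omit [Finite W] in
theorem relIndex_cent (h : PD φ U F) {L : Subgroup G} (hL : L ≤ F) :
    (centralizer (L : Set G)).relIndex F = U.relIndex L := by
  rw [h.dual le_rfl hL, ← h.inf_cent h.nF h.UF le_rfl, ← inf_relIndex_right (F ⊓ _) L,
    inf_right_comm, inf_eq_right.2 hL, inf_relIndex_left]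

omit [Finite G] [Finite W] in
theorem exists_comm_ne (h : PD φ U F) {x : G} (hx : x ∈ F) (hxU : x ∉ U) :
    ∃ y ∈ F, ⁅x, y⁆ ≠ 1 := by
  by_contra hne
  push Not at hne
  exact hxU (h.maxU F h.nF h.UF le_rfl ⟨hx, fun y hy =>
    (commutatorElement_eq_one_iff_mul_comm.1 (hne y hy)).symm⟩)

omit [Finite W] in
theorem cr (h : PD φ U F) {M : Type*} [CommGroup M] {ψ : G →* MulAut M} {π : F →* M}
    (hs : SecD (hM := h.nF) F U ψ π) : CR ψ := by
  have := h.nF
  intro K hK
  have hn := hs.pre_normal hK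
  set N := pre π K
  have h1 : U ≤ N := hs.le_pre h.UF K
  have h2 : N ≤ F := pre_le K
  set N' := F ⊓ centralizer (N : Set G)
  have h3 : N ⊓ N' = U := by
    rw [← inf_assoc, inf_eq_left.2 h2, h.inf_cent hn h1 h2]
  have h4 : N ⊔ N' = F := by
    refine eq_of_le_of_card_le (sup_le h2 inf_le_left) (le_of_eq ?_)
    have a1 := card_sup_mul_card_inf (H := N) (N := N') (by rw [normalizer_eq_top]; exact le_top)
    have a2 := card_inf_mul_relIndex (centralizer (N : Set G)) F
    rw [h.relIndex_cent h2, inf_comm] at a2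
    rw [h3, ← card_mul_relIndex h1] at a1
    refine Nat.eq_of_mul_eq_mul_right (Nat.card_pos (α := U)) ?_
    rw [a1, ← a2]; ring
  refine ⟨(N'.subgroupOf F).map π, hs.inv_map N', ?_, ?_⟩
  · rw [disjoint_def]
    rintro _ hx ⟨m, hm, rfl⟩
    exact (hs.ker m).2 (h3.le ⟨mem_pre.2 hx, hm⟩)
  · rw [codisjoint_iff, eq_top_iff]
    intro v _
    obtain ⟨m, rfl⟩ := hs.surj v
    obtain ⟨a, ha, b, hb, e⟩ := mem_sup_of_normal_right.1 (h4.ge m.2)
    have : m = ⟨a, h2 ha⟩ * ⟨b, hb.1⟩ := Subtype.ext e.symm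
    rw [this, map_mul]
    exact mul_mem (mem_sup_left (mem_pre.1 ha)) (mem_sup_right (mem_map_of_mem _ hb))

omit [Finite G] [Finite W] in
theorem ker_inf (h : PD φ U F) {M : Type*} [CommGroup M] {ψ : G →* MulAut M} {π : F →* M}
    (hs : SecD (hM := h.nF) F U ψ π) : ψ.ker ⊓ centralizer (U : Set G) = F := by
  have := h.nF
  have key : ∀ g m : G, m⁻¹ * (g * m * g⁻¹) ∈ U ↔ ⁅g, m⁆ ∈ U := fun g m => by
    rw [h.nU.mem_comm_iff, commutatorElement_def]
  refine le_antisymm (fun g hg => h.kerM g hg.2 fun x hx => (key g x).1 (hs.mem_ker.1 hg.1 x hx))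
    (le_inf (fun g hg => hs.mem_ker.2 fun m hm => (key g m).2 (h.cmem hg hm)) h.FC)

omit [Finite W] in
theorem dvd_card (h : PD φ U F) {r : ℕ} (hr : r.Prime) (hd : r ∣ U.relIndex F) :
    r ∣ Nat.card U := by
  have := Fact.mk hr
  have := h.nU
  obtain ⟨x, hx⟩ := exists_prime_orderOf_dvd_card' (G := F ⧸ U.subgroupOf F) r hd
  obtain ⟨x, rfl⟩ := QuotientGroup.mk_surjective x
  have h1 : (x : G) ∉ U := fun e => by
    rw [(QuotientGroup.eq_one_iff x).2 e, orderOf_one] at hx
    exact hr.one_lt.ne hx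
  have h2 : (x : G) ^ r ∈ U := by
    have := pow_orderOf_eq_one (x : F ⧸ U.subgroupOf F)
    rw [hx, ← QuotientGroup.mk_pow, QuotientGroup.eq_one_iff] at this
    exact this
  obtain ⟨y, hy, h3⟩ := h.exists_comm_ne x.2 h1
  have h4 : ⁅(x : G), y⁆ ^ r = 1 := by
    rw [← PGrp.commutatorElement_pow_left (h.com x.2 (h.cmem x.2 hy)).symm,
      commutatorElement_eq_one_iff_commute]
    exact (h.com hy h2).symm
  rw [← orderOf_eq_prime h4 h3]
  exact Subgroup.orderOf_dvd_natCard _ (h.cmem x.2 hy)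

theorem card_dvd (h : PD φ U F) : Nat.card U ∣ Nat.card W - 1 :=
  card_dvd_of_fpf (φ.comp U.subtype) fun u v hv e => Subtype.ext (h.fpf u u.2 v hv e)

omit [Finite G] in
theorem _root_.CfsgLib.SLin.ker_conjNormal (U : Subgroup G) [U.Normal] :
    (MulAut.conjNormal : G →* MulAut U).ker = centralizer (U : Set G) := by
  ext g
  rw [MonoidHom.mem_ker, mem_centralizer_iff, MulEquiv.ext_iff]
  refine ⟨fun h1 u hu => ?_, fun h1 u => Subtype.ext ?_⟩
  · have : g * u * g⁻¹ = u := congrArg Subtype.val (h1 ⟨u, hu⟩)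
    rw [mul_inv_eq_iff_eq_mul] at this
    exact this.symm
  · change g * u * g⁻¹ = u
    rw [← h1 u u.2, mul_inv_cancel_right]

omit [Finite W] in
theorem index_dvd (h : PD φ U F) :
    (centralizer (U : Set G)).index ∣ Nat.totient (Nat.card U) := by
  have := h.nU
  have := h.cyc
  rw [← ker_conjNormal, index_ker, ← IsCyclic.card_mulAut]
  exact card_subgroup_dvd_card _

omit [Finite G] [Finite W] in
theorem ds_one (h : PD φ U F) : ds ⊤ 1 ≤ centralizer (U : Set G) := by
  have := h.nU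
  have := h.cyc
  rw [← ker_conjNormal]
  refine ds_one_le fun a _ b _ => ?_
  rw [MonoidHom.mem_ker, map_commutatorElement, commutatorElement_eq_one_iff_mul_comm]
  apply (IsCyclic.mulAutMulEquiv U).injective
  rw [map_mul, map_mul, mul_comm]

omit [Finite G] [Finite W] in
theorem ds_le_F (h : PD φ U F) {M : Type*} [CommGroup M] {ψ : G →* MulAut M} {π : F →* M}
    (hs : SecD (hM := h.nF) F U ψ π) {k : ℕ} (hk : 1 ≤ k) (h1 : ds ⊤ k ≤ ψ.ker) :
    ds ⊤ k ≤ F := by
  rw [← h.ker_inf hs]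
  exact le_inf h1 ((ds_anti _ hk).trans h.ds_one)

omit [Finite G] [Finite W] in
theorem ds_top_le (h : PD φ U F) {k : ℕ} (h1 : ds ⊤ k ≤ F) : ds ⊤ (k + 2) ≤ φ.ker := by
  have h2 : ds ⊤ (k + 1) ≤ U := (commutator_mono h1 h1).trans h.comm
  refine le_trans (?_ : _ ≤ ⊥) bot_le
  refine (commutator_mono (h2.trans h.UF) h2).trans (le_of_eq ?_)
  exact commutator_eq_bot_iff_le_centralizer.2 h.FC

omit [Finite G] [Finite W] in
theorem ds_stab (h : PD φ U F) {k : ℕ} (h1 : ds ⊤ k ≤ F) {v : W} (hv : v ≠ 1) {T : Subgroup G}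
    (hT : ∀ g ∈ T, φ g v = v) : ds T (k + 1) ≤ φ.ker := by
  intro g hg
  have h2 : ds T k ≤ F := (ds_mono le_top k).trans h1
  rw [h.fpf g (((commutator_mono h2 h2).trans h.comm) hg) v hv (hT g (ds_le _ _ hg))]
  exact one_mem _

omit [Finite W] in
theorem card_le (h : PD φ U F) {M : Type*} [CommGroup M] {ψ : G →* MulAut M} {π : F →* M}
    (hs : SecD (hM := h.nF) F U ψ π) :
    F.relIndex (centralizer (U : Set G)) ∣ ψ.ker.index ∧
      Nat.card G = Nat.card U * U.relIndex F * F.relIndex (centralizer (U : Set G)) *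
        (centralizer (U : Set G)).index := by
  constructor
  · conv_lhs => rw [← h.ker_inf hs]
    rw [inf_relIndex_right]
    exact relIndex_dvd_index_of_normal _ _
  · rw [card_mul_relIndex h.UF, card_mul_relIndex h.FC, card_mul_index]

end PD

end CfsgLib.SLin
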