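import Cfsg.Agent.Lib.SLin.Prim

/-!
# Primitive solvable linear groups: dimension and fixed point bounds
-/

set_option autoImplicit false

namespace CfsgLib.SLin

open Subgroup Cfsg
open scoped commutatorElement

variable {G W : Type*} [Group G] [CommGroup W] {φ : G →* MulAut W}

/-- fixed points of an element -/
def fx (φ : G →* MulAut W) (g : G) : Subgroup W where
  carrier := {v | φ g v = v}
  one_mem' := map_one _
  mul_mem' {a b} ha hb := by
    simp only [Set.mem_setOf_eq] at ha hb ⊢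
    rw [map_mul, ha, hb]
  inv_mem' {a} ha := by
    simp only [Set.mem_setOf_eq] at ha ⊢
    rw [map_inv, ha]

theorem mem_fx {g : G} {v : W} : v ∈ fx φ g ↔ φ g v = v := Iff.rfl

/-- stabiliser of a vector -/
def stb (φ : G →* MulAut W) (v : W) : Subgroup G := (MulAction.stabilizer (MulAut W) v).comap φ

theorem mem_stb {g : G} {v : W} : g ∈ stb φ v ↔ φ g v = v := Iff.rfl

theorem card_fx_conj (a g : G) : Nat.card (fx φ (a * g * a⁻¹)) = Nat.card (fx φ g) := by
  rw [← card_map_of_injective (K := fx φ g) (f := (φ a).toMonoidHom) (φ a).injective]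
  congr 2
  ext v
  constructor
  · intro hv
    refine ⟨φ a⁻¹ v, ?_, act_act_inv φ a v⟩
    change φ g (φ a⁻¹ v) = φ a⁻¹ v
    conv_rhs => rw [← mem_fx.1 hv]
    rw [← act_mul, ← act_mul]
    congr 2
    group
  · rintro ⟨w, hw, rfl⟩
    change φ (a * g * a⁻¹) (φ a w) = φ a w
    rw [act_mul, act_inv_act, act_mul, mem_fx.1 hw]

theorem sq_fx_le [Finite W] (g x : G) :
    Nat.card (fx φ g) ^ 2 ≤ Nat.card W * Nat.card (fx φ ⁅g, x⁆) := by
  have h1 := card_sup_mul_card_inf (H := fx φ g) (N := fx φ (x * g * x⁻¹))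
    (by rw [normalizer_eq_top]; exact le_top)
  rw [card_fx_conj, ← pow_two] at h1
  rw [← h1]
  refine Nat.mul_le_mul (card_le_card_group _) (card_le_of_le fun v hv => ?_)
  have h2 : ⁅g, x⁆ = g * (x * g * x⁻¹)⁻¹ := by simp [commutatorElement_def, mul_assoc]
  exact (h2 ▸ (stb φ v).mul_mem hv.1 ((stb φ v).inv_mem hv.2) : ⁅g, x⁆ ∈ stb φ v)

theorem prod_card_le [Finite W] {ι : Type*} [Fintype ι] {P : ι → Subgroup W}
    (h : ∀ f : ι → W, (∀ i, f i ∈ P i) → ∏ i, f i = 1 → ∀ i, f i = 1) :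
    ∏ i, Nat.card (P i) ≤ Nat.card W := by
  let f : (∀ i, P i) →* W :=
    { toFun := fun w => ∏ i, (w i : W)
      map_one' := by simp
      map_mul' := fun a b => by simp [Finset.prod_mul_distrib] }
  have hf : Function.Injective f := (injective_iff_map_eq_one f).2 fun w hw =>
    funext fun i => Subtype.ext (h _ (fun i => (w i).2) hw i)
  rw [← Nat.card_pi]
  exact Nat.card_le_card_of_injective f hf

theorem sum_fx [Finite W] [Fintype W] [DecidableEq W] (s : Finset G) :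
    ∑ x ∈ s, (Nat.card (fx φ x) - 1) =
      ∑ w ∈ Finset.univ.erase (1 : W), (s.filter fun x => φ x w = w).card := by
  have h1 : ∀ x : G, Nat.card (fx φ x) - 1 =
      ((Finset.univ.erase (1 : W)).filter fun w => φ x w = w).card := by
    intro x
    rw [Finset.filter_erase, Finset.card_erase_of_mem (by simp), Nat.subtype_card]
    simp [mem_fx]
  simp_rw [h1, Finset.card_filter]
  exact Finset.sum_comm

theorem exists_inequiv [Finite G] [Finite W] (k : ℕ) : ∀ S : Set W, k * Nat.card G < S.ncard →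
    ∃ y : Fin (k + 1) → W, (∀ i, y i ∈ S) ∧ ∀ i j g, φ g (y i) = y j → i = j := by
  induction k with
  | zero =>
    intro S hS
    obtain ⟨v, hv⟩ := (Set.ncard_pos (Set.toFinite S)).1 (by omega)
    exact ⟨fun _ => v, fun _ => hv, fun i j _ _ => Subsingleton.elim (α := Fin 1) i j⟩
  | succ k ih =>
    intro S hS
    obtain ⟨v, hv⟩ := (Set.ncard_pos (Set.toFinite S)).1 (by omega)
    have h1 : (Set.range fun g => φ g v).ncard ≤ Nat.card G := by
      rw [← Set.image_univ, ← Set.ncard_univ]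
      exact Set.ncard_image_le
    have h2 := Set.le_ncard_diff (Set.range fun g => φ g v) S
    obtain ⟨y, h3, h4⟩ := ih (S \ Set.range fun g => φ g v) (by rw [add_mul] at hS; omega)
    refine ⟨Fin.cons v y, fun i => ?_, fun i j g => ?_⟩
    · refine Fin.cases hv (fun i => (h3 i).1) i
    · refine Fin.cases (Fin.cases (fun _ => rfl) (fun j e => ?_) j)
        (fun i => Fin.cases (fun e => ?_) (fun j e => ?_) j) i
      · exact absurd ⟨g, e⟩ (h3 j).2
      · refine absurd ⟨g⁻¹, ?_⟩ (h3 i).2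
        simp only [Fin.cons_succ, Fin.cons_zero] at e
        simp only
        rw [← e, act_inv_act]
      · exact congrArg Fin.succ (h4 i j g e)

namespace PD

variable [Finite G] [Finite W] {U F : Subgroup G}

omit [Finite G] [Finite W] in
theorem card_fx_U (h : PD φ U F) {u : G} (hu : u ∈ U) (hu1 : u ≠ 1) : Nat.card (fx φ u) = 1 := by
  rw [card_eq_one, eq_bot_iff]
  intro v hv
  by_contra hne
  exact hu1 (h.fpf u hu v hne hv)

omit [Finite G] in
theorem sq_fx_F (h : PD φ U F) {x : G} (hx : x ∈ F) (hxU : x ∉ U) :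
    Nat.card (fx φ x) ^ 2 ≤ Nat.card W := by
  obtain ⟨y, hy, h1⟩ := h.exists_comm_ne hx hxU
  have := sq_fx_le (φ := φ) x y
  rwa [h.card_fx_U (h.cmem hx hy) h1, mul_one] at this

omit [Finite G] in
theorem fx_four (h : PD φ U F) {g : G} (hg : g ≠ 1) :
    Nat.card (fx φ g) ^ 4 ≤ Nat.card W ^ 3 := by
  have h0 : 1 ≤ Nat.card W := Nat.card_pos
  have key : Nat.card (fx φ g) ^ 2 ≤ Nat.card W → Nat.card (fx φ g) ^ 4 ≤ Nat.card W ^ 3 := by
    intro h1
    calc Nat.card (fx φ g) ^ 4 = (Nat.card (fx φ g) ^ 2) ^ 2 := by ring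
      _ ≤ Nat.card W ^ 2 := Nat.pow_le_pow_left h1 2
      _ ≤ Nat.card W ^ 3 := Nat.pow_le_pow_right h0 (by omega)
  by_cases h1 : g ∈ U
  · rw [h.card_fx_U h1 hg, one_pow]; exact Nat.one_le_pow _ _ h0
  by_cases h2 : g ∈ F
  · exact key (h.sq_fx_F h2 h1)
  by_cases h3 : g ∈ centralizer (U : Set G)
  · obtain ⟨x, hx, h4⟩ : ∃ x ∈ F, ⁅g, x⁆ ∉ U := by
      by_contra hne
      push Not at hne
      exact h2 (h.kerM g h3 hne)
    have := h.nF
    have h5 := h.sq_fx_F (commutator_le_right ⊤ F (commutator_mem_commutator (mem_top g) hx)) h4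
    calc Nat.card (fx φ g) ^ 4 = (Nat.card (fx φ g) ^ 2) ^ 2 := by ring
      _ ≤ (Nat.card W * Nat.card (fx φ ⁅g, x⁆)) ^ 2 := Nat.pow_le_pow_left (sq_fx_le g x) 2
      _ = Nat.card W ^ 2 * Nat.card (fx φ ⁅g, x⁆) ^ 2 := by ring
      _ ≤ Nat.card W ^ 2 * Nat.card W := Nat.mul_le_mul_left _ h5
      _ = _ := by ring
  · obtain ⟨u, hu, h4⟩ : ∃ u ∈ U, u * g ≠ g * u := by
      by_contra hne
      push Not at hne
      exact h3 hne
    have := h.nU
    have h5 := sq_fx_le (φ := φ) g u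
    rw [h.card_fx_U (commutator_le_right ⊤ U (commutator_mem_commutator (mem_top g) hu))
      (fun e => h4 (commutatorElement_eq_one_iff_mul_comm.1 e).symm), mul_one] at h5
    exact key h5

omit [Finite G] in
theorem prod_fx_le (h : PD φ U F) {g : G} (hg : g ∈ centralizer (U : Set G)) {ι : Type*}
    [Fintype ι] {u : ι → G} (hu : ∀ i, u i ∈ U) (hi : Function.Injective u) :
    ∏ i, Nat.card (fx φ (g * u i)) ≤ Nat.card W := by
  refine prod_card_le fun f hf e i => indep (φ := φ) (fun i j hij => ?_) Finset.univ f hf e i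
    (Finset.mem_univ _)
  refine ⟨g * u i, fun v hv => hv, fun v hv e1 => ?_, fun k v hv => ?_⟩
  · by_contra hne
    have h1 : (g * u i)⁻¹ * (g * u j) ∈ stb φ v := (stb φ v).mul_mem ((stb φ v).inv_mem e1) hv
    rw [show (g * u i)⁻¹ * (g * u j) = (u i)⁻¹ * u j by group] at h1
    exact hij (hi (inv_mul_eq_one.1 (h.fpf _ (U.mul_mem (U.inv_mem (hu i)) (hu j)) v hne h1)))
  · have h1 : g * u k * (g * u i) = g * u i * (g * u k) := by
      have a1 := hg _ (hu k)
      have a2 := hg _ (hu i)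
      have a3 := (h.com (h.UF (hu k)) (hu i)).eq
      calc g * u k * (g * u i) = g * (u k * g) * u i := by group
        _ = g * g * (u k * u i) := by rw [a1]; group
        _ = g * (u i * g) * u k := by rw [a3, a2]; group
        _ = _ := by group
    rw [mem_fx, ← act_mul, h1, act_mul, mem_fx.1 hv]

theorem cube_fx (h : PD φ U F) (hodd : Odd (U.relIndex F)) {x : G} (hx : x ∈ F) (hxU : x ∉ U) :
    Nat.card (fx φ x) ^ 3 ≤ Nat.card W := by
  obtain ⟨y, hy, h1⟩ := h.exists_comm_ne hx hxU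
  have hz := h.cmem hy hx
  have h2 : ⁅y, x⁆ ≠ 1 := fun e => h1 (by rw [← commutatorElement_inv, e, inv_one])
  have h3 : 3 ≤ orderOf ⁅y, x⁆ := by
    have := h.nU
    have a1 : Odd (orderOf ⁅y, x⁆) := Odd.of_dvd_nat hodd (orderOf_dvd_of_pow_eq_one (by
      rw [← PGrp.commutatorElement_pow_right (h.com hx hz).symm,
        commutatorElement_eq_one_iff_commute]
      exact h.com hy (pow_relIndex_mem U hx)))
    have a2 : orderOf ⁅y, x⁆ ≠ 1 := fun e => h2 (orderOf_eq_one_iff.1 e)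
    obtain ⟨k, hk⟩ := a1
    omega
  have h4 := h.prod_fx_le (h.FC hx) (u := fun i : Fin 3 => ⁅y, x⁆ ^ (i : ℕ))
    (fun i => U.pow_mem hz i) (fun i j e => Fin.ext (pow_injOn_Iio_orderOf
      (Set.mem_Iio.2 (by omega)) (Set.mem_Iio.2 (by omega)) e))
  have h5 : ∀ i : ℕ, Nat.card (fx φ (x * ⁅y, x⁆ ^ i)) = Nat.card (fx φ x) := by
    intro i
    rw [← card_fx_conj (φ := φ) (y ^ i) x, (h.com hx (U.pow_mem hz i)).eq,
      ← PGrp.commutatorElement_pow_left (h.com hy hz).symm, commutatorElement_def,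
      inv_mul_cancel_right]
  simpa [h5, Finset.prod_const] using h4

theorem cube_fx' (h : PD φ U F) (hodd : Odd (U.relIndex F)) {g : G}
    (hg : g ∈ centralizer (U : Set G)) (hgU : g ∉ U) :
    Nat.card (fx φ g) ^ 3 ≤ Nat.card W ^ 2 := by
  have h0 : 1 ≤ Nat.card W := Nat.card_pos
  by_cases h2 : g ∈ F
  · exact (h.cube_fx hodd h2 hgU).trans (by nlinarith)
  · obtain ⟨x, hx, h4⟩ : ∃ x ∈ F, ⁅g, x⁆ ∉ U := by
      by_contra hne
      push Not at hne
      exact h2 (h.kerM g hg hne)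
    have := h.nF
    have h5 := h.cube_fx hodd
      (commutator_le_right ⊤ F (commutator_mem_commutator (mem_top g) hx)) h4
    refine (Nat.pow_le_pow_iff_left two_ne_zero).1 ?_
    calc (Nat.card (fx φ g) ^ 3) ^ 2 = (Nat.card (fx φ g) ^ 2) ^ 3 := by ring
      _ ≤ (Nat.card W * Nat.card (fx φ ⁅g, x⁆)) ^ 3 := Nat.pow_le_pow_left (sq_fx_le g x) 3
      _ = Nat.card W ^ 3 * Nat.card (fx φ ⁅g, x⁆) ^ 3 := by ring
      _ ≤ Nat.card W ^ 3 * Nat.card W := Nat.mul_le_mul_left _ h5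
      _ = _ := by ring

theorem exists_B [Nontrivial W] (h : PD φ U F) : ∃ (B : Subgroup G) (ρ : ℕ),
    (ρ = 1 ∨ ρ = 4) ∧ U.relIndex F = ρ * Nat.card B ^ 2 ∧
    (∃ W0 : Subgroup W, Nat.card W0 ^ Nat.card B ≤ Nat.card W ∧ W0 ≠ ⊥ ∧
      Nat.card U * ρ ∣ Nat.card W0 - 1 ∧ W0 = fixS φ B ∧ (ρ = 1 ∨
        ∃ x ∈ F ⊓ centralizer (B : Set G), ∃ y ∈ F ⊓ centralizer (B : Set G), ⁅x, y⁆ ≠ 1)) ∧
    ∃ v, v ≠ 1 ∧ F ⊓ stb φ v = B := by
  obtain ⟨B, -, h1, h2, h3⟩ := exists_max_fix (φ := φ) F ⊥ bot_le (by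
    have : fixS φ ⊥ = ⊤ := (eq_top_iff' _).2 fun v b hb => by rw [mem_bot.1 hb, act_one]
    rw [this]; exact top_ne_bot)
  obtain ⟨⟨v, hv⟩, hv1⟩ := ne_bot_iff_exists_ne_one.1 h2
  have hv1' : v ≠ 1 := fun e => hv1 (Subtype.ext e)
  have hBU : ∀ b ∈ B, b ∈ U → b = 1 := fun b hb hU => h.fpf b hU v hv1' (hv b hb)
  have hrel : U.relIndex B = Nat.card B := by
    rw [← inf_relIndex_right, (eq_bot_iff.2 fun b hb => hBU b hb.2 hb.1 : U ⊓ B = ⊥),
      relIndex_bot_left]
  set C := F ⊓ centralizer (B : Set G)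
  have hBC : B ≤ C := le_inf h1 fun a ha b hb => commutatorElement_eq_one_iff_mul_comm.1
    (hBU _ (commutator_le_self B (commutator_mem_commutator hb ha)) (h.cmem (h1 hb) (h1 ha)))
  have hUC : U ≤ C := le_inf h.UF (le_centralizer_iff.1 (h1.trans h.FC))
  have hCF : Nat.card C * Nat.card B = Nat.card F := by
    rw [← card_inf_mul_relIndex (centralizer (B : Set G)) F, h.relIndex_cent h1, hrel, inf_comm]
  have := h.nU
  set L := B ⊔ U
  have hL : Nat.card L = Nat.card B * Nat.card U :=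
    card_sup_of_disjoint (by rw [normalizer_eq_top]; exact le_top)
      (eq_bot_iff.2 fun b hb => hBU b hb.1 hb.2)
  have hLC : L ≤ C := sup_le hBC hUC
  have hLcc : L ≤ centralizer (C : Set G) := le_centralizer_iff.1 (by
    refine le_centralizer_iff.1 (sup_le ?_ ?_)
    · exact le_centralizer_iff.1 inf_le_right
    · exact le_centralizer_iff.1 (inf_le_left.trans h.FC))
  have hcc : F ⊓ centralizer (C : Set G) = L := by
    refine (eq_of_le_of_card_le (le_inf (hLC.trans inf_le_left) hLcc) (le_of_eq ?_)).symm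
    have a1 := card_inf_mul_relIndex (centralizer (C : Set G)) F
    rw [h.relIndex_cent inf_le_left, inf_comm, ← hCF, ← card_mul_relIndex hUC] at a1
    have a2 : 0 < U.relIndex C := Nat.pos_of_ne_zero fun e => by
      have := card_mul_relIndex hUC
      rw [e, mul_zero] at this
      exact Nat.card_pos.ne this
    refine Nat.eq_of_mul_eq_mul_right a2 ?_
    rw [a1, hL]; ring
  -- the quotient `C/B`
  have hBn : (B.subgroupOf C).Normal := by
    refine ⟨fun b hb g => ?_⟩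
    rw [mem_subgroupOf] at hb ⊢
    have : (g : G) * b * (g : G)⁻¹ = b := by rw [← g.2.2 b hb, mul_inv_cancel_right]
    change (g : G) * b * (g : G)⁻¹ ∈ B
    rwa [this]
  have hinv : InvBy φ C (fixS φ B) := fun a ha =>
    invBy_normalizer B a (centralizer_le_normalizer _ ha.2)
  let χ : C ⧸ B.subgroupOf C →* MulAut (fixS φ B) :=
    QuotientGroup.lift _ (res φ C _ hinv) fun b hb => (mem_ker_res hinv).2 fun w hw => hw b hb
  have hχ : ∀ g w, w ≠ 1 → χ g w = w → g = 1 := by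
    intro g w hw e
    obtain ⟨g, rfl⟩ := QuotientGroup.mk_surjective g
    exact (QuotientGroup.eq_one_iff g).2 (h3 g g.2.1 w w.2 (fun e => hw (Subtype.ext e))
      (congrArg Subtype.val e))
  have := (nontrivial_iff_ne_bot _).2 h2
  have hZ : ∀ g : C, (g : C ⧸ B.subgroupOf C) ∈ center _ ↔ (g : G) ∈ L := by
    intro g
    rw [mem_center_iff, ← hcc]
    constructor
    · refine fun h4 => ⟨g.2.1, fun x hx => commutatorElement_eq_one_iff_mul_comm.1
        (hBU _ ?_ (h.cmem hx.1 g.2.1))⟩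
      have := commutatorElement_eq_one_iff_mul_comm.2 (h4 ((⟨x, hx⟩ : C) : C ⧸ _))
      rw [← QuotientGroup.mk'_apply, ← QuotientGroup.mk'_apply, ← map_commutatorElement,
        QuotientGroup.mk'_apply, QuotientGroup.eq_one_iff] at this
      exact this
    · intro h4 x
      obtain ⟨x, rfl⟩ := QuotientGroup.mk_surjective x
      rw [← QuotientGroup.mk_mul, ← QuotientGroup.mk_mul]
      exact congrArg _ (Subtype.ext (h4.2 x x.2))
  have hcy : Cy2 (C ⧸ B.subgroupOf C) := by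
    refine ⟨fun x y => ?_, fun S hS => isCyclic_of_fpf χ hS fun u _ => hχ u⟩
    obtain ⟨x, rfl⟩ := QuotientGroup.mk_surjective x
    obtain ⟨y, rfl⟩ := QuotientGroup.mk_surjective y
    rw [← QuotientGroup.mk'_apply, ← QuotientGroup.mk'_apply, ← map_commutatorElement,
      QuotientGroup.mk'_apply, hZ]
    exact mem_sup_right (h.cmem x.2.1 y.2.1)
  have hρ : (center (C ⧸ B.subgroupOf C)).index = L.relIndex C := by
    rw [← index_comap_of_surjective _ (QuotientGroup.mk'_surjective _)]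
    congr 1
    ext g
    exact hZ g
  have hC := card_mul_relIndex hLC
  have hb : 0 < Nat.card B := Nat.card_pos
  refine ⟨B, L.relIndex C, hρ ▸ hcy.index_center, ?_, ⟨fixS φ B, ?_, h2, ?_, rfl, ?_⟩, v, hv1',
    le_antisymm (fun x hx => h3 x hx.1 v hv hv1' hx.2) (le_inf h1 fun b hb => hv b hb)⟩
  · refine Nat.eq_of_mul_eq_mul_left (Nat.card_pos (α := U)) ?_
    rw [card_mul_relIndex h.UF, ← hCF, ← hC, hL]; ring
  · have hLn : (L.subgroupOf F).Normal := by
      refine ⟨fun l hl g => ?_⟩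
      rw [mem_subgroupOf] at hl ⊢
      have : (g : G) * l * (g : G)⁻¹ = ⁅(g : G), (l : G)⁆ * l := by simp [commutatorElement_def]
      change (g : G) * l * (g : G)⁻¹ ∈ L
      rw [this]
      exact L.mul_mem (mem_sup_right (h.cmem g.2 l.2)) hl
    have := Fintype.ofFinite (F ⧸ normalizer ((B.subgroupOf F : Subgroup F) : Set F))
    have e1 : fixS (φ.comp F.subtype) (B.subgroupOf F) = fixS φ B := by
      ext w
      exact ⟨fun h4 b hb => h4 ⟨b, h1 hb⟩ hb, fun h4 b hb => h4 b hb⟩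
    have h4 := card_pow_le (pim_injective_of_max (φ := φ.comp F.subtype) (L := L.subgroupOf F)
      (B := B.subgroupOf F) (fun a ha b hb => Subtype.ext (hLcc hb a (hLC ha)))
      (comap_mono le_sup_left) (fun x _ w hw hw1 e => h3 x x.2 w (e1 ▸ hw) hw1 e))
    have e2 : normalizer ((B.subgroupOf F : Subgroup F) : Set F) =
        (centralizer (B : Set G)).subgroupOf F := by
      refine le_antisymm (fun g hg b hb => ?_) fun g hg => mem_normalizer_of_conj_mem fun b hb => ?_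
      · refine (commutatorElement_eq_one_iff_mul_comm.1 (hBU _ ?_ (h.cmem g.2 (h1 hb)))).symm
        exact B.mul_mem (conj_mem_of_mem_normalizer hg (x := ⟨b, h1 hb⟩) hb) (B.inv_mem hb)
      · rw [mem_subgroupOf] at hb ⊢
        have h5 : (b : G) * g = g * b := hg b hb
        change (g : G) * b * (g : G)⁻¹ ∈ B
        rwa [← h5, mul_inv_cancel_right]
    rw [e1, e2] at h4
    rwa [← hrel, ← h.relIndex_cent h1]
  · have h4 := card_dvd_of_fpf χ hχ
    have h5 : Nat.card B * Nat.card (C ⧸ B.subgroupOf C) = Nat.card C := card_mul_relIndex hBC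
    rw [← hC, hL, mul_assoc] at h5
    rwa [Nat.eq_of_mul_eq_mul_left hb h5] at h4
  · refine or_iff_not_imp_right.2 fun hne => relIndex_eq_one.2 fun y hy => hcc.le ⟨hy.1, ?_⟩
    push Not at hne
    exact fun x hx => commutatorElement_eq_one_iff_mul_comm.1 (hne x hx y hy)

omit [Finite G] [Finite W] in
theorem eq_bot_of_cyclic (h : PD φ U F) {M : Type*} [CommGroup M] {ψ : G →* MulAut M}
    {π : F →* M} (hs : SecD (hM := h.nF) F U ψ π) {K : Subgroup M} (hK : Inv ψ K)
    (hc : IsCyclic K) : K = ⊥ := by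
  have := h.nF
  obtain ⟨⟨k, hk⟩, h1⟩ := IsCyclic.exists_generator (α := K)
  obtain ⟨x, rfl⟩ := hs.surj k
  have h2 : ∀ m ∈ pre π K, ∃ (i : ℤ), ∃ u ∈ U, m = x ^ i * u := by
    rintro _ ⟨m, hm, rfl⟩
    obtain ⟨i, hi⟩ := mem_zpowers_iff.1 (h1 ⟨π m, hm⟩)
    have h3 : π (x ^ i) = π m := by rw [map_zpow]; exact congrArg Subtype.val hi
    exact ⟨i, _, hs.eq_iff.1 h3, by simp⟩
  refine hs.eq_bot_of_pre fun a ha =>
    h.maxU _ (hs.pre_normal hK) (hs.le_pre h.UF K) (pre_le K) ⟨ha, fun b hb => ?_⟩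
  obtain ⟨i, u, hu, e⟩ := h2 b hb
  rw [e]
  refine (Commute.mul_left ?_ (h.com (pre_le K ha) hu).symm).eq
  obtain ⟨j, t, ht, rfl⟩ := h2 a ha
  exact ((Commute.refl _).zpow_zpow _ _).mul_right (h.com (F.zpow_mem x.2 i) ht)

/-- numerical data -/
theorem exists_e [Nontrivial W] (h : PD φ U F) : ∃ e b q : ℕ, U.relIndex F = e ^ 2 ∧ 1 ≤ b ∧
    (e = b ∧ Nat.card U ∣ q - 1 ∨ e = 2 * b ∧ 4 * Nat.card U ∣ q - 1) ∧ 1 < q ∧
    q ∣ Nat.card W ∧ q ^ b ≤ Nat.card W ∧ (∀ r, r.Prime → r ∣ e → r ∣ Nat.card U) ∧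
    ∃ v, v ≠ 1 ∧ Nat.card (F ⊓ stb φ v : Subgroup G) = b := by
  obtain ⟨B, ρ, h1, h2, ⟨W0, h3, h4, h5, -⟩, v, h6, h7⟩ := h.exists_B
  have h8 : 1 < Nat.card W0 := (one_lt_card_iff_ne_bot _).2 h4
  have h9 : ∀ e, U.relIndex F = e ^ 2 → ∀ r, r.Prime → r ∣ e → r ∣ Nat.card U :=
    fun e he r hr hd => h.dvd_card hr (he ▸ dvd_pow hd two_ne_zero)
  rcases h1 with rfl | rfl
  · rw [one_mul] at h2
    rw [mul_one] at h5
    exact ⟨_, _, _, h2, Nat.card_pos, Or.inl ⟨rfl, h5⟩, h8, card_subgroup_dvd_card _, h3, h9 _ h2,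
      v, h6, by rw [h7]⟩
  · have h10 : U.relIndex F = (2 * Nat.card B) ^ 2 := by rw [h2]; ring
    rw [mul_comm] at h5
    exact ⟨_, _, _, h10, Nat.card_pos, Or.inr ⟨rfl, h5⟩, h8, card_subgroup_dvd_card _, h3,
      h9 _ h10, v, h6, by rw [h7]⟩

end PD

end CfsgLib.SLin
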