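import Cfsg.Agent.Lib.SLin.Fld
import Cfsg.Agent.Lib.SLin.Cp

/-!
# Small cases: orders of some small linear and permutation groups
-/

set_option autoImplicit false

namespace CfsgLib.SLin

open Subgroup Cfsg
open scoped commutatorElement

universe u

section gen
variable {A V : Type*} [Group A] [CommGroup V]

theorem relIndex_stb_le [Finite V] (φ : A →* MulAut V) (S : Subgroup A) (v : V) {T : Set V}
    (h : ∀ g ∈ S, φ g v ∈ T) : (stb φ v).relIndex S ≤ T.ncard := by
  letI := MulAction.compHom V (φ.comp S.subtype)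
  have h1 : (stb φ v).subgroupOf S = MulAction.stabilizer S v := rfl
  rw [relIndex, h1, MulAction.index_stabilizer]
  refine Set.ncard_le_ncard ?_
  rintro _ ⟨g, rfl⟩
  exact h g g.2

theorem index_dvd_fact [Finite V] (φ : A →* MulAut V) :
    φ.ker.index ∣ (Nat.card V - 1).factorial := by
  classical
  letI : MulAction A {v : V // v ≠ 1} :=
    { smul := fun g v => ⟨φ g v, fun e => v.2 ((φ g).injective (e.trans (map_one _).symm))⟩
      one_smul := fun v => Subtype.ext (act_one φ _)
      mul_smul := fun a b v => Subtype.ext (act_mul φ _ _ _) }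
  have h1 : Nat.card {v : V // v ≠ 1} = Nat.card V - 1 := by
    have := Fintype.ofFinite V
    simp [Nat.card_eq_fintype_card]
  rw [← h1, ← Nat.card_perm]
  refine (index_dvd_of_le (H := (MulAction.toPermHom A {v : V // v ≠ 1}).ker)
    fun g hg => mem_ker_iff.2 fun v => ?_).trans (by rw [index_ker]; exact card_subgroup_dvd_card _)
  by_cases hv : v = 1
  · rw [hv, map_one]
  · exact congrArg Subtype.val (Equiv.congr_fun hg ⟨v, hv⟩)

theorem index_perm_le {X Ω : Type*} [Group X] [MulAction X Ω] [Finite Ω] :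
    (MulAction.toPermHom X Ω).ker.index ≤ (Nat.card Ω).factorial := by
  rw [index_ker, ← Nat.card_perm]
  exact card_le_card_group _

end gen

/-- bounds for completely reducible solvable groups on modules of order dividing 16 -/
def Ob (n : ℕ) : ℕ := if n ≤ 2 then 1 else if n = 4 then 6 else if n = 8 then 42 else 120

theorem o16 (V A : Type u) [CommGroup V] [Finite V] [Group A] [Finite A] [Group.IsSolvable A]
    (φ : A →* MulAut V) (h : CR φ) : Nat.card V ∣ 16 → φ.ker.index ≤ Ob (Nat.card V) := by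
  refine cr_induction (P := fun V A _ _ _ _ φ => Nat.card V ∣ 16 → φ.ker.index ≤ Ob (Nat.card V))
    (fun V A _ _ _ _ φ h1 h2 => index_ker_range φ ▸ h1 h2)
    (fun V A _ _ _ _ _ φ hφ hcr ih hN => ?_) V A φ h
  by_cases h2 : Nat.card V ≤ 4
  · have h3 := Nat.le_of_dvd (Nat.factorial_pos _) (index_dvd_fact φ)
    generalize Nat.card V = n at *
    interval_cases n <;> first | exact h3 | omega
  have : Nontrivial V := Finite.one_lt_card_iff_nontrivial.1 (by omega)
  have h3 : Nat.card V = 8 ∨ Nat.card V = 16 := by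
    have := Nat.le_of_dvd (by decide) hN
    generalize Nat.card V = n at *
    interval_cases n <;> omega
  rcases hcr.irr_or with hirr | ⟨W, W', h5, h6, h7, h8, h9, h10⟩
  · rcases hirr.sys_or hφ with ⟨H, _, W, h5, h6, h7, h8, h9, h10⟩ | ⟨U, F, h5⟩
    · have a0 : Nat.card W ∣ 16 := (card_subgroup_dvd_card W).trans hN
      have a1 := ih W H _ h9 (h6.irr hirr).cr a0
      refine h6.index_le.trans ((Nat.mul_le_mul (Nat.pow_le_pow_left a1 _) index_perm_le).trans ?_)
      change _ * H.index.factorial ≤ _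
      have a2 := h6.card
      have a3 : H.index ≤ 4 := by
        by_contra a4
        have := (Nat.pow_le_pow_right (show 0 < 2 by omega) (not_le.1 a4)).trans
          (Nat.pow_le_pow_left h7 _)
        omega
      have a4 : Nat.card W ≤ 4 := by
        by_contra a5
        have := (Nat.pow_le_pow_left (show 5 ≤ _ from not_le.1 a5) 2).trans
          (Nat.pow_le_pow_right (by omega) h8)
        omega
      rw [a2] at h3 ⊢
      generalize Nat.card W = n at *
      generalize H.index = t at *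
      interval_cases n <;> interval_cases t <;> first | decide | omega
    · obtain ⟨M, _, _, ψ, π, e, b, q, hs, -, h7, -, h8, -⟩ := h5.exists_nd
      have h11 : e = 1 := by
        by_contra hne
        have h12 : 2 ≤ e := by have := h8.e_pos; omega
        have h13 := h8.three_pow h12
        have h14 : e = 2 := by
          by_contra h15
          have := Nat.pow_le_pow_right (show 0 < 3 by omega) (show 3 ≤ e by omega)
          omega
        have := (h8.primes 2 Nat.prime_two (h14 ▸ dvd_rfl)).trans h8.udvd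
        omega
      have h12 := h5.cent_eq hs (by rw [h7, h11]; rfl)
      have h13 := Nat.le_of_dvd (Nat.totient_pos.2 Nat.card_pos) h5.index_dvd
      rw [h12] at h13
      rw [index_ker_of_inj hφ, ← U.card_mul_index]
      refine (Nat.mul_le_mul_left _ h13).trans ?_
      have h14 := h8.udvd
      have h15 := Nat.le_of_dvd (by omega) h14
      generalize Nat.card U = u at *
      rcases h3 with h3 | h3 <;> rw [h3] at h14 h15 ⊢ <;> interval_cases u <;>
        first | decide | omega
  · have b1 : Nat.card W ∣ 16 := (card_subgroup_dvd_card W).trans hN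
    have b2 : Nat.card W' ∣ 16 := (card_subgroup_dvd_card W').trans hN
    have a1 := ih W A _ (by nlinarith) (hcr.resT h5) b1
    have a2 := ih W' A _ (by nlinarith) (hcr.resT h6) b2
    refine (index_le_of_isCompl h5 h6 h7).trans ((Nat.mul_le_mul a1 a2).trans ?_)
    rw [← h10] at h3 ⊢
    have b3 : Nat.card W ≤ 8 := by rcases h3 with h3 | h3 <;> nlinarith
    have b4 : Nat.card W' ≤ 8 := by rcases h3 with h3 | h3 <;> nlinarith
    generalize Nat.card W = m at *
    generalize Nat.card W' = n at *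
    interval_cases m <;> interval_cases n <;> first | decide | omega

theorem PD.x_le_prime {G W M : Type*} [Group G] [Finite G] [CommGroup W] {φ : G →* MulAut W}
    {U F : Subgroup G} (h : PD φ U F) [CommGroup M] [Finite M] {ψ : G →* MulAut M} {π : F →* M}
    (hs : SecD (hM := h.nF) F U ψ π) {e : ℕ} (he : e.Prime) (hM : Nat.card M = e ^ 2) :
    F.relIndex (centralizer (U : Set G)) ≤ e * (e ^ 2 - 1) := by
  have := h.nF
  have h1 : 1 < e ^ 2 := Nat.one_lt_pow two_ne_zero he.one_lt
  have : Nontrivial M := Finite.one_lt_card_iff_nontrivial.1 (hM ▸ h1)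
  obtain ⟨m, hm⟩ := exists_ne (1 : M)
  obtain ⟨x, rfl⟩ := hs.surj m
  obtain ⟨y, hy, hxy⟩ := h.exists_comm_ne x.2 fun e => hm ((hs.ker x).2 e)
  set C := centralizer (U : Set G)
  set D := ((centralizer ({(x : G)} : Set G)).subgroupOf F).map π
  have hyD : π ⟨y, hy⟩ ∉ D := by
    rintro ⟨c, hc, e1⟩
    have h2 : Commute (x : G) c := hc x rfl
    have h3 := h2.mul_right (h.com x.2 (hs.eq_iff.1 e1))
    rw [mul_inv_cancel_left] at h3
    exact hxy (commutatorElement_eq_one_iff_commute.2 h3)
  have hsub : ∀ K : Subgroup M, K = ⊥ ∨ Nat.card K = e ∨ K = ⊤ := by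
    intro K
    obtain ⟨i, hi, h2⟩ := (Nat.dvd_prime_pow he).1 (hM ▸ card_subgroup_dvd_card K)
    interval_cases i
    · exact Or.inl (card_eq_one.1 h2)
    · exact Or.inr (Or.inl (h2.trans (pow_one e)))
    · exact Or.inr (Or.inr ((card_eq_iff_eq_top K).1 (h2.trans hM.symm)))
  have hxD : π x ∈ D := mem_map_of_mem _ fun _ e => by rw [e]; rfl
  have hD : Nat.card D = e := by
    rcases hsub D with e1 | e1 | e1
    · exact absurd (mem_bot.1 (e1 ▸ hxD)) hm
    · exact e1
    · exact absurd (e1 ▸ mem_top _) hyD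
  have a1 : (stb ψ (π x)).relIndex C ≤ e ^ 2 - 1 := by
    refine (relIndex_stb_le ψ C (π x) (T := {1}ᶜ) fun g _ e =>
      hm ((ψ g).injective (e.trans (map_one _).symm))).trans (le_of_eq ?_)
    rw [Set.ncard_compl, Set.ncard_singleton, hM]
  have a2 : (stb ψ (π ⟨y, hy⟩)).relIndex (stb ψ (π x) ⊓ C) ≤ e := by
    refine (relIndex_stb_le ψ _ _ (T := (fun d => π ⟨y, hy⟩ * d) '' D) fun g hg => ?_).trans ?_
    · rw [hs.act]
      refine ⟨π (⟨y, hy⟩⁻¹ * ⟨g * y * g⁻¹, h.nF.conj_mem _ hy g⟩), mem_map_of_mem _ ?_, by simp⟩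
      have h2 : g ∈ stb ψ (π x) := hg.1
      rw [mem_stb, hs.act, eq_comm, hs.eq_iff] at h2
      have h3 : g * ⁅(x : G), y⁆ * g⁻¹ = ⁅(x : G), y⁆ := by
        rw [← hg.2 _ (h.cmem x.2 hy), mul_inv_cancel_right]
      have h4 := (h.com (h.nF.conj_mem _ hy g) h2).eq
      rintro _ rfl
      change (x : G) * (y⁻¹ * (g * y * g⁻¹)) = y⁻¹ * (g * y * g⁻¹) * x
      change g * y * g⁻¹ * ((x : G)⁻¹ * (g * x * g⁻¹)) = (x : G)⁻¹ * (g * x * g⁻¹) * (g * y * g⁻¹)
        at h4
      have h5 := (h.com x.2 h2).eq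
      change (x : G) * ((x : G)⁻¹ * (g * x * g⁻¹)) = (x : G)⁻¹ * (g * x * g⁻¹) * x at h5
      have h6 : ⁅(x : G), g * y * g⁻¹⁆ = ⁅(x : G), y⁆ := by
        rw [← h3]
        calc ⁅(x : G), g * y * g⁻¹⁆ = x * (g * y * g⁻¹ * ((x : G)⁻¹ * (g * x * g⁻¹))) *
              (g * (x : G)⁻¹ * y⁻¹ * g⁻¹) := by simp [commutatorElement_def, mul_assoc]
          _ = _ := by rw [h4]; simp [commutatorElement_def, mul_assoc]
      have h7 : y⁻¹ * (g * y * g⁻¹) * (x : G)⁻¹ = (x : G)⁻¹ * (y⁻¹ * (g * y * g⁻¹)) := by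
        calc _ = y⁻¹ * (x : G)⁻¹ * ⁅(x : G), g * y * g⁻¹⁆ * (g * y * g⁻¹) := by
              simp [commutatorElement_def, mul_assoc]
          _ = _ := by rw [h6]; simp [commutatorElement_def, mul_assoc]
      exact (Commute.inv_left_iff.1 (show Commute (x : G)⁻¹ _ from h7.symm)).eq
    · rw [← hD]
      exact Set.ncard_image_le
  have a3 : stb ψ (π ⟨y, hy⟩) ⊓ (stb ψ (π x) ⊓ C) ≤ F := by
    intro g hg
    rw [← h.ker_inf hs]
    refine ⟨mem_ker_iff.2 fun v => ?_, hg.2.2⟩
    rcases hsub (fx ψ g) with e1 | e1 | e1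
    · exact absurd (mem_bot.1 (e1 ▸ (hg.2.1 : π x ∈ fx ψ g))) hm
    · refine absurd ?_ hyD
      rcases hsub (fx ψ g ⊓ D) with e2 | e2 | e2
      · exact absurd (mem_bot.1 (e2 ▸ (⟨hg.2.1, hxD⟩ : π x ∈ fx ψ g ⊓ D))) hm
      · exact ((eq_of_le_of_card_le inf_le_left (e1.trans e2.symm).le).ge hg.1).2
      · exact (e2.ge (mem_top _)).2
    · exact (e1.ge (mem_top v) : v ∈ fx ψ g)
  refine le_trans (relIndex_le_of_le_left a3 index_ne_zero_of_finite) ?_
  rw [← inf_assoc, inf_relIndex_right, ← relIndex_inf_mul_relIndex]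
  exact Nat.mul_le_mul a2 a1

section aff
variable {A : Type u} [Group A] {H : Subgroup A}

theorem AffD.index_perm_le [Finite A] {V : Type u} [CommGroup V] {ψ : A →* MulAut V}
    {β : (A ⧸ H) ≃ V} {r d : ℕ} (h : AffD H ψ β r d) :
    (MulAction.toPermHom A (A ⧸ H)).ker.index ≤ H.index * ψ.ker.index := by
  refine le_trans (Nat.le_of_dvd (Nat.pos_of_ne_zero index_ne_zero_of_finite)
    (index_dvd_of_le fun g hg => Equiv.ext fun ω => β.injective ?_)) index_inf_le
  have h1 : β ((1 : A) : A ⧸ H) = 1 := by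
    have := h.act 1 ((1 : A) : A ⧸ H)
    rw [one_smul, act_one] at this
    exact left_eq_mul.1 this
  change β (g • ω) = β ω
  rw [h.act, mem_ker_iff.1 hg.2, (QuotientGroup.eq (b := (1 : A))).2 (by simpa using hg.1), h1,
    one_mul]

theorem perm_sq_le [Finite A] [Group.IsSolvable A] (hH : IsCoatom H) :
    10 * (MulAction.toPermHom A (A ⧸ H)).ker.index ^ 2 * 11 ^ 2 ≤ 59 * 11 ^ H.index := by
  have h2 : 2 ≤ H.index := by
    have a1 : H.index ≠ 1 := fun e => hH.1 (index_eq_one.1 e)
    have a2 : H.index ≠ 0 := index_ne_zero_of_finite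
    omega
  by_cases h4 : H.index ≤ 4
  · have h1 : _ ≤ H.index.factorial := index_perm_le (X := A) (Ω := A ⧸ H)
    refine (Nat.mul_le_mul_right _ (Nat.mul_le_mul_left _ (Nat.pow_le_pow_left h1 2))).trans ?_
    generalize H.index = t at *
    interval_cases t <;> decide
  obtain ⟨V, _, _, ψ, β, r, d, h⟩ := exists_affD hH
  have h1 := h.index_perm_le
  by_cases h5 : H.index = 5
  · have := Fact.mk Nat.prime_five
    have h6 := h.index.symm.trans h5
    have := isCyclic_of_prime_card h6
    have h7 : ψ.ker.index ≤ 4 := by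
      rw [index_ker]
      refine (card_le_card_group _).trans ?_
      rw [IsCyclic.card_mulAut, h6]; decide
    rw [h5] at h1 ⊢
    have := Nat.pow_le_pow_left (h1.trans (Nat.mul_le_mul_left _ h7)) 2
    omega
  have h6 := pw V A ψ h.irr.cr (Finite.one_lt_card_iff_nontrivial.1 (h.index ▸ h2))
  rw [← h.index] at h6
  obtain ⟨t, ht⟩ : ∃ t, H.index = 6 + t := ⟨H.index - 6, by omega⟩
  have h7 := grow (k := 8) (e0 := 6) (c := 11) (A := 2000000) (by norm_num) (by norm_num)
    (by norm_num) (by norm_num) t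
  have h8 : (5 * (MulAction.toPermHom A (A ⧸ H)).ker.index) ^ 2 ≤ (6 + t) ^ 8 := by
    rw [← ht]
    calc _ ≤ (H.index * H.index ^ 3) ^ 2 := Nat.pow_le_pow_left (by nlinarith) 2
      _ = _ := by ring
  rw [ht, pow_add]
  rw [mul_pow] at h8
  omega

end aff

end CfsgLib.SLin
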