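import Cfsg.Agent.Lib.SLin.Basic

/-!
# Systems of imprimitivity
-/

set_option autoImplicit false

namespace CfsgLib.SLin

open Subgroup
open scoped commutatorElement

variable {A V : Type*} [Group A] [CommGroup V]

theorem indep {ι : Type*} {φ : A →* MulAut V} {W : ι → Subgroup V}
    (h : ∀ i j, i ≠ j → ∃ x : A, (∀ v ∈ W i, φ x v = v) ∧ (∀ v ∈ W j, φ x v = v → v = 1) ∧
      ∀ k, ∀ v ∈ W k, φ x v ∈ W k) (s : Finset ι) :
    ∀ f : ι → V, (∀ i, f i ∈ W i) → ∏ i ∈ s, f i = 1 → ∀ i ∈ s, f i = 1 := by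
  classical
  induction s using Finset.induction_on with
  | empty => intro f _ _ i hi; simp at hi
  | insert a s ha ih =>
    intro f hf h1
    have h2 : ∀ j ∈ s, f j = 1 := by
      intro j hj
      obtain ⟨x, h3, h4, h5⟩ := h a j (fun e => ha (e ▸ hj))
      have h6 : ∏ i ∈ insert a s, (f i)⁻¹ * φ x (f i) = 1 := by
        rw [Finset.prod_mul_distrib, Finset.prod_inv_distrib, ← map_prod, h1, map_one, inv_one,
          one_mul]
      rw [Finset.prod_insert ha, h3 _ (hf a), inv_mul_cancel, one_mul] at h6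
      have h7 := ih _ (fun i => mul_mem (inv_mem (hf i)) (h5 i _ (hf i))) h6 j hj
      exact h4 _ (hf j) (inv_mul_eq_one.1 h7).symm
    rw [Finset.prod_insert ha, Finset.prod_eq_one h2, mul_one] at h1
    intro i hi
    rcases Finset.mem_insert.1 hi with rfl | hi
    · exact h1
    · exact h2 i hi

/-- the cocycle of the chosen transversal -/
noncomputable def coc (H : Subgroup A) (g : A) (ω : A ⧸ H) : H :=
  ⟨(g • ω).out⁻¹ * g * ω.out, by
    rw [mul_assoc, ← QuotientGroup.eq, QuotientGroup.out_eq', ← smul_eq_mul,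
      ← MulAction.Quotient.smul_mk, QuotientGroup.out_eq']⟩

theorem coc_val (H : Subgroup A) (g : A) (ω : A ⧸ H) :
    (coc H g ω : A) = (g • ω).out⁻¹ * g * ω.out := rfl

/-- the product map of a system of imprimitivity -/
noncomputable def pim (φ : A →* MulAut V) (H : Subgroup A) [Fintype (A ⧸ H)] (W : Subgroup V) :
    (A ⧸ H → W) →* V where
  toFun w := ∏ ω, φ ω.out (w ω)
  map_one' := by simp
  map_mul' a b := by simp [Finset.prod_mul_distrib]

variable {φ : A →* MulAut V} {H : Subgroup A} [Fintype (A ⧸ H)] {W : Subgroup V}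

theorem pim_apply (w : A ⧸ H → W) : pim φ H W w = ∏ ω, φ ω.out (w ω) := rfl

theorem act_pim {g : A} {w w' : A ⧸ H → W}
    (h : ∀ ω, (w' (g • ω) : V) = φ (coc H g ω) (w ω)) : φ g (pim φ H W w) = pim φ H W w' := by
  rw [pim_apply, pim_apply, map_prod]
  refine Fintype.prod_equiv (MulAction.toPerm g) _ _ fun ω => ?_
  rw [MulAction.toPerm_apply, h, ← act_mul, ← act_mul, coc_val]
  simp [mul_assoc]

/-- the translate of a family -/
noncomputable def tr (hi : InvBy φ H W) (g : A) (w : A ⧸ H → W) (ω : A ⧸ H) : W :=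
  res φ H W hi (coc H g (g⁻¹ • ω)) (w (g⁻¹ • ω))

omit [Fintype (A ⧸ H)] in
theorem tr_smul (hi : InvBy φ H W) (g : A) (w : A ⧸ H → W) (ω : A ⧸ H) :
    (tr hi g w (g • ω) : V) = φ (coc H g ω) (w ω) := by
  unfold tr
  rw [inv_smul_smul]; rfl

theorem act_pim' (hi : InvBy φ H W) (g : A) (w : A ⧸ H → W) :
    φ g (pim φ H W w) = pim φ H W (tr hi g w) := act_pim (tr_smul hi g w)

theorem pim_single [DecidableEq (A ⧸ H)] (ω : A ⧸ H) (w : W) :
    pim φ H W (Pi.mulSingle ω w) = φ ω.out w := by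
  rw [pim_apply, Finset.prod_eq_single ω]
  · simp
  · intro b _ hb
    rw [Pi.mulSingle_eq_of_ne hb]; simp
  · simp

theorem inv_range_pim (hi : InvBy φ H W) : Inv φ (pim φ H W).range := by
  rintro a _ ⟨w, rfl⟩
  exact ⟨_, (act_pim' hi a w).symm⟩

/-- fixed points of a subgroup -/
def fixS (φ : A →* MulAut V) (B : Subgroup A) : Subgroup V where
  carrier := {v | ∀ b ∈ B, φ b v = v}
  one_mem' b _ := map_one _
  mul_mem' ha hb b h := by rw [map_mul, ha b h, hb b h]
  inv_mem' ha b h := by rw [map_inv, ha b h]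

theorem invBy_normalizer (B : Subgroup A) : InvBy φ (normalizer (B : Set A)) (fixS φ B) := by
  intro n hn v hv b hb
  rw [← act_mul, show b * n = n * (n⁻¹ * b * n) by group, act_mul,
    hv _ (conj_mem_of_mem_normalizer' hn hb)]

theorem pim_injective_of_max [Finite A] {L B : Subgroup A} [hL : L.Normal]
    (hc : ∀ a ∈ L, ∀ b ∈ L, a * b = b * a) (hB : B ≤ L)
    (hmax : ∀ x ∈ L, ∀ v ∈ fixS φ B, v ≠ 1 → φ x v = v → x ∈ B)
    [Fintype (A ⧸ normalizer (B : Set A))] :
    Function.Injective (pim φ (normalizer (B : Set A)) (fixS φ B)) := by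
  rw [injective_iff_map_eq_one]
  intro w hw
  have key := indep (φ := φ) (W := fun ω : A ⧸ normalizer (B : Set A) =>
    (fixS φ B).comap (φ ω.out⁻¹).toMonoidHom) (fun i j hij => by
      have h1 : ∃ b ∈ B, j.out⁻¹ * i.out * b * (j.out⁻¹ * i.out)⁻¹ ∉ B := by
        by_contra hne
        push Not at hne
        apply hij
        rw [← i.out_eq, ← j.out_eq, eq_comm]
        exact QuotientGroup.eq.2 (mem_normalizer_of_conj_mem hne)
      obtain ⟨b, hb, h2⟩ := h1
      refine ⟨i.out * b * i.out⁻¹, fun v hv => ?_, fun v hv e => ?_, fun k v hv c hc' => ?_⟩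
      · rw [act_mul, act_mul]
        have := hv b hb
        change φ b (φ i.out⁻¹ v) = φ i.out⁻¹ v at this
        rw [this, act_act_inv]
      · by_contra hv1
        refine h2 (hmax _ (hL.conj_mem _ (hB hb) _) (φ j.out⁻¹ v) hv
          (fun e1 => hv1 ((φ j.out⁻¹).injective (e1.trans (map_one _).symm))) ?_)
        rw [← act_mul]
        conv_rhs => rw [← e, ← act_mul]
        congr 2
        group
      · have h3 := hv c hc'
        change φ c (φ k.out⁻¹ v) = φ k.out⁻¹ v at h3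
        change φ c (φ k.out⁻¹ (φ _ v)) = φ k.out⁻¹ (φ _ v)
        have h4 := hc c (hB hc') _ (hL.conj_mem _ (hB hb) (k.out⁻¹ * i.out))
        have h5 : ∀ u : V, φ k.out⁻¹ (φ (i.out * b * i.out⁻¹) u) =
            φ (k.out⁻¹ * i.out * b * (k.out⁻¹ * i.out)⁻¹) (φ k.out⁻¹ u) := fun u => by
          rw [← act_mul, ← act_mul]; congr 2; group
        rw [h5, ← act_mul, h4, act_mul, h3]) Finset.univ (fun ω => φ ω.out (w ω))
    (fun ω => by
      change φ ω.out⁻¹ (φ ω.out _) ∈ fixS φ B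
      rw [act_inv_act]; exact (w ω).2) hw
  funext ω
  exact Subtype.ext ((φ ω.out).injective ((key ω (Finset.mem_univ _)).trans (map_one _).symm))

theorem card_pow_le [Finite V] (h : Function.Injective (pim φ H W)) :
    Nat.card W ^ H.index ≤ Nat.card V := by
  have := Nat.card_le_card_of_injective _ h
  rwa [Nat.card_fun] at this

theorem exists_lift {N : Subgroup A} [Fintype (A ⧸ N)] (hNH : N ≤ H) {W0 : Subgroup V}
    (hi : InvBy φ N W0) (h : Function.Injective (pim φ N W0)) (h0 : W0 ≠ ⊥) :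
    ∃ W : Subgroup V, W ≠ ⊥ ∧ InvBy φ H W ∧ Function.Injective (pim φ H W) := by
  classical
  let q : A ⧸ N → A ⧸ H := quotientMapOfLE hNH
  have hq : ∀ (a : A) (j : A ⧸ N), q (a • j) = a • q j := fun a j => by
    obtain ⟨x, rfl⟩ := QuotientGroup.mk_surjective j
    rfl
  let S : A ⧸ H → Subgroup (A ⧸ N → W0) := fun ω =>
    { carrier := {f | ∀ j, q j ≠ ω → f j = 1}
      one_mem' := fun _ _ => rfl
      mul_mem' := fun {a b} ha hb j hj => by rw [Pi.mul_apply, ha j hj, hb j hj, one_mul]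
      inv_mem' := fun {a} ha j hj => by rw [Pi.inv_apply, ha j hj, inv_one] }
  have hS : ∀ (a : A) ω, ∀ f ∈ S ω, tr hi a f ∈ S (a • ω) := by
    intro a ω f hf j hj
    unfold tr
    rw [hf _ (fun e => hj (by rw [← e, hq, smul_inv_smul])), map_one]
  refine ⟨(S ((1 : A) : A ⧸ H)).map (pim φ N W0), ?_, ?_, ?_⟩
  · obtain ⟨w, hw⟩ := ne_bot_iff_exists_ne_one.1 h0
    intro e
    have h1 : pim φ N W0 (Pi.mulSingle ((1 : A) : A ⧸ N) w) ∈ (⊥ : Subgroup V) := by
      rw [← e]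
      refine mem_map_of_mem _ fun j hj => Pi.mulSingle_eq_of_ne (fun e => hj ?_) _
      rw [e]; rfl
    rw [mem_bot, pim_single] at h1
    exact hw (Subtype.ext ((φ _).injective (h1.trans (map_one _).symm)))
  · rintro a ha _ ⟨f, hf, rfl⟩
    rw [act_pim' hi]
    have := hS a _ f hf
    rw [MulAction.Quotient.smul_mk, smul_eq_mul, mul_one,
      (QuotientGroup.eq (b := (1 : A))).2 (by simpa using ha)] at this
    exact mem_map_of_mem _ this
  · rw [injective_iff_map_eq_one]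
    intro w hw
    have h1 : ∀ ω, ∃ f ∈ S ω, pim φ N W0 f = φ ω.out (w ω) := by
      intro ω
      obtain ⟨f, hf, e⟩ := (w ω).2
      refine ⟨tr hi ω.out f, ?_, by rw [← act_pim' hi, e]⟩
      have := hS ω.out _ f hf
      rwa [MulAction.Quotient.smul_mk, smul_eq_mul, mul_one, QuotientGroup.out_eq'] at this
    choose f hf e using h1
    have h2 : ∏ ω, f ω = 1 := by
      apply h
      rw [map_prod, map_one, ← hw, pim_apply]
      exact Finset.prod_congr rfl fun ω _ => e ω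
    funext ω
    have h3 : f ω = 1 := by
      funext j
      by_cases hj : q j = ω
      · have := congrFun h2 j
        rw [Finset.prod_apply, Finset.prod_eq_single ω (fun b _ hb => hf b j (hj ▸ hb.symm))
          (by simp)] at this
        exact this
      · exact hf ω j hj
    have h4 := e ω
    rw [h3, map_one] at h4
    exact Subtype.ext ((φ _).injective (h4.symm.trans (map_one _).symm))

/-- a system of imprimitivity -/
structure Sys (φ : A →* MulAut V) (H : Subgroup A) [Fintype (A ⧸ H)] (W : Subgroup V) : Prop where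
  inv : InvBy φ H W
  bij : Function.Bijective (pim φ H W)

theorem Sys.card (h : Sys φ H W) : Nat.card V = Nat.card W ^ H.index := by
  rw [← Nat.card_congr (Equiv.ofBijective _ h.bij), Nat.card_fun]; rfl

theorem Sys.act (h : Sys φ H W) {g : A} {w w' : A ⧸ H → W}
    (e : φ g (pim φ H W w) = pim φ H W w') (ω : A ⧸ H) :
    res φ H W h.inv (coc H g ω) (w ω) = w' (g • ω) := by
  rw [act_pim' h.inv] at e
  rw [← h.bij.1 e]
  exact Subtype.ext (tr_smul _ _ _ _).symm

theorem Sys.mem_ker (h : Sys φ H W) {g : A} (h1 : ∀ ω : A ⧸ H, g • ω = ω)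
    (h2 : ∀ ω, coc H g ω ∈ (res φ H W h.inv).ker) : g ∈ φ.ker := by
  rw [mem_ker_iff]
  intro v
  obtain ⟨w, rfl⟩ := h.bij.2 v
  refine act_pim fun ω => ?_
  rw [h1, (mem_ker_res h.inv).1 (h2 ω) _ (w ω).2]

theorem Sys.irr [Finite V] (h : Sys φ H W) (hirr : Irr φ) : Irr (res φ H W h.inv) := by
  classical
  intro W' hW'
  refine or_iff_not_imp_left.2 fun h0 => ?_
  have hi : Inv φ ((Subgroup.pi Set.univ fun _ => W').map (pim φ H W)) := by
    rintro a _ ⟨w, hw, rfl⟩
    rw [act_pim' h.inv]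
    exact mem_map_of_mem _ fun ω _ => hW' _ _ (hw _ (Set.mem_univ _))
  rcases hirr _ hi with e | e
  · obtain ⟨w, hw⟩ := ne_bot_iff_exists_ne_one.1 h0
    have h1 : pim φ H W (Pi.mulSingle ((1 : A) : A ⧸ H) w) ∈ (⊥ : Subgroup V) := by
      rw [← e]
      refine mem_map_of_mem _ fun j _ => ?_
      rw [Pi.mulSingle_apply]
      split_ifs
      exacts [w.2, W'.one_mem]
    rw [mem_bot, pim_single] at h1
    exact absurd (Subtype.ext (Subtype.ext ((φ _).injective (h1.trans (map_one _).symm)))) hw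
  · rw [eq_top_iff]
    intro w _
    have h1 : pim φ H W (fun _ => w) ∈ (⊤ : Subgroup V) := mem_top _
    rw [← e] at h1
    obtain ⟨f, hf, e1⟩ := h1
    rw [h.bij.1 e1] at hf
    exact hf ((1 : A) : A ⧸ H) (Set.mem_univ _)

omit [Fintype (A ⧸ H)] in
/-- conjugation of the kernel of the permutation action into `H` -/
theorem exists_conjHom (T : Subgroup A) (hT : ∀ g ∈ T, ∀ ω : A ⧸ H, g • ω = ω) (ω : A ⧸ H) :
    ∃ f : T →* H, ∀ t : T, f t = coc H t ω := by
  refine ⟨⟨⟨fun t => coc H t ω, Subtype.ext ?_⟩, fun a b => Subtype.ext ?_⟩, fun _ => rfl⟩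
  · simp [coc_val]
  · simp [coc_val, hT _ a.2, hT _ b.2, mul_smul, mul_assoc]

theorem Sys.ds_le (h : Sys φ H W) {T : Subgroup A} (hT : ∀ g ∈ T, ∀ ω : A ⧸ H, g • ω = ω)
    {a : ℕ} (h1 : ∀ ω (S : Subgroup H), (∀ s ∈ S, ∃ t ∈ T, s = coc H t ω) →
      ds S a ≤ (res φ H W h.inv).ker) : ds T a ≤ φ.ker := by
  intro g hg
  refine h.mem_ker (hT g (SLin.ds_le _ _ hg)) fun ω => ?_
  obtain ⟨f, hf⟩ := exists_conjHom T hT ω
  obtain ⟨hgT, h2⟩ := mem_ds_subgroupOf le_rfl hg
  have h3 := mem_ds_map f h2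
  rw [hf] at h3
  refine h1 ω _ ?_ h3
  rintro _ ⟨t, -, rfl⟩
  exact ⟨t, t.2, hf t⟩

theorem Sys.prof (h : Sys φ H W) {k m a b : ℕ} (h1 : Prof (res φ H W h.inv) k a)
    (h2 : CProf A (A ⧸ H) k m b) : Prof φ m (b + a) := by
  obtain ⟨y, y1, y2⟩ := h1
  obtain ⟨c, c1, c2⟩ := h2
  refine ⟨fun i => pim φ H W fun ω => y (c i ω),
    fun i j g e => c1 i j g fun ω => (y1 _ _ _ (h.act e ω)).symm, fun i T hT => ?_⟩
  have h3 := c2 i T fun g hg ω => (y1 _ _ _ (h.act (hT g hg) ω)).symm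
  rw [ds_add]
  refine h.ds_le h3 fun ω S hS => y2 (c i ω) S fun s hs => ?_
  obtain ⟨t, ht, rfl⟩ := hS s hs
  have := h.act (hT t (SLin.ds_le _ _ ht)) ω
  rwa [h3 t ht] at this

theorem Sys.dl (h : Sys φ H W) {a b : ℕ} (h1 : ds ⊤ a ≤ (res φ H W h.inv).ker)
    (h2 : ∀ g ∈ ds (⊤ : Subgroup A) b, ∀ ω : A ⧸ H, g • ω = ω) : ds ⊤ (b + a) ≤ φ.ker := by
  rw [ds_add]
  exact h.ds_le h2 fun ω S _ => (ds_mono le_top a).trans h1

theorem Sys.index_le [Finite A] (h : Sys φ H W) : φ.ker.index ≤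
    (res φ H W h.inv).ker.index ^ H.index * (MulAction.toPermHom A (A ⧸ H)).ker.index := by
  set K := (MulAction.toPermHom A (A ⧸ H)).ker
  have hK : ∀ g ∈ K, ∀ ω : A ⧸ H, g • ω = ω := fun g hg ω => Equiv.congr_fun hg ω
  choose f hf using exists_conjHom K hK
  let F : K →* (A ⧸ H → (res φ H W h.inv).range) :=
    Pi.monoidHom fun ω => (res φ H W h.inv).rangeRestrict.comp (f ω)
  have h1 : F.ker ≤ φ.ker.subgroupOf K := by
    intro g hg
    refine h.mem_ker (hK g g.2) fun ω => ?_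
    rw [K.subtype_apply, ← hf]
    exact congrArg Subtype.val (congrFun hg ω)
  have h2 : φ.ker.relIndex K ≤ (res φ H W h.inv).ker.index ^ H.index := by
    have : Finite (res φ H W h.inv).range :=
      Finite.of_surjective _ (res φ H W h.inv).rangeRestrict_surjective
    refine (Nat.le_of_dvd (Nat.pos_of_ne_zero index_ne_zero_of_finite)
      (index_dvd_of_le h1)).trans ?_
    rw [index_ker, index_ker]
    refine (card_le_card_group _).trans ?_
    rw [Nat.card_fun]; rfl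
  refine le_trans ?_ (Nat.mul_le_mul_right _ h2)
  rw [← inf_relIndex_right, relIndex_mul_index inf_le_right]
  exact Nat.le_of_dvd (Nat.pos_of_ne_zero index_ne_zero_of_finite) (index_dvd_of_le inf_le_left)

/-- every abelian normal subgroup acts semiregularly -/
def FP (φ : A →* MulAut V) : Prop :=
  ∀ U : Subgroup A, U.Normal → (∀ a ∈ U, ∀ b ∈ U, a * b = b * a) →
    ∀ u ∈ U, ∀ v, v ≠ 1 → φ u v = v → u = 1

theorem exists_max_fix [Finite A] (L B0 : Subgroup A) (h0 : B0 ≤ L) (h1 : fixS φ B0 ≠ ⊥) :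
    ∃ B, B0 ≤ B ∧ B ≤ L ∧ fixS φ B ≠ ⊥ ∧
      ∀ x ∈ L, ∀ v ∈ fixS φ B, v ≠ 1 → φ x v = v → x ∈ B := by
  obtain ⟨B, h2, h3⟩ := exists_maximal_ge_of_wellFoundedGT
    (fun B : Subgroup A => B ≤ L ∧ fixS φ B ≠ ⊥) B0 ⟨h0, h1⟩
  refine ⟨B, h2, h3.1.1, h3.1.2, fun x hx v hv hv1 e => ?_⟩
  let S : Subgroup A := (MulAction.stabilizer (MulAut V) v).comap φ
  have h4 : B ⊔ zpowers x ≤ S := sup_le (fun b hb => hv b hb) (zpowers_le.2 e)
  refine h3.2 (y := B ⊔ zpowers x) ⟨sup_le h3.1.1 (zpowers_le.2 hx), fun e1 => hv1 ?_⟩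
    le_sup_left (mem_sup_right (mem_zpowers x))
  rw [← mem_bot, ← e1]
  exact fun b hb => h4 hb

theorem fp_or_sys [Finite A] [Finite V] (hφ : Function.Injective φ) (hirr : Irr φ) :
    FP φ ∨ ∃ (H : Subgroup A) (_ : Fintype (A ⧸ H)) (W : Subgroup V),
      IsCoatom H ∧ W ≠ ⊥ ∧ Sys φ H W := by
  refine or_iff_not_imp_left.2 fun hne => ?_
  unfold FP at hne
  push Not at hne
  obtain ⟨U, hU, hc, u, hu, v, hv, e, hu1⟩ := hne
  obtain ⟨B, h1, h2, h3, h4⟩ := exists_max_fix (φ := φ) U (zpowers u) (zpowers_le.2 hu) (by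
    intro e1
    apply hv
    rw [← mem_bot, ← e1]
    exact fun b hb => (zpowers_le (H := (MulAction.stabilizer (MulAut V) v).comap φ)).2 e hb)
  have h5 : normalizer (B : Set A) ≠ ⊤ := by
    intro e1
    rcases hirr (fixS φ B) (fun a => invBy_normalizer B a (e1 ▸ mem_top a)) with e2 | e2
    · exact h3 e2
    · refine hu1 (hφ ?_)
      rw [map_one]
      exact MulEquiv.ext fun w => (e2 ▸ mem_top w : w ∈ fixS φ B) u (h1 (mem_zpowers u))
  obtain ⟨H, hH, h6⟩ := (eq_top_or_exists_le_coatom (normalizer (B : Set A))).resolve_left h5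
  have := Fintype.ofFinite (A ⧸ normalizer (B : Set A))
  have := Fintype.ofFinite (A ⧸ H)
  obtain ⟨W, h7, h8, h9⟩ := exists_lift h6 (invBy_normalizer B)
    (pim_injective_of_max hc h2 h4) h3
  refine ⟨H, this, W, hH, h7, h8, h9, ?_⟩
  rw [← MonoidHom.range_eq_top]
  refine (hirr _ (inv_range_pim h8)).resolve_left fun e1 => h7 ?_
  rw [eq_bot_iff]
  intro w hw
  have h10 : pim φ H W (fun _ => ⟨w, hw⟩) ∈ (⊥ : Subgroup V) := e1 ▸ ⟨_, rfl⟩
  have h11 := h9 ((mem_bot.1 h10).trans (map_one _).symm)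
  exact congrArg Subtype.val (congrFun h11 ((1 : A) : A ⧸ H))

end CfsgLib.SLin
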