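import Cfsg.Agent.Lib.SLin.Kp

/-!
# Class numbers of solvable groups and primes dividing the index of the Fitting subgroup
-/

set_option autoImplicit false

namespace CfsgLib.SLin

open Subgroup Cfsg
open scoped commutatorElement

universe u

section gen
variable {A V : Type*} [Group A] [CommGroup V] {φ : A →* MulAut V}

theorem exists_min_inv [Finite V] [Nontrivial V] (φ : A →* MulAut V) (S : Subgroup A) :
    ∃ W : Subgroup V, W ≠ ⊥ ∧ InvBy φ S W ∧ ∀ K, InvBy φ S K → K ≤ W → K = ⊥ ∨ K = W := by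
  obtain ⟨W, -, h1⟩ := exists_minimal_le_of_wellFoundedLT
    (fun K : Subgroup V => K ≠ ⊥ ∧ InvBy φ S K) ⊤ ⟨top_ne_bot, fun _ _ _ _ => mem_top _⟩
  exact ⟨W, h1.1.1, h1.1.2, fun K h2 h3 => or_iff_not_imp_left.2 fun h4 =>
    le_antisymm h3 (h1.2 (y := K) ⟨h4, h2⟩ h3)⟩

theorem irr_res_of_min {S : Subgroup A} {W : Subgroup V} (hi : InvBy φ S W)
    (h : ∀ K, InvBy φ S K → K ≤ W → K = ⊥ ∨ K = W) : Irr (res φ S W hi) := by
  intro K hK
  refine (h (K.map W.subtype) (by
    rintro a ha _ ⟨w, hw, rfl⟩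
    exact ⟨_, hK ⟨a, ha⟩ w hw, rfl⟩) (map_subtype_le _)).imp
      (Subgroup.map_eq_bot_iff_of_injective _ W.subtype_injective).1 fun e => ?_
  rw [eq_top_iff]
  intro w _
  obtain ⟨y, hy, e1⟩ := e.ge w.2
  exact (Subtype.ext e1 : y = w) ▸ hy

theorem Irr.cr_normal [Finite V] (hirr : Irr φ) (C : Subgroup A) [hC : C.Normal] :
    CR (φ.comp C.subtype) := by
  intro W hW
  obtain ⟨W', -, h1⟩ := exists_maximal_ge_of_wellFoundedGT
    (fun K : Subgroup V => Inv (φ.comp C.subtype) K ∧ Disjoint W K) ⊥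
    ⟨fun a w hw => by rw [mem_bot.1 hw, map_one]; exact one_mem _, disjoint_bot_right⟩
  refine ⟨W', h1.1.1, h1.1.2, codisjoint_iff.2 ?_⟩
  by_contra hne
  have : Nontrivial V := not_subsingleton_iff_nontrivial.1 fun _ => hne (Subsingleton.elim _ _)
  obtain ⟨W0, h2, h3, h4⟩ := exists_min_inv φ C
  have hY : ∀ c ∈ C, ∀ v ∈ W ⊔ W', φ c v ∈ W ⊔ W' := fun c hc v hv => by
    obtain ⟨a, ha, b, hb, rfl⟩ := mem_sup.1 hv
    rw [map_mul]
    exact mul_mem (mem_sup_left (hW ⟨c, hc⟩ a ha)) (mem_sup_right (h1.1.1 ⟨c, hc⟩ b hb))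
  obtain ⟨g, hg⟩ : ∃ g, ¬ W0 ≤ (W ⊔ W').comap (φ g).toMonoidHom := by
    by_contra h5
    push Not at h5
    rcases hirr (⨅ g, (W ⊔ W').comap (φ g).toMonoidHom) (fun a w hw => mem_iInf.2 fun g => by
      have := mem_iInf.1 hw (g * a)
      change φ (g * a) w ∈ W ⊔ W' at this
      rwa [act_mul] at this) with e | e
    · exact h2 (eq_bot_iff.2 (e ▸ le_iInf h5))
    · refine hne (eq_top_iff.2 fun v _ => ?_)
      have : φ 1 v ∈ W ⊔ W' := mem_iInf.1 (e.ge (mem_top v)) 1
      rwa [act_one] at this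
  have h5 := (h4 (W0 ⊓ (W ⊔ W').comap (φ g).toMonoidHom) (fun c hc v hv => ⟨h3 c hc v hv.1, by
    change φ g (φ c v) ∈ W ⊔ W'
    rw [← act_mul, show g * c = g * c * g⁻¹ * g by group, act_mul]
    exact hY _ (hC.conj_mem c hc g) _ hv.2⟩) inf_le_left).resolve_right
      fun e => hg (e.ge.trans inf_le_right)
  refine hg (map_le_iff_le_comap.1 ((le_sup_right.trans (h1.2
    (y := W' ⊔ W0.map (φ g).toMonoidHom) ⟨fun c v hv => ?_, disjoint_def.2 fun {w} hw hw' => ?_⟩
    le_sup_left)).trans le_sup_right))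
  · obtain ⟨a, ha, _, ⟨b, hb, rfl⟩, rfl⟩ := mem_sup.1 hv
    rw [map_mul]
    refine mul_mem (mem_sup_left (h1.1.1 c a ha)) (mem_sup_right ⟨φ (g⁻¹ * c * g) b,
      h3 _ (by simpa using hC.conj_mem c c.2 g⁻¹) b hb, ?_⟩)
    change φ g _ = φ c (φ g b)
    rw [act_mul, act_mul, act_act_inv]
  · obtain ⟨a, ha, _, ⟨b, hb, rfl⟩, rfl⟩ := mem_sup.1 hw'
    have h6 : b = 1 := mem_bot.1 (h5.le ⟨hb, by
      have := mul_mem (mem_sup_right (S := W) (W'.inv_mem ha)) (mem_sup_left hw)
      rwa [inv_mul_cancel_left] at this⟩)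
    rw [h6, map_one, mul_one] at hw ⊢
    exact disjoint_def.1 h1.1.2 hw ha

theorem dom_of_irr (hirr : Irr φ) {U : Subgroup A} (h : ∀ a, ∀ u ∈ U, φ (a * u) = φ (u * a)) :
    Dom (Rg φ U) := by
  intro ρ hρ v hv e
  rcases hirr (em ρ).ker (fun a w hw => by
    rw [MonoidHom.mem_ker] at hw ⊢
    rw [← Rg_comm_sg (h a) hρ, hw, map_one]) with e1 | e1
  · exact absurd (mem_bot.1 (e1.le e)) hv
  · exact em_ext fun w => (e1.ge (mem_top w) : w ∈ (em ρ).ker)

theorem em_sum_pow {ι : Type*} (S : Finset ι) (n : ι → ℕ) (a : A) (v : V) :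
    em (∑ i ∈ S, sg φ a ^ n i) v = ∏ i ∈ S, φ (a ^ n i) v := by
  classical
  induction S using Finset.induction_on with
  | empty => rfl
  | insert i S hi ih => rw [Finset.sum_insert hi, Finset.prod_insert hi, em_add, ih, ← map_pow, em_sg]

/-- the subring generated by an element -/
def Rz (φ : A →* MulAut V) (z : A) : Subring (En V) := Subring.closure {sg φ z}

theorem Rz_le (z : A) : Rz φ z ≤ Rg φ (zpowers z) :=
  Subring.closure_mono (Set.singleton_subset_iff.2 ⟨z, mem_zpowers z, rfl⟩)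

theorem sg_mem_Rz (z : A) : sg φ z ∈ Rz φ z := Subring.subset_closure rfl

theorem two_pow_le_Rz [Finite A] [Finite V] [Nontrivial V] {z : A} (hn : (zpowers z).Normal)
    (hf : ∀ y ∈ zpowers z, ∀ v, v ≠ 1 → φ y v = v → y = 1) :
    2 ^ (centralizer ({z} : Set A)).index ≤ Nat.card (Rz φ z) := by
  classical
  obtain ⟨W, h1, hi, h2⟩ := exists_min_inv φ (zpowers z)
  set ψ := res φ _ W hi
  have := (nontrivial_iff_ne_bot W).2 h1
  have := (dom_of_irr (irr_res_of_min hi h2) (U := ⊤) fun a u _ => by rw [mul_comm']).isDomain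
  letI : Field (Rg ψ ⊤) := (Finite.isDomain_to_isField _).toField
  set j := (centralizer ({z} : Set A)).index
  have e : (A ⧸ centralizer ({z} : Set A)) ≃ Fin j := Finite.equivFinOfCardEq rfl
  let y : Fin j → zpowers z := fun k => ⟨_, hn.conj_mem z (mem_zpowers z) (e.symm k).out⟩
  let f : Fin j → Rg ψ ⊤ := fun k => ⟨sg ψ (y k), sg_mem (mem_top _)⟩
  have hfi : Function.Injective f := by
    intro k l h3
    obtain ⟨w, hw⟩ := exists_ne (1 : W)
    have h4 : φ (y k) w = φ (y l) w := congrArg (fun ρ : Rg ψ ⊤ => (em ρ.1 w : V)) h3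
    have h5 := hf _ (mul_mem (inv_mem (y k).2) (y l).2) w (fun e => hw (Subtype.ext e))
      (by rw [act_mul, ← h4, act_inv_act])
    apply e.symm.injective
    rw [← (e.symm k).out_eq, ← (e.symm l).out_eq]
    refine QuotientGroup.eq.2 (mem_centralizer_singleton_iff.2 (Eq.symm ?_))
    have h6 : (e.symm k).out * z * (e.symm k).out⁻¹ = (e.symm l).out * z * (e.symm l).out⁻¹ :=
      inv_mul_eq_one.1 h5
    calc _ = (e.symm k).out⁻¹ * ((e.symm k).out * z * (e.symm k).out⁻¹) * (e.symm l).out := by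
          group
      _ = _ := by rw [h6]; group
  have h3 : Function.Injective fun S : Finset (Fin j) =>
      (⟨∑ i ∈ S, sg φ z ^ (i : ℕ), sum_mem fun i _ => pow_mem (sg_mem_Rz z) _⟩ : Rz φ z) := by
    intro S T h4
    have h5 : ∀ k, ∑ i ∈ S, f k ^ (i : ℕ) = ∑ i ∈ T, f k ^ (i : ℕ) := by
      intro k
      refine Subtype.ext (em_ext fun w => Subtype.ext ?_)
      have h6 := congrArg (fun ρ : Rz φ z => φ (e.symm k).out (em ρ.1 (φ (e.symm k).out⁻¹ w))) h4
      simp only [em_sum_pow, map_prod, ← act_mul, ← mul_assoc] at h6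
      push_cast
      simp only [f, em_sum_pow, y]
      push_cast
      simpa only [res_apply, ψ, SubmonoidClass.mk_pow, conj_pow] using h6
    have h6 := Matrix.eq_zero_of_forall_index_sum_mul_pow_eq_zero hfi
      (v := fun i => (if i ∈ S then 1 else 0) - (if i ∈ T then 1 else 0)) fun k => by
        simp [sub_mul, Finset.sum_sub_distrib, h5 k]
    ext i
    have h7 := congrFun h6 i
    by_cases a : i ∈ S <;> by_cases b : i ∈ T <;> simp_all
  have h4 := Nat.card_le_card_of_injective _ h3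
  simpa using h4

theorem Rz_res {W : Subgroup V} (hW : Inv φ W) {z : A} {ρ : En V} (hρ : ρ ∈ Rz φ z) :
    ∃ τ : Rz (resT φ W hW) z, ∀ w : W, em ρ w = em τ.1 w := by
  induction hρ using Subring.closure_induction with
  | mem x hx => exact ⟨⟨_, sg_mem_Rz z⟩, fun w => by rw [hx]; rfl⟩
  | zero => exact ⟨0, fun _ => rfl⟩
  | one => exact ⟨1, fun _ => rfl⟩
  | add x y _ _ h1 h2 =>
    obtain ⟨a, ha⟩ := h1
    obtain ⟨b, hb⟩ := h2
    exact ⟨a + b, fun w => by rw [em_add, ha, hb]; rfl⟩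
  | neg x _ h1 =>
    obtain ⟨a, ha⟩ := h1
    exact ⟨-a, fun w => by rw [em_neg, ha]; rfl⟩
  | mul x y _ _ h1 h2 =>
    obtain ⟨a, ha⟩ := h1
    obtain ⟨b, hb⟩ := h2
    exact ⟨a * b, fun w => by rw [em_mul, hb, ha]; rfl⟩

theorem card_Rz_le [Finite V] {W W' : Subgroup V} (hW : Inv φ W) (hW' : Inv φ W')
    (h : IsCompl W W') (z : A) : Nat.card (Rz φ z) ≤
      Nat.card (Rz (resT φ W hW) z) * Nat.card (Rz (resT φ W' hW') z) := by
  choose f hf using fun ρ : Rz φ z => Rz_res hW ρ.2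
  choose g hg using fun ρ : Rz φ z => Rz_res hW' ρ.2
  rw [← Nat.card_prod]
  refine Nat.card_le_card_of_injective (fun ρ => (f ρ, g ρ)) fun ρ τ e =>
    Subtype.ext (em_ext fun v => ?_)
  obtain ⟨a, ha, b, hb, rfl⟩ := mem_sup.1 (h.sup_eq_top.ge (mem_top v))
  rw [map_mul, map_mul, hf ρ ⟨a, ha⟩, hf τ ⟨a, ha⟩, hg ρ ⟨b, hb⟩, hg τ ⟨b, hb⟩,
    (Prod.mk.inj e).1, (Prod.mk.inj e).2]

theorem cp_isCompl [Finite A] (hφ : Function.Injective φ) {W W' : Subgroup V} (hW : Inv φ W)
    (hW' : Inv φ W') (h : IsCompl W W') : cp (resT φ W hW) * cp (resT φ W' hW') ≤ cp φ := by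
  have : Finite (resT φ W hW).range := Finite.of_surjective _ (MonoidHom.rangeRestrict_surjective _)
  have : Finite (resT φ W' hW').range :=
    Finite.of_surjective _ (MonoidHom.rangeRestrict_surjective _)
  rw [cp_of_inj hφ, cp, cp, ← commProb_prod]
  refine cp_le_of_inj ((resT φ W hW).rangeRestrict.prod (resT φ W' hW').rangeRestrict)
    ((injective_iff_map_eq_one _).2 fun a ha => hφ ((ker_of_isCompl h
      ((mem_ker_resT hW).1 (congrArg (fun x => x.1.1) ha))
      ((mem_ker_resT hW').1 (congrArg (fun x => x.2.1) ha))).trans (map_one φ).symm))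

end gen

theorem cp_Rz (V A : Type u) [CommGroup V] [Finite V] [Group A] [Finite A] [Group.IsSolvable A]
    (φ : A →* MulAut V) (h : CR φ) : ∀ z, Nontrivial V → (∀ a, φ (a * z) = φ (z * a)) →
      (∀ i, 0 < i → i < 11 → ∀ v, φ (z ^ i) v = v → v = 1) →
      (Nat.card (Rz φ z) : ℚ) ≤ cp φ * Nat.card V := by
  refine cr_induction (P := fun V A _ _ _ _ φ => ∀ z, Nontrivial V →
    (∀ a, φ (a * z) = φ (z * a)) → (∀ i, 0 < i → i < 11 → ∀ v, φ (z ^ i) v = v → v = 1) →
      (Nat.card (Rz φ z) : ℚ) ≤ cp φ * Nat.card V)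
    (fun V A _ _ _ _ φ h1 z h2 h3 h4 => by
      have := h1 (φ.rangeRestrict z) h2 (by
        rintro ⟨_, a, rfl⟩
        exact (map_mul φ a z).symm.trans ((h3 a).trans (map_mul φ z a)))
        (fun i a b v e => h4 i a b v (by rw [map_pow]; exact e))
      rwa [cp_range] at this)
    (fun V A _ _ _ _ _ φ hφ hcr ih z _ h1 h2 => ?_) V A φ h
  rcases hcr.irr_or with hirr | ⟨W, W', h5, h6, h7, h8, h9, h10⟩
  · have h3 : Dom (Rz φ z) := (dom_of_irr hirr fun a u hu => by
      obtain ⟨i, rfl⟩ := hu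
      rw [((show Commute a z from hφ (h1 a)).zpow_right i).eq]).mono (Rz_le z)
    refine (cp_main V A φ hcr z _ hirr ‹_› ⟨h1, fun W hW h0 => ?_⟩ ?_).1
    · obtain ⟨⟨v, hv⟩, hv1⟩ := ne_bot_iff_exists_ne_one.1 h0
      rw [← h3.card_orbS (v := v) fun e => hv1 (Subtype.ext e)]
      refine card_le_of_le ?_
      rintro _ ⟨ρ, hρ, rfl⟩
      exact Rg_inv ((zpowers_le (H := stabS φ W)).2 hW) (Rz_le z hρ) v hv
    · obtain ⟨v, hv⟩ := exists_ne (1 : V)
      have key : ∀ i k : Fin 11, i < k → sg φ z ^ (i : ℕ) ≠ sg φ z ^ (k : ℕ) := fun i k hik e => by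
        have h4 : φ (z ^ (i : ℕ)) v = φ (z ^ (k : ℕ)) v := by
          rw [← em_sg, ← em_sg, map_pow, map_pow, e]
        rw [show (k : ℕ) = i + (k - i) by omega, pow_add, act_mul] at h4
        exact hv (h2 _ (by omega) (by omega) v ((φ _).injective h4).symm)
      have := Nat.card_le_card_of_injective (fun i : Fin 11 =>
        (⟨sg φ z ^ (i : ℕ), pow_mem (sg_mem_Rz z) _⟩ : Rz φ z)) fun i k e => by
          by_contra hne
          rcases lt_or_gt_of_ne hne with h4 | h4
          · exact key i k h4 (congrArg Subtype.val e)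
          · exact key k i h4 (congrArg Subtype.val e).symm
      rwa [Nat.card_fin] at this
  · have key : ∀ (K : Subgroup V) (hK : Inv φ K), 2 ≤ Nat.card K → Nat.card K < Nat.card V →
        (Nat.card (Rz (resT φ K hK) z) : ℚ) ≤ cp (resT φ K hK) * Nat.card K := fun K hK a b =>
      ih K A _ b (hcr.resT hK) z (Finite.one_lt_card_iff_nontrivial.1 a)
        (fun g => MulEquiv.ext fun w => Subtype.ext (MulEquiv.congr_fun (h1 g) w))
        fun i c d v e => Subtype.ext (h2 i c d v (congrArg Subtype.val e))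
    have a1 := key W h5 h8 (by nlinarith)
    have a2 := key W' h6 h9 (by nlinarith)
    have a3 : (Nat.card (Rz φ z) : ℚ) ≤ _ := Nat.cast_le.2 (card_Rz_le h5 h6 h7 z)
    rw [Nat.cast_mul] at a3
    refine a3.trans ((mul_le_mul a1 a2 (by positivity) (le_trans (by positivity) a1)).trans ?_)
    rw [← h10, Nat.cast_mul, mul_mul_mul_comm]
    exact mul_le_mul_of_nonneg_right (cp_isCompl hφ h5 h6 h7) (by positivity)

theorem num_zp {p j k n h N : ℕ} (h0 : 0 < h) (h1 : p ^ 3 ≤ 2 ^ j) (h2 : 2 ≤ N)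
    (h3 : N ≤ n * h + 1) (h4 : 2 ^ j * h ≤ k * j ^ 2 * N) : p ≤ (k + n) * 10 := by
  have a1 : j ^ 6 ≤ 8000000 * 2 ^ j := by
    by_cases h5 : 9 ≤ j
    · obtain ⟨t, rfl⟩ := Nat.exists_eq_add_of_le h5
      have := grow (k := 6) (e0 := 9) (c := 2) (A := 600000) (by norm_num) (by norm_num)
        (by norm_num) (by norm_num) t
      rw [pow_add]
      omega
    · have := Nat.pow_le_pow_left (not_le.1 h5).le 6
      have : 1 ≤ 2 ^ j := Nat.one_le_two_pow
      omega
  have a2 : p ^ 2 * j ^ 2 ≤ 200 * 2 ^ j := by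
    refine (Nat.pow_le_pow_iff_left three_ne_zero).1 ?_
    calc (p ^ 2 * j ^ 2) ^ 3 = (p ^ 3) ^ 2 * j ^ 6 := by ring
      _ ≤ (2 ^ j) ^ 2 * (8000000 * 2 ^ j) := Nat.mul_le_mul (Nat.pow_le_pow_left h1 2) a1
      _ = _ := by ring
  have a3 : 2 ^ j ≤ 2 * (k * n) * j ^ 2 := by
    refine Nat.le_of_mul_le_mul_right (h4.trans ?_) h0
    calc k * j ^ 2 * N ≤ k * j ^ 2 * (2 * (n * h)) := Nat.mul_le_mul_left _ (by omega)
      _ = _ := by ring
  have a4 : 0 < j ^ 2 := Nat.pos_of_ne_zero fun e => by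
    rw [e, mul_zero] at a3
    exact absurd a3 (not_le.2 (by positivity))
  have a5 : p ^ 2 ≤ 400 * (k * n) := Nat.le_of_mul_le_mul_right (by nlinarith) a4
  refine (Nat.pow_le_pow_iff_left two_ne_zero).1 (a5.trans ?_)
  nlinarith [sq_nonneg ((k : ℤ) - n)]

theorem fit_bound {p : ℕ} (hp : p.Prime) (h11 : 11 ≤ p) (G : Type u) [Group G] [Finite G] :
    Group.IsSolvable G → p ∣ (fittingSubgroup G).index →
      ∃ j, 2 ^ j ≤ p ^ 3 ∧ p ≤ Nat.card (ConjClasses G) * j := by
  refine card_induction (P := fun G _ _ => Group.IsSolvable G → p ∣ (fittingSubgroup G).index →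
      ∃ j, 2 ^ j ≤ p ^ 3 ∧ p ≤ Nat.card (ConjClasses G) * j) (fun G _ _ ih hs hd => ?_) G
  have := Fact.mk hp
  have h10 : 2 ^ 10 ≤ p ^ 3 := le_trans (by decide) (Nat.pow_le_pow_left h11 3)
  have mono : ∀ {k : ℕ}, k ≤ Nat.card (ConjClasses G) → (∃ j, 2 ^ j ≤ p ^ 3 ∧ p ≤ k * j) →
      ∃ j, 2 ^ j ≤ p ^ 3 ∧ p ≤ Nat.card (ConjClasses G) * j :=
    fun hk ⟨j, a, b⟩ => ⟨j, a, b.trans (Nat.mul_le_mul_right _ hk)⟩
  have : Nontrivial G := Finite.one_lt_card_iff_nontrivial.1
    (hp.one_lt.trans_le (Nat.le_of_dvd Nat.card_pos (hd.trans (index_dvd_card _))))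
  obtain ⟨N, hN⟩ := exists_isMinNormal (G := G)
  have := hN.1
  have := hN.isMulCommutative_of_isSolvable inferInstance
  by_cases h1 : p ∣ (fittingSubgroup (G ⧸ N)).index
  · exact mono (k_le_of_surj _ (QuotientGroup.mk'_surjective N))
      (ih (G ⧸ N) (card_quotient_lt hN.2.1) inferInstance h1)
  have h2 : p ∣ (centralizer (N : Set G)).index := by
    set F' := fittingSubgroup (G ⧸ N)
    have : Group.IsNilpotent F' := fitting_isNilpotent
    set D := centralizer (N : Set G) ⊓ F'.comap (QuotientGroup.mk' N)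
    have a1 : Group.IsNilpotent D := Subgroup.isNilpotent_of_ker_le_center
      (((QuotientGroup.mk' N).subgroupComap F').comp (inclusion inf_le_right)) fun x hx =>
        mem_center_iff.2 fun g => Subtype.ext (g.2.1 x ((QuotientGroup.eq_one_iff _).1
          (congrArg Subtype.val hx))).symm
    have a2 := hd.trans (index_dvd_of_le (le_fitting a1))
    rw [← relIndex_mul_index (inf_le_right : D ≤ _), inf_relIndex_right,
      index_comap_of_surjective _ (QuotientGroup.mk'_surjective N)] at a2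
    exact ((hp.dvd_mul.1 a2).resolve_right h1).trans (relIndex_dvd_index_of_normal _ _)
  obtain ⟨M, _, _, ψ, π, h3⟩ := exists_secD N ⊥
    (commutator_eq_bot_iff_le_centralizer.2 (le_centralizer N)).le
  rw [← h3.ker_bot, index_ker] at h2
  have : Finite ψ.range := Finite.of_surjective _ ψ.rangeRestrict_surjective
  have := Group.isSolvable_of_surjective ψ.rangeRestrict_surjective
  obtain ⟨n, h4, h5⟩ := h3.red
  have h6 : 2 ≤ Nat.card M := by
    rw [h3.card, relIndex_bot_left]; exact (one_lt_card_iff_ne_bot _).2 hN.2.1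
  have := Finite.one_lt_card_iff_nontrivial.1 h6
  have h7 := (h3.irr_of_min hN).range
  by_cases h8 : p ∣ (fittingSubgroup ψ.range).index
  · refine mono (by omega) (ih ψ.range ?_ inferInstance h8)
    rw [← index_ker, h3.ker_bot]
    exact card_quotient_lt fun e => hN.2.1 (eq_bot_iff.2 (e ▸ le_centralizer N))
  by_cases h9 : p ^ 2 ∣ Nat.card ψ.range
  · have := hk_bound hp ψ.range inferInstance h9
    exact ⟨10, h10, by omega⟩
  set H := ψ.range
  obtain ⟨z, hz, h12⟩ : ∃ z ∈ fittingSubgroup H, orderOf z = p := by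
    rw [← (fittingSubgroup H).card_mul_index] at h2
    obtain ⟨z, hz⟩ := exists_prime_orderOf_dvd_card' p ((hp.dvd_mul.1 h2).resolve_right h8)
    exact ⟨z, z.2, (orderOf_coe z).trans hz⟩
  have h13 : Nat.card (zpowers z) = p := by rw [Nat.card_zpowers, h12]
  have h14 : (zpowers z).Normal := by
    obtain ⟨i, hi⟩ := (pCore_isPGroup p : IsPGroup p (pCore p H)).exists_card_eq
    rw [eq_of_le_of_card_le (le_pCore_of_le_fitting (zpowers_le.2 hz)
      (IsPGroup.of_card (h13.trans (pow_one p).symm))) (by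
        rw [hi, h13]
        refine (Nat.pow_le_pow_right hp.pos ?_).trans_eq (pow_one p)
        by_contra h15
        exact h9 ((pow_dvd_pow p (not_le.1 h15)).trans (hi ▸ card_subgroup_dvd_card _)))]
    infer_instance
  have h15 : ∀ y ∈ zpowers z, ∀ v, v ≠ 1 → H.subtype y v = v → y = 1 := by
    intro y hy v hv e
    by_contra hne
    rcases h7 (fixS H.subtype (zpowers z)) (fun a => invBy_normalizer _ a
      (normalizer_eq_top (zpowers z) ▸ mem_top a)) with e1 | e1
    · refine hv (mem_bot.1 (e1.le fun b hb => ?_))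
      obtain ⟨i, hi⟩ := mem_zpowers_of_prime_card h13 (g := ⟨y, hy⟩)
        (fun e => hne (congrArg Subtype.val e)) (g' := ⟨b, hb⟩)
      have h16 : y ^ i = b := congrArg Subtype.val hi
      exact (show b ∈ stb H.subtype v from h16 ▸ zpow_mem (show y ∈ stb H.subtype v from e) i)
    · exact hne (Subtype.ext (MulEquiv.ext fun w => (e1.ge (mem_top w) : w ∈ fixS _ _) y hy))
  have h16 := two_pow_le_Rz h14 h15
  have hC : centralizer (zpowers z : Set H) = centralizer {z} := by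
    rw [zpowers_eq_closure, centralizer_closure]
  set C := centralizer ({z} : Set H)
  have : C.Normal := hC ▸ inferInstance
  by_cases h17 : 2 ^ C.index ≤ p ^ 3
  · obtain ⟨m, h18, h19⟩ := exists_orbits (QuotientGroup.mk' C) (QuotientGroup.mk'_surjective C)
      (V := zpowers z) (by rw [QuotientGroup.ker_mk', ← hC]; exact le_centralizer _)
      (by rw [QuotientGroup.ker_mk', hC])
    refine mono (k := m + 1) ?_ ⟨_, h17, ?_⟩
    · have : 0 < Nat.card (ConjClasses (H ⧸ C)) := Nat.card_pos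
      omega
    · have : 0 < C.index := Nat.pos_of_ne_zero index_ne_zero_of_finite
      change _ ≤ m * C.index + 1 at h19
      rw [add_mul]
      omega
  · have h18 := cp_Rz M C _ (h7.cr_normal C) ⟨z, fun _ e => by rw [e]⟩ ‹_›
      (fun a => congrArg _ (Subtype.ext (a.2 z rfl).symm)) fun i a b v e => by
        by_contra hv
        have := orderOf_dvd_of_pow_eq_one (h15 _ (pow_mem (mem_zpowers z) i) v hv e)
        have := Nat.le_of_dvd a this
        omega
    rw [cp_of_inj (φ := H.subtype.comp C.subtype) fun a b e =>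
      C.subtype_injective (H.subtype_injective e)] at h18
    have h19 : (2 : ℚ) ^ C.index ≤ commProb H * (C.index : ℚ) ^ 2 * Nat.card M :=
      le_trans (by exact_mod_cast h16) (h18.trans
        (mul_le_mul_of_nonneg_right (commProb_subgroup_le C) (by positivity)))
    refine mono h4 ⟨10, h10, num_zp Nat.card_pos (not_le.1 h17).le h6 h5 ?_⟩
    have h20 := mul_le_mul_of_nonneg_right h19 (Nat.cast_nonneg (Nat.card H))
    rw [mul_right_comm, mul_right_comm (commProb H), cp_mul_card] at h20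
    exact_mod_cast h20

end CfsgLib.SLin
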